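import Cfsg.Agent.Lib.Solv.ThreeBlock.PermFour
import Mathlib.GroupTheory.SpecificGroups.Alternating
import Mathlib.Algebra.Field.ZMod
import Mathlib.Data.Fintype.Prod
import Mathlib.Algebra.BigOperators.Fin
import Mathlib.Tactic.Group
import Mathlib.Tactic.Ring
import Mathlib.Tactic.FinCases
import Mathlib.Tactic.IntervalCases

/-!
# Signed permutations normalized by a three-cycle
-/

set_option autoImplicit false

namespace Cfsg.Agent.Solv.ThreeBlock

open Equiv

/-- The data of the group of order `32`. -/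
def Big {H : Type*} [Group H] (R : Subgroup H) : Prop :=
  Nat.card R = 32 ∧
    (∃ z ∈ R, z ≠ 1 ∧ (∀ g ∈ R, z * g = g * z) ∧
      (∀ g ∈ R, (∀ h ∈ R, g * h = h * g) → g = 1 ∨ g = z) ∧ ∀ g ∈ R, g ^ 2 = 1 ∨ g ^ 2 = z) ∧
    ∃ A : Subgroup H, A ≤ R ∧ (∀ x ∈ A, ∀ y ∈ A, x * y = y * x) ∧ (∀ x ∈ A, x ^ 2 = 1) ∧ Nat.card A = 8

/-- A group of order prime to three of signed permutations generated by the commutators with a
three-cycle has order at most `4` or is the group of order `32`. -/
theorem mon_struct {H : Type*} [Group H] [Finite H] {ι : Type*} [Fintype ι] [DecidableEq ι] (b : H) (R : Subgroup H)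
    (hb3 : b ^ 3 = 1) (bR : ∀ r ∈ R, b * r * b⁻¹ ∈ R)
    (gen : ∀ M : Subgroup H, (∀ r ∈ R, r * b * r⁻¹ * b⁻¹ ∈ M) → R ≤ M)
    (cop : (Nat.card R).Coprime 3) (solv : Group.IsSolvable R) (π : H →* Perm ι) (sg : H → ι → ZMod 3)
    (hpm : ∀ g i, sg g i = 1 ∨ sg g i = -1)
    (hmul : ∀ g h i, sg (g * h) i = sg h i * sg g (π h i))
    (i0 : ι) (h1 : π b i0 ≠ i0) (h2 : π b (π b i0) ≠ i0) (h3 : π b (π b (π b i0)) = i0)
    (hmove : ∀ i, π b i ≠ i → i = i0 ∨ i = π b i0 ∨ i = π b (π b i0))
    (htr : ∀ M : Subgroup H, b ∈ M → R ≤ M → ∀ i, ∃ g ∈ M, π g i0 = i)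
    (hdet : ∀ r ∈ R, π r = 1 → (∀ i, sg r i = 1) → r = 1)
    (hA : ∃ a ∈ R, π a = 1 ∧ sg a i0 = 1 ∧ sg a (π b i0) = -1) :
    Nat.card R ≤ 4 ∨ Big R := by
  classical
  set i1 := π b i0 with hi1
  set i2 := π b i1 with hi2
  have h21 : i2 ≠ i1 := fun h => h1 ((π b).injective h)
  have hbb : b * b * b = 1 := by rw [← hb3, pow_succ, pow_two]
  have hbinv : b⁻¹ = b * b := inv_eq_of_mul_eq_one_right (by rw [← mul_assoc, hbb])
  have bR' : ∀ r ∈ R, b⁻¹ * r * b ∈ R := fun r hr => by
    have := bR _ (bR r hr)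
    rwa [show b * (b * r * b⁻¹) * b⁻¹ = b⁻¹ * r * b by
      rw [show b * (b * r * b⁻¹) * b⁻¹ = (b * b) * r * (b * b)⁻¹ by group, ← hbinv, inv_inv]] at this
  -- the product of the signs
  have hsg1 : ∀ i, sg 1 i = 1 := fun i => by
    have := hmul 1 1 i
    rw [mul_one, map_one, Perm.one_apply] at this
    rcases hpm 1 i with h | h
    · exact h
    · rw [h] at this
      exact absurd this (by decide)
  have hPmul : ∀ g h, ∏ i, sg (g * h) i = (∏ i, sg g i) * ∏ i, sg h i := by
    intro g h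
    simp only [hmul, Finset.prod_mul_distrib]
    rw [Equiv.prod_comp (π h) (sg g), mul_comm]
  have hPinv : ∀ g, (∏ i, sg g i) * (∏ i, sg g⁻¹ i) = 1 := fun g => by
    rw [← hPmul, mul_inv_cancel]
    simp [hsg1]
  let kerP : Subgroup H :=
    { carrier := {g | ∏ i, sg g i = 1}
      one_mem' := by simp [hsg1]
      mul_mem' := fun {g h} hg hh => by
        simp only [Set.mem_setOf_eq] at hg hh ⊢
        rw [hPmul, hg, hh, one_mul]
      inv_mem' := fun {g} hg => by
        simp only [Set.mem_setOf_eq] at hg ⊢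
        have := hPinv g
        rwa [hg, one_mul] at this }
  have hP : ∀ r ∈ R, ∏ i, sg r i = 1 := fun r hr => by
    refine gen kerP (fun r _ => ?_) hr
    show ∏ i, sg (r * b * r⁻¹ * b⁻¹) i = 1
    rw [hPmul, hPmul, hPmul]
    calc _ = ((∏ i, sg r i) * (∏ i, sg r⁻¹ i)) * ((∏ i, sg b i) * (∏ i, sg b⁻¹ i)) := by ring
      _ = 1 := by rw [hPinv, hPinv, one_mul]
  have hsign : ∀ r ∈ R, Perm.sign (π r) = 1 := fun r hr => by
    refine Equiv.Perm.mem_alternatingGroup.1 (gen ((alternatingGroup ι).comap π) (fun r _ => ?_) hr)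
    rw [Subgroup.mem_comap, Equiv.Perm.mem_alternatingGroup]
    simp only [map_mul, map_inv]
    rw [mul_comm (Perm.sign (π r)) (Perm.sign (π b)), mul_assoc (Perm.sign (π b)), mul_inv_cancel, mul_one, mul_inv_cancel]
  have hsq1 : ∀ g i, sg g i * sg g i = 1 := fun g i => by
    rcases hpm g i with h | h <;> rw [h] <;> decide
  have hsginv : ∀ g i, sg g⁻¹ (π g i) = sg g i := fun g i => by
    have := hmul g⁻¹ g i
    rw [inv_mul_cancel, hsg1] at this
    calc sg g⁻¹ (π g i) = (sg g i * sg g i) * sg g⁻¹ (π g i) := by rw [hsq1, one_mul]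
      _ = _ := by rw [mul_assoc, ← this, mul_one]
  have hconj : ∀ g c i, π c = 1 → sg (g * c * g⁻¹) (π g i) = sg c i := by
    intro g c i hc
    rw [hmul, hmul, hsginv, map_inv, Equiv.Perm.inv_def, Equiv.symm_apply_apply, hc, Perm.one_apply]
    rw [← mul_assoc, mul_comm (sg g i), mul_assoc, hsq1, mul_one]
  -- the group of permutations
  set N := R.map π with hN
  have hNsol : Group.IsSolvable N := by
    haveI := solv
    exact Group.isSolvable_of_surjective (π.subgroupMap_surjective R)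
  have hNcop : (Nat.card N).Coprime 3 := cop.coprime_dvd_left (Subgroup.card_map_dvd R π)
  have hNnorm : ∀ n ∈ N, π b * n * (π b)⁻¹ ∈ N := by
    rintro _ ⟨r, hr, rfl⟩
    exact ⟨_, bR r hr, by simp⟩
  by_cases hfix : ∀ r ∈ R, π r i0 = i0
  · -- three points fixed by the group
    left
    have hf1 : ∀ r ∈ R, π r i1 = i1 := fun r hr => by
      have := hfix _ (bR' r hr)
      rw [map_mul, map_mul, map_inv, Perm.mul_apply, Perm.mul_apply, Perm.inv_eq_iff_eq, ← hi1] at this
      exact this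
    have hf2 : ∀ r ∈ R, π r i2 = i2 := fun r hr => by
      have := hf1 _ (bR' r hr)
      rw [map_mul, map_mul, map_inv, Perm.mul_apply, Perm.mul_apply, Perm.inv_eq_iff_eq, ← hi2] at this
      exact this
    let M : Subgroup H :=
      { carrier := {g | ∀ i, (i = i0 ∨ i = i1 ∨ i = i2) ↔ (π g i = i0 ∨ π g i = i1 ∨ π g i = i2)}
        one_mem' := fun i => by simp
        mul_mem' := fun {g h} hg hh i => by rw [hh i, hg (π h i), map_mul, Perm.mul_apply]
        inv_mem' := fun {g} hg i => by rw [hg (π g⁻¹ i)]; simp }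
    have hbM : b ∈ M := fun i => by
      constructor
      · rintro (rfl | rfl | rfl)
        · exact Or.inr (Or.inl rfl)
        · exact Or.inr (Or.inr rfl)
        · exact Or.inl h3
      · rintro (h | h | h)
        · exact Or.inr (Or.inr ((π b).injective (h.trans h3.symm)))
        · exact Or.inl ((π b).injective h)
        · exact Or.inr (Or.inl ((π b).injective h))
    have hRM : R ≤ M := fun r hr i => by
      constructor
      · rintro (rfl | rfl | rfl)
        · exact Or.inl (hfix r hr)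
        · exact Or.inr (Or.inl (hf1 r hr))
        · exact Or.inr (Or.inr (hf2 r hr))
      · rintro (h | h | h)
        · exact Or.inl ((π r).injective (h.trans (hfix r hr).symm))
        · exact Or.inr (Or.inl ((π r).injective (h.trans (hf1 r hr).symm)))
        · exact Or.inr (Or.inr ((π r).injective (h.trans (hf2 r hr).symm)))
    have hall : ∀ i, i = i0 ∨ i = i1 ∨ i = i2 := fun i => by
      obtain ⟨g, hg, rfl⟩ := htr M hbM hRM i
      exact (hg i0).1 (Or.inl rfl)
    have hker : ∀ r ∈ R, π r = 1 := fun r hr => Equiv.ext fun i => by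
      rcases hall i with rfl | rfl | rfl
      · exact hfix r hr
      · exact hf1 r hr
      · exact hf2 r hr
    let f : R → {x : ZMod 3 // x = 1 ∨ x = -1} × {x : ZMod 3 // x = 1 ∨ x = -1} :=
      fun r => (⟨sg (r : H) i0, hpm _ _⟩, ⟨sg (r : H) i1, hpm _ _⟩)
    have hinj : Function.Injective f := by
      intro r r' h
      simp only [f, Prod.mk.injEq, Subtype.mk.injEq] at h
      have hd : (r : H)⁻¹ * r' ∈ R := mul_mem (inv_mem r.2) r'.2
      have hval : ∀ i, sg ((r : H)⁻¹ * r') i = sg (r' : H) i * sg (r : H) i := fun i => by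
        rw [hmul, hker _ r'.2, Perm.one_apply]
        congr 1
        conv_lhs => rw [← show π (r : H) i = i by rw [hker _ r.2]; rfl]
        exact hsginv _ _
      have e0 : sg ((r : H)⁻¹ * r') i0 = 1 := by rw [hval, ← h.1, hsq1]
      have e1 : sg ((r : H)⁻¹ * r') i1 = 1 := by rw [hval, ← h.2, hsq1]
      have e2 : sg ((r : H)⁻¹ * r') i2 = 1 := by
        have huniv : (Finset.univ : Finset ι) = {i0, i1, i2} := by
          ext i
          simpa using hall i
        have := hP _ hd
        rw [huniv, Finset.prod_insert (by simp [Ne.symm h1, Ne.symm h2]), Finset.prod_insert (by simp [Ne.symm h21]),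
          Finset.prod_singleton, e0, e1, one_mul, one_mul] at this
        exact this
      apply Subtype.ext
      exact inv_mul_eq_one.1 (hdet _ hd (hker _ hd) fun i => by
        rcases hall i with rfl | rfl | rfl <;> assumption)
    refine (Nat.card_le_card_of_injective f hinj).trans ?_
    rw [Nat.card_eq_fintype_card]
    decide
  -- the transitive case
  right
  simp only [not_forall] at hfix
  obtain ⟨r0, hr0, hr0i⟩ := hfix
  have hconjN : ∀ {i j}, Rel N i j → Rel N (π b i) (π b j) := fun {i j} h => h.conj hNnorm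
  have h01 : Rel N i0 i1 := by
    have hj : Rel N i0 (π r0 i0) := ⟨_, ⟨r0, hr0, rfl⟩, rfl⟩
    by_cases hbj : π b (π r0 i0) = π r0 i0
    · have := hconjN hj
      rw [hbj] at this
      exact hj.trans this.symm
    · rcases hmove _ hbj with h | h | h
      · exact absurd h hr0i
      · rwa [h] at hj
      · rw [h] at hj
        have := hconjN hj
        rw [h3] at this
        exact this.symm
  let M : Subgroup H :=
    { carrier := {g | ∀ i, Rel N i0 i ↔ Rel N i0 (π g i)}
      one_mem' := fun i => by simp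
      mul_mem' := fun {g h} hg hh i => by rw [hh i, hg (π h i), map_mul, Perm.mul_apply]
      inv_mem' := fun {g} hg i => by rw [hg (π g⁻¹ i)]; simp }
  have hbM : b ∈ M := fun i => by
    refine ⟨fun h => h01.trans (hconjN h), fun h => ?_⟩
    have h' := hconjN (hconjN h)
    have hcube : π b (π b (π b i)) = i := by
      rw [← Perm.mul_apply, ← Perm.mul_apply, ← map_mul, ← map_mul, hbb, map_one, Perm.one_apply]
    rw [hcube] at h'
    exact (h01.trans (hconjN h01)).trans h'
  have hRM : R ≤ M := fun r hr i =>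
    ⟨fun h => h.trans ⟨_, ⟨r, hr, rfl⟩, rfl⟩,
      fun h => h.trans (Rel.symm (show Rel N i (π r i) from ⟨_, ⟨r, hr, rfl⟩, rfl⟩))⟩
  have hN0 : ∀ i, Rel N i0 i := fun i => by
    obtain ⟨g, hg, rfl⟩ := htr M hbM hRM i
    exact (hg i0).1 ⟨1, one_mem N, rfl⟩
  have hNtr : ∀ i j, Rel N i j := fun i j => (hN0 i).symm.trans (hN0 j)
  haveI : MulAction.IsPretransitive N ι := ⟨fun i j => by
    obtain ⟨n, hn, h⟩ := hNtr i j
    exact ⟨⟨n, hn⟩, h⟩⟩
  have hidx : ∀ i : ι, (MulAction.stabilizer N i).index = Fintype.card ι := fun i => by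
    rw [MulAction.index_stabilizer_of_transitive, Nat.card_eq_fintype_card]
  have hnN : Fintype.card ι ∣ Nat.card N := hidx i0 ▸ (MulAction.stabilizer N i0).index_dvd_card
  have hgt : 3 < Fintype.card ι := by
    have h3le : ({i0, i1, i2} : Finset ι).card ≤ Fintype.card ι := Finset.card_le_univ _
    rw [Finset.card_insert_of_notMem (by simp [Ne.symm h1, Ne.symm h2]),
      Finset.card_insert_of_notMem (by simp [Ne.symm h21]), Finset.card_singleton] at h3le
    rcases Nat.eq_or_lt_of_le h3le with h | h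
    · exact absurd (show 3 ∣ Nat.card N by rwa [← h] at hnN) (Nat.prime_three.coprime_iff_not_dvd.1 hNcop.symm)
    · exact h
  have hn4 : Fintype.card ι = 4 := card_four N hNsol hNcop hNtr (π b) i0 h1 h3 h2 hmove hNnorm
    (fun M hM => Subgroup.map_le_iff_le_comap.2 (gen (M.comap π) fun r hr => by
      rw [Subgroup.mem_comap, map_mul, map_mul, map_mul, map_inv, map_inv]
      exact hM _ ⟨r, hr, rfl⟩)) hgt
  haveI : Nontrivial ι := ⟨⟨_, _, h1⟩⟩
  have hN4 : Nat.card N = 4 := by
    have hle : N ≤ alternatingGroup ι := Subgroup.map_le_iff_le_comap.2 fun r hr => by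
      rw [Subgroup.mem_comap, Equiv.Perm.mem_alternatingGroup]; exact hsign r hr
    have hd := Subgroup.card_dvd_of_le hle
    rw [nat_card_alternatingGroup, Nat.card_eq_fintype_card (α := ι), hn4] at hd
    have hd4 : Nat.card N ∣ 4 := hNcop.dvd_of_dvd_mul_right (by simpa [Nat.factorial] using hd)
    exact Nat.dvd_antisymm hd4 (hn4 ▸ hnN)
  have hfpf : ∀ r ∈ R, ∀ i, π r i = i → π r = 1 := by
    intro r hr i hi
    have hc := (MulAction.stabilizer N i).card_mul_index
    rw [hidx i, hn4, hN4] at hc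
    have h1' : MulAction.stabilizer N i = ⊥ := Subgroup.eq_bot_of_card_eq _ (by omega)
    have hm : (⟨π r, ⟨r, hr, rfl⟩⟩ : N) ∈ MulAction.stabilizer N i := hi
    rw [h1', Subgroup.mem_bot] at hm
    exact congrArg Subtype.val hm
  have hinvol : ∀ r ∈ R, ∀ i, π r (π r i) = i := by
    intro r hr i
    by_cases h : π r = 1
    · simp [h]
    · exact sq_four hn4 (π r) (hsign r hr) (fun j hj => h (hfpf r hr j hj)) i
  obtain ⟨y, hy⟩ : ∃ y, y ∉ ({i0, i1, i2} : Finset ι) := by
    by_contra hno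
    simp only [not_exists, not_not] at hno
    have := Finset.card_le_card (show (Finset.univ : Finset ι) ⊆ {i0, i1, i2} from fun i _ => hno i)
    have h' := this.trans Finset.card_le_three
    rw [Finset.card_univ] at h'
    omega
  simp only [Finset.mem_insert, Finset.mem_singleton, not_or] at hy
  obtain ⟨hy0, hy1, hy2⟩ := hy
  have hby : π b y = y := by
    by_contra h
    rcases hmove y h with h | h | h
    · exact hy0 h
    · exact hy1 h
    · exact hy2 h
  have huniv : (Finset.univ : Finset ι) = {y, i0, i1, i2} := by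
    refine (Finset.eq_univ_of_card _ ?_).symm
    rw [hn4, Finset.card_insert_of_notMem (by simp [hy0, hy1, hy2]),
      Finset.card_insert_of_notMem (by simp [Ne.symm h1, Ne.symm h2]),
      Finset.card_insert_of_notMem (by simp [Ne.symm h21]), Finset.card_singleton]
  have hall : ∀ i, i = y ∨ i = i0 ∨ i = i1 ∨ i = i2 := fun i => by
    have := Finset.mem_univ i
    rw [huniv] at this
    simpa using this
  have hprod : ∀ g, ∏ i, sg g i = sg g y * (sg g i0 * (sg g i1 * sg g i2)) := fun g => by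
    rw [huniv, Finset.prod_insert (by simp [hy0, hy1, hy2]), Finset.prod_insert (by simp [Ne.symm h1, Ne.symm h2]),
      Finset.prod_insert (by simp [Ne.symm h21]), Finset.prod_singleton]
  -- the diagonal part
  set D := R ⊓ π.ker with hD
  have hDconj : ∀ g, (∀ x ∈ R, g * x * g⁻¹ ∈ R) → ∀ c ∈ D, g * c * g⁻¹ ∈ D := fun g hg c hc =>
    ⟨hg c hc.1, by
      show π _ = 1
      rw [map_mul, map_mul, show π c = 1 from hc.2, mul_one, ← map_mul, mul_inv_cancel, map_one]⟩
  have hRconj : ∀ g ∈ R, ∀ c ∈ D, g * c * g⁻¹ ∈ D := fun g hg =>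
    hDconj g fun x hx => mul_mem (mul_mem hg hx) (inv_mem hg)
  have hDmul : ∀ c ∈ D, ∀ d ∈ D, ∀ i, sg (c * d) i = sg c i * sg d i := fun c _ d hd i => by
    rw [hmul, show π d = 1 from hd.2, Perm.one_apply, mul_comm]
  have hDdet : ∀ c ∈ D, ∀ d ∈ D, sg c i0 = sg d i0 → sg c i1 = sg d i1 → sg c i2 = sg d i2 → c = d := by
    intro c hc d hd e0 e1 e2
    have hm : c⁻¹ * d ∈ D := mul_mem (inv_mem hc) hd
    have hinv : ∀ i, sg c⁻¹ i = sg c i := fun i => by
      conv_lhs => rw [show i = π c i by rw [show π c = 1 from hc.2]; rfl]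
      exact hsginv c i
    have hv : ∀ i, sg (c⁻¹ * d) i = sg c i * sg d i := fun i => by rw [hDmul _ (inv_mem hc) _ hd, hinv]
    have hy' : sg (c⁻¹ * d) y = 1 := by
      have := hP _ hm.1
      rw [hprod, hv i0, hv i1, hv i2, e0, e1, e2, hsq1, hsq1, hsq1, one_mul, one_mul, mul_one] at this
      exact this
    refine inv_mul_eq_one.1 (hdet _ hm.1 hm.2 fun i => ?_)
    rcases hall i with rfl | rfl | rfl | rfl
    · exact hy'
    · rw [hv, e0, hsq1]
    · rw [hv, e1, hsq1]
    · rw [hv, e2, hsq1]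
  have hDsq : ∀ c ∈ D, c ^ 2 = 1 := fun c hc => by
    refine hdet _ (pow_mem hc.1 2) (pow_mem hc.2 2) fun i => ?_
    rw [pow_two, hDmul c hc c hc, hsq1]
  have hbD : ∀ c ∈ D, b * c * b⁻¹ ∈ D := hDconj b bR
  -- the three basic elements
  obtain ⟨p0, hp0, e00, e01, e02, e0y⟩ :
      ∃ p ∈ D, sg p i0 = -1 ∧ sg p i1 = 1 ∧ sg p i2 = 1 ∧ sg p y = -1 := by
    obtain ⟨a, ha, haπ, ha0, ha1⟩ := hA
    have hP' := hP a ha
    rw [hprod, ha0, ha1, one_mul] at hP'
    rcases hpm a i2 with ha2 | ha2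
    · -- conjugate by the cycle
      have hay : sg a y = -1 := by
        rw [ha2, mul_one] at hP'
        rcases hpm a y with h | h
        · rw [h] at hP'; exact absurd hP' (by decide)
        · exact h
      have hm : b * a * b⁻¹ ∈ D := hbD a ⟨ha, haπ⟩
      have hc : ∀ i, sg (b * (b * a * b⁻¹) * b⁻¹) (π b (π b i)) = sg a i := fun i => by
        rw [hconj b _ _ hm.2, hconj b a i haπ]
      refine ⟨_, hbD _ hm, ?_, ?_, ?_, ?_⟩
      · have := hc i1
        rw [← hi2, h3, ha1] at this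
        exact this
      · have := hc i2
        rw [h3, ← hi1, ha2] at this
        exact this
      · have := hc i0
        rw [← hi1, ← hi2, ha0] at this
        exact this
      · have := hc y
        rw [hby, hby, hay] at this
        exact this
    · have hay : sg a y = 1 := by
        rw [ha2] at hP'
        rcases hpm a y with h | h
        · exact h
        · rw [h] at hP'; exact absurd hP' (by decide)
      obtain ⟨n, ⟨r1, hr1, rfl⟩, hr1i⟩ := hNtr i1 y
      have hne : π r1 ≠ 1 := fun h => hy1 (by rw [← hr1i, h]; rfl)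
      have hf : ∀ i, π r1 i ≠ i := fun i hi => hne (hfpf r1 hr1 i hi)
      have hry : π r1 y = i1 := by rw [← hr1i, hinvol r1 hr1]
      have hr2 : π r1 i2 = i0 := by
        rcases hall (π r1 i2) with h | h | h | h
        · exact absurd ((π r1).injective (h.trans hr1i.symm)) h21
        · exact h
        · exact absurd ((π r1).injective (h.trans hry.symm)) (Ne.symm hy2)
        · exact absurd h (hf i2)
      have hr0' : π r1 i0 = i2 := by rw [← hr2, hinvol r1 hr1]
      refine ⟨r1 * a * r1⁻¹, hRconj r1 hr1 a ⟨ha, haπ⟩, ?_, ?_, ?_, ?_⟩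
      · rw [← hr2, hconj r1 a _ haπ, ha2]
      · rw [← hry, hconj r1 a _ haπ, hay]
      · rw [← hr0', hconj r1 a _ haπ, ha0]
      · rw [← hr1i, hconj r1 a _ haπ, ha1]
  set p1 := b * p0 * b⁻¹ with hp1d
  have hp1 : p1 ∈ D := hbD p0 hp0
  have e11 : sg p1 i1 = -1 := by rw [hp1d, hi1, hconj b p0 _ hp0.2, e00]
  have e12 : sg p1 i2 = 1 := by rw [hp1d, hi2, hconj b p0 _ hp0.2, e01]
  have e10 : sg p1 i0 = 1 := by rw [hp1d, ← h3, hconj b p0 _ hp0.2, e02]
  have e1y : sg p1 y = -1 := by rw [hp1d, ← hby, hconj b p0 _ hp0.2, e0y]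
  set p2 := b * p1 * b⁻¹ with hp2d
  have hp2 : p2 ∈ D := hbD p1 hp1
  have e22 : sg p2 i2 = -1 := by rw [hp2d, hi2, hconj b p1 _ hp1.2, e11]
  have e20 : sg p2 i0 = 1 := by rw [hp2d, ← h3, hconj b p1 _ hp1.2, e12]
  have e21 : sg p2 i1 = 1 := by rw [hp2d, hi1, hconj b p1 _ hp1.2, e10]
  have e2y : sg p2 y = -1 := by rw [hp2d, ← hby, hconj b p1 _ hp1.2, e1y]
  let V := {x : ZMod 3 // x = 1 ∨ x = -1}
  have hsurj : ∀ u v w : V, ∃ c ∈ D, sg c i0 = u.1 ∧ sg c i1 = v.1 ∧ sg c i2 = w.1 := by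
    intro u v w
    let c0 := if u.1 = 1 then 1 else p0
    let c1 := if v.1 = 1 then 1 else p1
    let c2 := if w.1 = 1 then 1 else p2
    have hc0 : c0 ∈ D ∧ sg c0 i0 = u.1 ∧ sg c0 i1 = 1 ∧ sg c0 i2 = 1 := by
      rcases u.2 with h | h
      · simp [c0, h, hsg1, one_mem]
      · simp [c0, h, show (-1 : ZMod 3) ≠ 1 by decide, hp0, e00, e01, e02]
    have hc1 : c1 ∈ D ∧ sg c1 i0 = 1 ∧ sg c1 i1 = v.1 ∧ sg c1 i2 = 1 := by
      rcases v.2 with h | h
      · simp [c1, h, hsg1, one_mem]
      · simp [c1, h, show (-1 : ZMod 3) ≠ 1 by decide, hp1, e10, e11, e12]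
    have hc2 : c2 ∈ D ∧ sg c2 i0 = 1 ∧ sg c2 i1 = 1 ∧ sg c2 i2 = w.1 := by
      rcases w.2 with h | h
      · simp [c2, h, hsg1, one_mem]
      · simp [c2, h, show (-1 : ZMod 3) ≠ 1 by decide, hp2, e20, e21, e22]
    refine ⟨c0 * (c1 * c2), mul_mem hc0.1 (mul_mem hc1.1 hc2.1), ?_, ?_, ?_⟩ <;>
      rw [hDmul _ hc0.1 _ (mul_mem hc1.1 hc2.1), hDmul _ hc1.1 _ hc2.1] <;>
      simp [hc0.2, hc1.2, hc2.2]
  have hD8 : Nat.card D = 8 := by
    let f : D → V × V × V := fun c =>
      (⟨sg (c : H) i0, hpm _ _⟩, ⟨sg (c : H) i1, hpm _ _⟩, ⟨sg (c : H) i2, hpm _ _⟩)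
    have hbij : Function.Bijective f := by
      refine ⟨fun c d h => ?_, fun ⟨u, v, w⟩ => ?_⟩
      · simp only [f, Prod.mk.injEq] at h
        exact Subtype.ext (hDdet _ c.2 _ d.2 (congrArg Subtype.val h.1) (congrArg Subtype.val h.2.1)
          (congrArg Subtype.val h.2.2))
      · obtain ⟨c, hc, hu, hv, hw⟩ := hsurj u v w
        exact ⟨⟨c, hc⟩, by simp [f, hu, hv, hw]⟩
    rw [Nat.card_eq_of_bijective f hbij, Nat.card_eq_fintype_card]
    decide
  have h32 : Nat.card R = 32 := by
    have hc := (π.comp R.subtype).ker.card_mul_index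
    rw [Subgroup.index_ker, MonoidHom.range_comp, Subgroup.range_subtype, ← hN, hN4] at hc
    have hk : Nat.card (π.comp R.subtype).ker = 8 := by
      rw [← hD8]
      exact Nat.card_congr
        { toFun := fun x => ⟨((x : R) : H), (x : R).2, x.2⟩
          invFun := fun x => ⟨⟨(x : H), x.2.1⟩, x.2.2⟩
          left_inv := fun _ => rfl
          right_inv := fun _ => rfl }
    rw [hk] at hc
    exact hc.symm
  obtain ⟨z, hz, z0, z1, z2⟩ := hsurj ⟨-1, Or.inr rfl⟩ ⟨-1, Or.inr rfl⟩ ⟨-1, Or.inr rfl⟩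
  simp only at z0 z1 z2
  have zy : sg z y = -1 := by
    have := hP z hz.1
    rw [hprod, z0, z1, z2] at this
    rcases hpm z y with h | h
    · rw [h] at this; exact absurd this (by decide)
    · exact h
  have zall : ∀ i, sg z i = -1 := fun i => by
    rcases hall i with rfl | rfl | rfl | rfl <;> assumption
  have hconst : ∀ c ∈ D, (∀ i, sg c i = sg c y) → c = 1 ∨ c = z := by
    intro c hc h
    rcases hpm c y with hy' | hy'
    · left
      exact hdet c hc.1 hc.2 fun i => by rw [h, hy']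
    · right
      exact hDdet c hc z hz (by rw [h, hy', z0]) (by rw [h, hy', z1]) (by rw [h, hy', z2])
  have hDcomm : ∀ x ∈ D, ∀ x' ∈ D, x * x' = x' * x := fun x hx x' hx' =>
    hDdet _ (mul_mem hx hx') _ (mul_mem hx' hx) (by rw [hDmul x hx x' hx', hDmul x' hx' x hx, mul_comm])
      (by rw [hDmul x hx x' hx', hDmul x' hx' x hx, mul_comm])
      (by rw [hDmul x hx x' hx', hDmul x' hx' x hx, mul_comm])
  refine ⟨h32, ⟨z, hz.1, fun h => ?_, fun g hg => ?_, fun g hg hgc => ?_, fun g hg => ?_⟩,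
    D, inf_le_left, hDcomm, hDsq, hD8⟩
  · rw [h, hsg1] at z0
    exact absurd z0 (by decide)
  · have hm := hRconj g hg z hz
    have e : ∀ i, sg (g * z * g⁻¹) i = -1 := fun i => by
      rw [show i = π g ((π g)⁻¹ i) by simp, hconj g z _ hz.2, zall]
    have := hDdet _ hm z hz (by rw [e, z0]) (by rw [e, z1]) (by rw [e, z2])
    exact (mul_inv_eq_iff_eq_mul.1 this).symm
  · have hfixp : ∀ p ∈ D, ∀ i, sg p (π g i) = sg p i := fun p hp i => by
      conv_lhs => rw [← show g * p * g⁻¹ = p from mul_inv_eq_iff_eq_mul.2 (hgc p hp.1)]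
      exact hconj g p i hp.2
    have hπg : π g = 1 := by
      refine Equiv.ext fun i => ?_
      have t0 := hfixp p0 hp0 i
      have t1 := hfixp p1 hp1 i
      have t2 := hfixp p2 hp2 i
      have hne : (1 : ZMod 3) ≠ -1 := by decide
      rw [Perm.one_apply]
      rcases hall i with hi | hi | hi | hi <;> rcases hall (π g i) with hj | hj | hj | hj <;>
        rw [hj, hi] at t0 t1 t2 <;> rw [hj, hi] <;>
        first
          | exact absurd (e00.symm.trans (t0.trans e01)) hne.symm
          | simp [e00, e01, e02, e0y, e10, e11, e12, e1y, e20, e21, e22, e2y, hne, hne.symm] at t0 t1 t2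
    refine hconst g ⟨hg, hπg⟩ fun i => ?_
    obtain ⟨n, ⟨r1, hr1, rfl⟩, rfl⟩ := hNtr y i
    conv_lhs => rw [← show r1 * g * r1⁻¹ = g by rw [← hgc r1 hr1, mul_inv_cancel_right]]
    exact hconj r1 g y hπg
  · by_cases hπ : π g = 1
    · left; exact hDsq g ⟨hg, hπ⟩
    have hg2 : g ^ 2 ∈ D := ⟨pow_mem hg 2, Equiv.ext fun i => by
      show π (g ^ 2) i = i
      rw [pow_two, map_mul, Perm.mul_apply, hinvol g hg]⟩
    refine hconst _ hg2 fun i => ?_
    have he : ∀ i, sg (g ^ 2) i = sg g i * sg g (π g i) := fun i => by rw [pow_two, hmul]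
    rw [he, he]
    have hne : ∀ j, π g j ≠ j := fun j hj => hπ (hfpf g hg j hj)
    by_cases hiy : i = y
    · rw [hiy]
    by_cases hiy' : i = π g y
    · rw [hiy', hinvol g hg, mul_comm]
    have hgi1 : π g i ≠ π g y := fun h => hiy ((π g).injective h)
    have hgi2 : π g i ≠ y := fun h => hiy' (by rw [← h, hinvol g hg])
    have hu : (Finset.univ : Finset ι) = {y, π g y, i, π g i} := by
      refine (Finset.eq_univ_of_card _ ?_).symm
      rw [hn4, Finset.card_insert_of_notMem (by simp [Ne.symm (hne y), Ne.symm hiy, Ne.symm hgi2]),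
        Finset.card_insert_of_notMem (by simp [Ne.symm hiy', Ne.symm hgi1]),
        Finset.card_insert_of_notMem (by simp [Ne.symm (hne i)]), Finset.card_singleton]
    have := hP g hg
    rw [hu, Finset.prod_insert (by simp [Ne.symm (hne y), Ne.symm hiy, Ne.symm hgi2]),
      Finset.prod_insert (by simp [Ne.symm hiy', Ne.symm hgi1]), Finset.prod_insert (by simp [Ne.symm (hne i)]),
      Finset.prod_singleton, ← mul_assoc] at this
    have hpm2 : ∀ u v : ZMod 3, u * v = 1 → v = u := by decide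
    exact hpm2 _ _ this

end Cfsg.Agent.Solv.ThreeBlock
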