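import Cfsg.Agent.Lib.Solv.ThreeBlock.Moved
import Cfsg.Agent.Lib.Solv.ThreeBlock.Monomial

/-!
# The case of a noncentral abelian invariant subgroup
-/

set_option autoImplicit false

namespace Cfsg.Agent.Solv.ThreeBlock

open Equiv

variable {S : Type*} [Group S] [Finite S] {E : Type*} [AddCommGroup E] [Module (ZMod 3) E] [Finite E]
variable {ρ : Representation (ZMod 3) S E} {b : S} {R Q : Subgroup S} {F : Submodule (ZMod 3) E}
  {A : Subgroup S} {r : ℕ} (C : ACtx ρ b R Q F A r)
include C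

/-- The permutation action of the stabilizer on the components. -/
noncomputable def ACtx.perm : ↥(stab ρ F A) →* Perm {L : Subgroup S // Good ρ F A L} where
  toFun g :=
    { toFun := fun L => ⟨cj (g : S) L.1, C.good_map g.2 L.2⟩
      invFun := fun L => ⟨cj (g : S)⁻¹ L.1, C.good_map (inv_mem g.2) L.2⟩
      left_inv := fun L => Subtype.ext (by simp only; rw [← cj_mul, inv_mul_cancel, cj_one])
      right_inv := fun L => Subtype.ext (by simp only; rw [← cj_mul, mul_inv_cancel, cj_one]) }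
  map_one' := Equiv.ext fun L => Subtype.ext (by simp [cj_one])
  map_mul' g h := Equiv.ext fun L => Subtype.ext (by simp [cj_mul])

theorem ACtx.outcome : Nat.card R ≤ 4 ∨ Big R := by
  classical
  haveI : Finite (Subgroup S) := Finite.of_injective (fun H : Subgroup S => (H : Set S)) SetLike.coe_injective
  obtain ⟨K0, hK0, hbK0⟩ := C.exists_moved
  obtain ⟨hr, hline, hfixL⟩ := C.lines hK0 hbK0
  obtain ⟨hc3, hc2, hc1⟩ := C.triple hbK0
  set H := stab ρ F A with hH
  letI : Fintype {L : Subgroup S // Good ρ F A L} := Fintype.ofFinite _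
  let π := C.perm
  have hπ : ∀ (g : H) (L), ((π g L).1 : Subgroup S) = cj (g : S) L.1 := fun g L => rfl
  have hex : ∀ L : {L : Subgroup S // Good ρ F A L}, ∃ x, x ∈ FF ρ F L.1 ∧ x ≠ 0 ∧
      ∀ v ∈ FF ρ F L.1, ∃ c : ZMod 3, v = c • x := by
    intro L
    obtain ⟨x, hx0, hx⟩ := hline L.1 L.2
    obtain ⟨v, hv, hv0⟩ := Submodule.exists_mem_ne_zero_of_ne_bot L.2.2.1
    obtain ⟨c, hc⟩ := hx v hv
    have hc0 : c ≠ 0 := fun h => hv0 (by rw [hc, h, zero_smul])
    refine ⟨x, ?_, hx0, hx⟩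
    have : x = c⁻¹ • v := by rw [hc, smul_smul, inv_mul_cancel₀ hc0, one_smul]
    rw [this]
    exact Submodule.smul_mem _ _ hv
  choose x hxm hx0 hxs using hex
  let sg : H → {L : Subgroup S // Good ρ F A L} → ZMod 3 := fun g i =>
    if ρ (g : S) (x i) = x (π g i) then 1 else -1
  have hpm : ∀ g i, sg g i = 1 ∨ sg g i = -1 := fun g i => by
    simp only [sg]
    split <;> simp
  have hact : ∀ (g : H) i, ρ (g : S) (x i) = sg g i • x (π g i) := by
    intro g i
    simp only [sg]
    split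
    · next h => rw [h, one_smul]
    · next h =>
      have hm : ρ (g : S) (x i) ∈ FF ρ F (π g i).1 := (mem_FF_map g.2.2 i.1 (x i)).2 (hxm i)
      obtain ⟨c, hc⟩ := hxs _ _ hm
      have : ∀ c : ZMod 3, c = 0 ∨ c = 1 ∨ c = -1 := by decide
      rcases this c with rfl | rfl | rfl
      · rw [zero_smul] at hc
        exact absurd (rho_inj ρ (g : S) (hc.trans (map_zero _).symm)) (hx0 i)
      · rw [one_smul] at hc
        exact absurd hc h
      · exact hc
  have hmul : ∀ g h i, sg (g * h) i = sg h i * sg g (π h i) := by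
    intro g h i
    have e : ρ ((g * h : H) : S) (x i) = (sg h i * sg g (π h i)) • x (π (g * h) i) := by
      rw [Subgroup.coe_mul, rho_mul, hact h i, map_smul, hact g, smul_smul, map_mul, Perm.mul_apply]
    rw [hact] at e
    exact smul_left_injective _ (hx0 _) e
  set bH : H := ⟨b, C.hbR.1⟩ with hbH
  set R' := R.subgroupOf H with hR'
  have hmap : R'.map H.subtype = R := by
    rw [hR', Subgroup.subgroupOf_map_subtype, inf_eq_left]
    exact C.hbR.2
  have hcard : Nat.card R' = Nat.card R := Nat.card_congr (Subgroup.subgroupOfEquivOfLe C.hbR.2).toEquiv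
  haveI := C.solv
  have key := mon_struct bH R' (Subtype.ext (by simpa using C.hb3))
    (fun g hg => C.bR _ hg)
    (fun M hM g hg => by
      have := C.gen (M.map H.subtype) (fun g hg => ⟨_, hM ⟨g, C.hbR.2 hg⟩ hg, rfl⟩) hg
      obtain ⟨g', hg', he⟩ := this
      rwa [← Subtype.ext (p := (· ∈ H)) he])
    (hcard.symm ▸ C.cop)
    (Group.isSolvable_of_surjective (f := (Subgroup.subgroupOfEquivOfLe C.hbR.2).symm.toMonoidHom)
      (MulEquiv.surjective _))
    π sg hpm hmul ⟨K0, hK0⟩
    (fun h => hbK0 (congrArg Subtype.val h)) (fun h => hc2 (congrArg Subtype.val h))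
    (Subtype.ext hc3)
    (fun i hi => by
      by_contra hne
      simp only [not_or] at hne
      refine hi (Subtype.ext (hfixL i.1 i.2 ?_ ?_ ?_).1)
      · exact fun h => hne.1 (Subtype.ext h)
      · exact fun h => hne.2.1 (Subtype.ext h)
      · exact fun h => hne.2.2 (Subtype.ext h))
    (fun M hbM hRM i => by
      obtain ⟨g, hg, he⟩ := C.transitive hK0 i.2 (M.map H.subtype)
        (by rintro _ ⟨g, _, rfl⟩; exact g.2) ⟨bH, hbM, rfl⟩
        (fun g hg => ⟨⟨g, C.hbR.2 hg⟩, hRM hg, rfl⟩)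
      obtain ⟨g', hg', rfl⟩ := hg
      exact ⟨g', hg', Subtype.ext he⟩)
    (fun g hg hπg hsg => by
      refine Subtype.ext (C.eq_one_of_fix hg fun L hL v hv => ?_)
      obtain ⟨c, rfl⟩ := hxs ⟨L, hL⟩ v hv
      rw [map_smul, hact g, hsg, one_smul, hπg, Perm.one_apply])
    (by
      obtain ⟨a, ha, ha1⟩ : ∃ a ∈ K0, a ∉ cj b K0 := SetLike.not_le_iff_exists.1 fun hle =>
        hbK0 (Subgroup.eq_of_le_of_card_ge hle (by
          rw [cj, Subgroup.card_map_of_injective (MulAut.conj b).injective])).symm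
      have haA := hK0.1 ha
      have haH : a ∈ H := C.hbR.2 (C.AR haA)
      have hπa : π ⟨a, haH⟩ = 1 := Equiv.ext fun L => Subtype.ext (by
        show cj a L.1 = L.1
        refine Subgroup.eq_of_le_of_card_ge ?_ (by
          rw [cj, Subgroup.card_map_of_injective (MulAut.conj a).injective])
        rintro _ ⟨k, hk, rfl⟩
        simp only [MulEquiv.coe_toMonoidHom, MulAut.conj_apply]
        rwa [C.Acomm a haA k (L.2.1 hk), mul_inv_cancel_right])
      refine ⟨⟨a, haH⟩, C.AR haA, hπa, ?_, ?_⟩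
      · refine smul_left_injective (ZMod 3) (hx0 ⟨K0, hK0⟩) ?_
        have e := hact ⟨a, haH⟩ ⟨K0, hK0⟩
        rw [hπa, Perm.one_apply, (hxm ⟨K0, hK0⟩).2 a ha] at e
        simp only [one_smul]
        exact e.symm
      · set i1 := π bH ⟨K0, hK0⟩ with hi1
        rcases hpm ⟨a, haH⟩ i1 with h | h
        · exfalso
          have e := hact ⟨a, haH⟩ i1
          rw [h, one_smul, hπa, Perm.one_apply] at e
          exact hx0 i1 (C.fpf i1.2 haA ha1 (hxm i1) e)
        · exact h)
  rcases key with h | ⟨h32, ⟨z, hz, hz1, hzc, hzu, hsq⟩, D, hDR, hDc, hDe, hD8⟩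
  · left; rwa [← hcard]
  right
  refine ⟨hcard ▸ h32, ⟨(z : S), hz, fun h => hz1 (Subtype.ext h), fun g hg => ?_, fun g hg hgc => ?_, fun g hg => ?_⟩,
    D.map H.subtype, hmap ▸ Subgroup.map_mono hDR, ?_, ?_, ?_⟩
  · exact congrArg Subtype.val (hzc ⟨g, C.hbR.2 hg⟩ hg)
  · rcases hzu ⟨g, C.hbR.2 hg⟩ hg fun h hh => Subtype.ext (hgc h hh) with e | e
    · exact Or.inl (congrArg Subtype.val e)
    · exact Or.inr (congrArg Subtype.val e)
  · rcases hsq ⟨g, C.hbR.2 hg⟩ hg with e | e
    · exact Or.inl (congrArg Subtype.val e)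
    · exact Or.inr (congrArg Subtype.val e)
  · rintro _ ⟨u, hu, rfl⟩ _ ⟨v, hv, rfl⟩
    exact congrArg Subtype.val (hDc u hu v hv)
  · rintro _ ⟨u, hu, rfl⟩
    exact congrArg Subtype.val (hDe u hu)
  · rw [Subgroup.card_map_of_injective H.subtype_injective, hD8]

end Cfsg.Agent.Solv.ThreeBlock
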