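import Cfsg.Agent.Lib.Solv.ThreeBlock.Setup
import Mathlib.GroupTheory.Perm.Cycle.Type
import Mathlib.LinearAlgebra.FiniteDimensional.Basic
import Mathlib.FieldTheory.Finite.Basic

/-!
# The components of a noncentral abelian invariant subgroup
-/

set_option autoImplicit false

namespace Cfsg.Agent.Solv.ThreeBlock

variable {S : Type*} [Group S] [Finite S] {E : Type*} [AddCommGroup E] [Module (ZMod 3) E] [Finite E]

/-- The vectors of `F` fixed by a subgroup. -/
def FF (ρ : Representation (ZMod 3) S E) (F : Submodule (ZMod 3) E) (K : Subgroup S) : Submodule (ZMod 3) E where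
  carrier := {v | v ∈ F ∧ ∀ k ∈ K, ρ k v = v}
  zero_mem' := ⟨F.zero_mem, fun k _ => map_zero _⟩
  add_mem' := fun {v w} hv hw => ⟨F.add_mem hv.1 hw.1, fun k hk => by rw [map_add, hv.2 k hk, hw.2 k hk]⟩
  smul_mem' := fun c v hv => ⟨F.smul_mem c hv.1, fun k hk => by rw [map_smul, hv.2 k hk]⟩

/-- A noncentral elementary abelian invariant subgroup. -/
structure ACtx (ρ : Representation (ZMod 3) S E) (b : S) (R Q : Subgroup S) (F : Submodule (ZMod 3) E)
    (A : Subgroup S) (r : ℕ) : Prop extends Ctx ρ b R Q F where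
  rp : r.Prime
  AR : A ≤ R
  Acomm : ∀ x ∈ A, ∀ y ∈ A, x * y = y * x
  Aexp : ∀ x ∈ A, x ^ r = 1
  AnR : ∀ g ∈ R, ∀ a ∈ A, g * a * g⁻¹ ∈ A
  Anb : ∀ a ∈ A, b * a * b⁻¹ ∈ A
  Anc : ¬ ∀ a ∈ A, b * a = a * b ∧ ∀ g ∈ R, g * a = a * g

/-- A subgroup of `A` that is maximal with nonzero fixed space. -/
def Good (ρ : Representation (ZMod 3) S E) (F : Submodule (ZMod 3) E) (A K : Subgroup S) : Prop :=
  K ≤ A ∧ FF ρ F K ≠ ⊥ ∧ ∀ K', K ≤ K' → K' ≤ A → FF ρ F K' ≠ ⊥ → K' = K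

/-- The stabilizer of `A` and `F`. -/
def stab (ρ : Representation (ZMod 3) S E) (F : Submodule (ZMod 3) E) (A : Subgroup S) : Subgroup S where
  carrier := {s | (∀ a, a ∈ A ↔ s * a * s⁻¹ ∈ A) ∧ ∀ v, v ∈ F ↔ ρ s v ∈ F}
  one_mem' := ⟨fun a => by simp, fun v => by rw [rho_one]⟩
  mul_mem' := fun {x y} hx hy => ⟨fun a => by
      rw [hy.1 a, hx.1 (y * a * y⁻¹), show x * (y * a * y⁻¹) * x⁻¹ = x * y * a * (x * y)⁻¹ by group],
    fun v => by rw [hy.2 v, hx.2 (ρ y v), rho_mul]⟩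
  inv_mem' := fun {x} hx => ⟨fun a => by
      rw [hx.1 (x⁻¹ * a * x⁻¹⁻¹), show x * (x⁻¹ * a * x⁻¹⁻¹) * x⁻¹ = a by group],
    fun v => by rw [hx.2 (ρ x⁻¹ v), rho_cancel']⟩

variable {ρ : Representation (ZMod 3) S E} {b : S} {R Q : Subgroup S} {F : Submodule (ZMod 3) E}
  {A : Subgroup S} {r : ℕ} (C : ACtx ρ b R Q F A r)
include C

theorem ACtx.hbR : b ∈ stab ρ F A ∧ R ≤ stab ρ F A := by
  have hb3 : b * b * b = 1 := by rw [← C.hb3, pow_succ, pow_two]
  refine ⟨⟨fun a => ⟨fun h => C.Anb a h, fun h => ?_⟩, fun v => ⟨C.invb v, fun h => ?_⟩⟩, fun g hg =>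
    ⟨fun a => ⟨C.AnR g hg a, fun h => ?_⟩, fun v => ⟨C.invR g hg v, fun h => ?_⟩⟩⟩
  · have := C.Anb _ (C.Anb _ h)
    rwa [conj_three, C.hb3, one_mul, inv_one, mul_one] at this
  · have := C.toCtx.invb' _ h
    rwa [rho_cancel] at this
  · have := C.AnR g⁻¹ (inv_mem hg) _ h
    rwa [show g⁻¹ * (g * a * g⁻¹) * g⁻¹⁻¹ = a by group] at this
  · have := C.invR g⁻¹ (inv_mem hg) _ h
    rwa [rho_cancel] at this

omit C in
theorem mem_FF_map {s : S} (hs : ∀ v, v ∈ F ↔ ρ s v ∈ F) (K : Subgroup S) (v : E) :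
    ρ s v ∈ FF ρ F (K.map (MulAut.conj s).toMonoidHom) ↔ v ∈ FF ρ F K := by
  constructor
  · rintro ⟨h1, h2⟩
    refine ⟨(hs v).2 h1, fun k hk => rho_inj ρ s ?_⟩
    have := h2 _ ⟨k, hk, rfl⟩
    simp only [MulEquiv.coe_toMonoidHom, MulAut.conj_apply, rho_mul, rho_cancel] at this
    exact this
  · rintro ⟨h1, h2⟩
    refine ⟨(hs v).1 h1, ?_⟩
    rintro _ ⟨k, hk, rfl⟩
    simp only [MulEquiv.coe_toMonoidHom, MulAut.conj_apply, rho_mul, rho_cancel, h2 k hk]

theorem ACtx.good_map {s : S} (hs : s ∈ stab ρ F A) {K : Subgroup S} (hK : Good ρ F A K) :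
    Good ρ F A (K.map (MulAut.conj s).toMonoidHom) := by
  refine ⟨?_, ?_, fun K' h1 h2 h3 => ?_⟩
  · rintro _ ⟨k, hk, rfl⟩
    exact (hs.1 k).1 (hK.1 hk)
  · obtain ⟨v, hv, hv0⟩ := Submodule.exists_mem_ne_zero_of_ne_bot hK.2.1
    intro h
    have := (mem_FF_map hs.2 K v).2 hv
    rw [h, Submodule.mem_bot] at this
    exact hv0 (rho_inj ρ s (this.trans (map_zero _).symm))
  · have hs' := inv_mem hs
    have e : ∀ L : Subgroup S, (L.map (MulAut.conj s).toMonoidHom).map (MulAut.conj s⁻¹).toMonoidHom = L := by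
      intro L
      rw [Subgroup.map_map]
      convert L.map_id
      ext x
      simp [mul_assoc]
    have e' : ∀ L : Subgroup S, (L.map (MulAut.conj s⁻¹).toMonoidHom).map (MulAut.conj s).toMonoidHom = L := by
      intro L
      rw [Subgroup.map_map]
      convert L.map_id
      ext x
      simp [mul_assoc]
    have := hK.2.2 (K'.map (MulAut.conj s⁻¹).toMonoidHom) (by rw [← e K]; exact Subgroup.map_mono h1) (by
      rintro _ ⟨k, hk, rfl⟩
      exact (hs'.1 k).1 (h2 hk)) (by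
      obtain ⟨v, hv, hv0⟩ := Submodule.exists_mem_ne_zero_of_ne_bot h3
      intro h
      have := (mem_FF_map hs'.2 K' v).2 hv
      rw [h, Submodule.mem_bot] at this
      exact hv0 (rho_inj ρ s⁻¹ (this.trans (map_zero _).symm)))
    rw [← this, e']

/-- There is a component. -/
theorem ACtx.exists_good : ∃ K, Good ρ F A K := by
  classical
  haveI : Finite (Subgroup S) := Finite.of_injective (fun H : Subgroup S => (H : Set S)) SetLike.coe_injective
  obtain ⟨q, hq, hbq⟩ := C.bmove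
  have hq1 : q ≠ 1 := fun h => hbq (by rw [h, mul_one, one_mul])
  have hF : FF ρ F (⊥ : Subgroup S) ≠ ⊥ := by
    intro h
    refine hq1 (C.faith q (C.QR hq) fun v hv => ?_)
    have : v ∈ FF ρ F (⊥ : Subgroup S) := ⟨hv, fun k hk => by
      rw [Subgroup.mem_bot.1 hk, rho_one]⟩
    rw [h, Submodule.mem_bot] at this
    rw [this, map_zero]
  obtain ⟨K, ⟨hKA, hK⟩, hmax⟩ := Set.exists_max_image {K : Subgroup S | K ≤ A ∧ FF ρ F K ≠ ⊥}
    (fun K : Subgroup S => Nat.card K) (Set.toFinite _) ⟨⊥, bot_le, hF⟩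
  exact ⟨K, hKA, hK, fun K' h1 h2 h3 => (Subgroup.eq_of_le_of_card_ge h1 (hmax K' ⟨h2, h3⟩)).symm⟩

theorem ACtx.invA {K : Subgroup S} {a : S} (ha : a ∈ A) (hK : K ≤ A) {v : E} (hv : v ∈ FF ρ F K) :
    ρ a v ∈ FF ρ F K := ⟨C.invR a (C.AR ha) v hv.1, fun k hk => by
  rw [← rho_mul, C.Acomm k (hK hk) a ha, rho_mul, hv.2 k hk]⟩

/-- Outside a component the action is fixed-point-free. -/
theorem ACtx.fpf {K : Subgroup S} (hK : Good ρ F A K) {a : S} (ha : a ∈ A) (haK : a ∉ K) {v : E}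
    (hv : v ∈ FF ρ F K) (h : ρ a v = v) : v = 0 := by
  by_contra hv0
  refine haK ?_
  have hne : FF ρ F (K ⊔ Subgroup.zpowers a) ≠ ⊥ := fun hb => hv0 (by
    have : v ∈ FF ρ F (K ⊔ Subgroup.zpowers a) := ⟨hv.1, fun k hk =>
      (show K ⊔ Subgroup.zpowers a ≤ fixing ρ {v} from sup_le (fun k hk w hw => by
        rw [Set.mem_singleton_iff.1 hw]; exact hv.2 k hk) (Subgroup.zpowers_le.2 fun w hw => by
        rw [Set.mem_singleton_iff.1 hw]; exact h)) hk v rfl⟩
    rw [hb, Submodule.mem_bot] at this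
    exact this)
  rw [← hK.2.2 _ le_sup_left (sup_le hK.1 (Subgroup.zpowers_le.2 ha)) hne]
  exact Subgroup.mem_sup_right (Subgroup.mem_zpowers a)

theorem ACtx.r_ne : (r : ZMod 3) ≠ 0 ∧ r ≠ 3 := by
  have h3 : r ≠ 3 := by
    intro h
    refine C.Anc fun a ha => ?_
    have h1 : a = 1 := by
      by_contra h1
      haveI : Fact r.Prime := ⟨C.rp⟩
      have ho : orderOf a = r := orderOf_eq_prime (C.Aexp a ha) h1
      have : orderOf (⟨a, C.AR ha⟩ : R) ∣ Nat.card R := orderOf_dvd_natCard _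
      rw [Subgroup.orderOf_mk, ho, h] at this
      exact (Nat.prime_three.coprime_iff_not_dvd.1 C.cop.symm) this
    simp [h1]
  refine ⟨fun h => h3 ?_, h3⟩
  rw [ZMod.natCast_eq_zero_iff] at h
  exact ((Nat.prime_dvd_prime_iff_eq Nat.prime_three C.rp).1 h).symm

omit C in
theorem nsmul_eq_zero_three {n : ℕ} (hn : (n : ZMod 3) ≠ 0) {v : E} (h : n • v = 0) : v = 0 := by
  rw [← Nat.cast_smul_eq_nsmul (ZMod 3)] at h
  exact (smul_eq_zero.1 h).resolve_left hn

/-- `A` is cyclic modulo a component. -/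
theorem ACtx.cyclic {K : Subgroup S} (hK : Good ρ F A K) {a : S} (ha : a ∈ A) (haK : a ∉ K) {c : S} (hc : c ∈ A) :
    ∃ j, j < r ∧ c * a ^ j ∈ K := by
  classical
  by_contra hno
  simp only [not_exists, not_and] at hno
  obtain ⟨x, hx, hx0⟩ := Submodule.exists_mem_ne_zero_of_ne_bot hK.2.1
  have horb : ∀ e ∈ A, e ∉ K → ∑ i ∈ Finset.range r, ρ (e ^ i) x = 0 := by
    intro e he heK
    set N := ∑ i ∈ Finset.range r, ρ (e ^ i) x with hN
    have hNF : N ∈ FF ρ F K := Submodule.sum_mem _ fun i _ => C.invA (pow_mem he i) hK.1 hx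
    refine C.fpf hK he heK hNF ?_
    have h1 := Finset.sum_range_succ (fun i => ρ (e ^ i) x) r
    have h2 := Finset.sum_range_succ' (fun i => ρ (e ^ i) x) r
    rw [h1, C.Aexp e he, pow_zero] at h2
    rw [hN, map_sum]
    calc ∑ i ∈ Finset.range r, ρ e (ρ (e ^ i) x) = ∑ i ∈ Finset.range r, ρ (e ^ (i + 1)) x :=
          Finset.sum_congr rfl fun i _ => by rw [← rho_mul, ← pow_succ']
      _ = _ := (add_right_cancel h2).symm
  have hA : ∀ i ∈ Finset.range r, ∀ j ∈ Finset.range r, ρ ((c * a ^ j) ^ i) x = ρ (c ^ i) (ρ (a ^ (j * i)) x) := by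
    intro i _ j _
    rw [(show Commute c (a ^ j) from C.Acomm c hc _ (pow_mem ha j)).mul_pow, rho_mul, ← pow_mul]
  have h0 : ∑ j ∈ Finset.range r, ∑ i ∈ Finset.range r, ρ ((c * a ^ j) ^ i) x = 0 :=
    Finset.sum_eq_zero fun j hj => horb _ (mul_mem hc (pow_mem ha j)) (hno j (Finset.mem_range.1 hj))
  rw [Finset.sum_comm] at h0
  have hinner : ∀ i ∈ Finset.range r, i ≠ 0 → ∑ j ∈ Finset.range r, ρ ((c * a ^ j) ^ i) x = 0 := by
    intro i hi hi0
    rw [Finset.sum_congr rfl fun j hj => hA i hi j hj, ← map_sum]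
    have haiK : a ^ i ∉ K := fun h => by
      obtain ⟨u, v, huv⟩ : ∃ u v : ℤ, (i : ℤ) * u + (r : ℤ) * v = 1 :=
        ⟨Nat.gcdA i r, Nat.gcdB i r, by
          have := Nat.gcd_eq_gcd_ab i r
          rw [show Nat.gcd i r = 1 from Nat.Coprime.gcd_eq_one ((C.rp.coprime_iff_not_dvd.2
            fun hd => absurd (Nat.le_of_dvd (Nat.pos_of_ne_zero hi0) hd) (not_le.2 (Finset.mem_range.1 hi))).symm)] at this
          simpa using this.symm⟩
      refine haK ?_
      rw [← zpow_one a, ← huv, zpow_add, zpow_mul, zpow_mul, zpow_natCast, zpow_natCast, C.Aexp a ha, one_zpow,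
        mul_one]
      exact zpow_mem h u
    rw [Finset.sum_congr rfl fun j _ => by rw [Nat.mul_comm j i, pow_mul], horb _ (pow_mem ha i) haiK, map_zero]
  rw [Finset.sum_eq_single 0 hinner (fun h => absurd (Finset.mem_range.2 C.rp.pos) h)] at h0
  simp only [pow_zero, rho_one, Finset.sum_const, Finset.card_range] at h0
  exact hx0 (nsmul_eq_zero_three C.r_ne.1 h0)

/-- The components are independent. -/
theorem ACtx.indep {ι : Type*} [Fintype ι] (K : ι → Subgroup S) (hinj : Function.Injective K)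
    (hK : ∀ i, Good ρ F A (K i)) (v : ι → E) (hv : ∀ i, v i ∈ FF ρ F (K i)) (h : ∑ i, v i = 0) :
    ∀ i, v i = 0 := by
  classical
  intro i
  letI := Fintype.ofFinite ↥(K i)
  let av : E →ₗ[ZMod 3] E := ∑ k : ↥(K i), ρ (k : S)
  have hkill : ∀ j, j ≠ i → av (v j) = 0 := by
    intro j hj
    set w := av (v j) with hw
    have hwe : w = ∑ k : ↥(K i), ρ (k : S) (v j) := by rw [hw]; simp [av, LinearMap.sum_apply]
    have hwj : w ∈ FF ρ F (K j) := by
      rw [hwe]
      exact Submodule.sum_mem _ fun k _ => C.invA ((hK i).1 k.2) (hK j).1 (hv j)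
    have hwi : ∀ k ∈ K i, ρ k w = w := by
      intro k hk
      rw [hwe, map_sum]
      refine Fintype.sum_equiv (Equiv.mulLeft (⟨k, hk⟩ : ↥(K i))) _ _ fun g => ?_
      rw [← rho_mul]; rfl
    have hsub : ¬ K i ≤ K j := fun hle =>
      hj (hinj ((hK i).2.2 (K j) hle (hK j).1 (hK j).2.1))
    obtain ⟨k, hk, hkj⟩ := SetLike.not_le_iff_exists.1 hsub
    exact C.fpf (hK j) ((hK i).1 hk) hkj hwj (hwi k hk)
  have h1 := congrArg av h
  rw [map_sum, map_zero, Finset.sum_eq_single i (fun j _ hj => hkill j hj) (fun h => absurd (Finset.mem_univ i) h)]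
    at h1
  have h2 : av (v i) = Fintype.card ↥(K i) • v i := by
    simp only [av, LinearMap.sum_apply]
    rw [Finset.sum_congr rfl fun (k : ↥(K i)) _ => (hv i).2 (k : S) k.2, Finset.sum_const, Finset.card_univ]
  rw [h2] at h1
  refine nsmul_eq_zero_three (fun h3 => ?_) h1
  rw [ZMod.natCast_eq_zero_iff, ← Nat.card_eq_fintype_card] at h3
  exact (Nat.prime_three.coprime_iff_not_dvd.1 C.cop.symm)
    (h3.trans (Subgroup.card_dvd_of_le ((hK i).1.trans C.AR)))

/-- No three independent vectors among the commutators of `b`. -/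
theorem ACtx.no_three (x : Fin 3 → E) (hx : ∀ i, x i ∈ F)
    (h : ∀ g : Fin 3 → ZMod 3, ∑ i, g i • (ρ b (x i) - x i) = 0 → ∀ i, g i = 0) : False := by
  have hli : LinearIndependent (ZMod 3) (fun i => (⟨ρ b (x i) - x i, ⟨x i, hx i, rfl⟩⟩ : F.map (ρ b - 1))) := by
    rw [Fintype.linearIndependent_iff]
    intro g hg
    refine h g ?_
    have := congrArg Subtype.val hg
    simpa using this
  have := hli.fintype_card_le_finrank
  rw [Fintype.card_fin] at this
  have := C.rank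
  omega

/-- An element of `R` fixing every component pointwise is trivial. -/
theorem ACtx.eq_one_of_fix {s : S} (hs : s ∈ R) (h : ∀ K, Good ρ F A K → ∀ v ∈ FF ρ F K, ρ s v = v) : s = 1 := by
  refine C.faith s hs fun v hv => ?_
  set T : Submodule (ZMod 3) E := Submodule.span (ZMod 3) {w | ∃ K, Good ρ F A K ∧ w ∈ FF ρ F K} with hT
  have hTinv : ∀ g ∈ stab ρ F A, ∀ w ∈ T, ρ g w ∈ T := by
    intro g hg w hw
    refine (Submodule.span_le (p := T.comap (ρ g))).2 ?_ hw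
    rintro u ⟨K, hK, hu⟩
    exact Submodule.subset_span ⟨_, C.good_map hg hK, (mem_FF_map hg.2 K u).2 hu⟩
  have hTF : T = F := by
    refine (C.irr T (Submodule.span_le.2 fun u ⟨K, _, hu⟩ => hu.1) (fun g hg => hTinv g (C.hbR.2 hg))
      (hTinv b C.hbR.1)).resolve_left fun h0 => ?_
    obtain ⟨K, hK⟩ := C.exists_good
    obtain ⟨u, hu, hu0⟩ := Submodule.exists_mem_ne_zero_of_ne_bot hK.2.1
    exact hu0 ((Submodule.mem_bot (ZMod 3)).1 (h0 ▸ Submodule.subset_span ⟨K, hK, hu⟩))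
  rw [← hTF] at hv
  have h1 : v ∈ LinearMap.ker (ρ s - 1) := (Submodule.span_le (p := LinearMap.ker (ρ s - 1))).2 ?_ hv
  · exact sub_eq_zero.1 h1
  rintro u ⟨K, hK, hu⟩
  show (ρ s - 1) u = 0
  rw [LinearMap.sub_apply, h K hK u hu]
  exact sub_self u

/-- Any two components are conjugate. -/
theorem ACtx.transitive {K K' : Subgroup S} (hK : Good ρ F A K) (hK' : Good ρ F A K') (H : Subgroup S)
    (hH : H ≤ stab ρ F A) (hbH : b ∈ H) (hRH : R ≤ H) : ∃ g ∈ H, K.map (MulAut.conj g).toMonoidHom = K' := by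
  classical
  by_contra hno
  simp only [not_exists, not_and] at hno
  set T : Submodule (ZMod 3) E := Submodule.span (ZMod 3)
    {w | ∃ g ∈ H, w ∈ FF ρ F (K.map (MulAut.conj g).toMonoidHom)} with hT
  have hTinv : ∀ g ∈ H, ∀ w ∈ T, ρ g w ∈ T := by
    intro g hg w hw
    refine (Submodule.span_le (p := T.comap (ρ g))).2 ?_ hw
    rintro u ⟨g', hg', hu⟩
    refine Submodule.subset_span ⟨g * g', mul_mem hg hg', ?_⟩
    have := (mem_FF_map (hH hg).2 _ u).2 hu
    rw [Subgroup.map_map] at this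
    convert this
    ext x
    simp [mul_assoc]
  have hTF : T = F := by
    refine (C.irr T (Submodule.span_le.2 fun u ⟨g, _, hu⟩ => hu.1) (fun g hg => hTinv g (hRH hg))
      (hTinv b hbH)).resolve_left fun h0 => ?_
    obtain ⟨u, hu, hu0⟩ := Submodule.exists_mem_ne_zero_of_ne_bot hK.2.1
    refine hu0 ((Submodule.mem_bot (ZMod 3)).1 (h0 ▸ Submodule.subset_span ⟨1, one_mem H, ?_⟩))
    convert hu
    convert K.map_id
    ext x
    simp
  obtain ⟨u, hu, hu0⟩ := Submodule.exists_mem_ne_zero_of_ne_bot hK'.2.1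
  letI := Fintype.ofFinite ↥K'
  let av : E →ₗ[ZMod 3] E := ∑ k : ↥K', ρ (k : S)
  have hkill : T ≤ LinearMap.ker av := by
    refine Submodule.span_le.2 ?_
    rintro w ⟨g, hg, hw⟩
    have hj := C.good_map (hH hg) hK
    show av w = 0
    have hwe : av w = ∑ k : ↥K', ρ (k : S) w := by simp [av, LinearMap.sum_apply]
    obtain ⟨k, hk, hkj⟩ := SetLike.not_le_iff_exists.1 (fun hle : K' ≤ K.map (MulAut.conj g).toMonoidHom =>
      hno g hg (hK'.2.2 _ hle hj.1 hj.2.1))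
    refine C.fpf hj (hK'.1 hk) hkj ?_ ?_
    · rw [hwe]
      exact Submodule.sum_mem _ fun k _ => C.invA (hK'.1 k.2) hj.1 hw
    · rw [hwe, map_sum]
      refine Fintype.sum_equiv (Equiv.mulLeft (⟨k, hk⟩ : ↥K')) _ _ fun g => ?_
      rw [← rho_mul]; rfl
  have h1 : av u = 0 := hkill (hTF.symm ▸ hu.1 : u ∈ T)
  have h2 : av u = Fintype.card ↥K' • u := by
    simp only [av, LinearMap.sum_apply]
    rw [Finset.sum_congr rfl fun (k : ↥K') _ => hu.2 (k : S) k.2, Finset.sum_const, Finset.card_univ]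
  rw [h2] at h1
  refine hu0 (nsmul_eq_zero_three (fun h3 => ?_) h1)
  rw [ZMod.natCast_eq_zero_iff, ← Nat.card_eq_fintype_card] at h3
  exact (Nat.prime_three.coprime_iff_not_dvd.1 C.cop.symm)
    (h3.trans (Subgroup.card_dvd_of_le (hK'.1.trans C.AR)))

end Cfsg.Agent.Solv.ThreeBlock
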