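import Cfsg.Agent.Lib.Solv.ThreeBlock.Quadratic
import Mathlib.GroupTheory.Perm.Cycle.Type
import Mathlib.GroupTheory.QuotientGroup.Basic
import Mathlib.Tactic.IntervalCases
import Mathlib.Tactic.NormNum.Prime
import Mathlib.Tactic.NormNum.GCD

/-!
# There always is a noncentral abelian invariant subgroup
-/

set_option autoImplicit false

namespace Cfsg.Agent.Solv.ThreeBlock

open scoped commutatorElement

variable {S : Type*} [Group S] [Finite S] {E : Type*} [AddCommGroup E] [Module (ZMod 3) E] [Finite E]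

/-- The congruence for the fixed points of an element of prime order acting by conjugation. -/
theorem conj_congr {g : S} {q : ℕ} (hq : q.Prime) (hg : g ^ q = 1) (Y : Subgroup S)
    (hY : ∀ y ∈ Y, g * y * g⁻¹ ∈ Y) :
    q ∣ Nat.card Y - Nat.card (Y ⊓ Subgroup.centralizer {g} : Subgroup S) := by
  classical
  haveI : Fact q.Prime := ⟨hq⟩
  have hz : ∀ k ∈ Subgroup.zpowers g, ∀ y ∈ Y, k * y * k⁻¹ ∈ Y := by
    intro k hk
    obtain ⟨n, rfl⟩ := mem_powers_iff_mem_zpowers.2 hk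
    simp only
    induction n with
    | zero => simp
    | succ n ih =>
      intro y hy
      rw [show g ^ (n + 1) * y * (g ^ (n + 1))⁻¹ = g * (g ^ n * y * (g ^ n)⁻¹) * g⁻¹ by rw [pow_succ']; group]
      exact hY _ (ih (pow_mem (Subgroup.mem_zpowers g) n) y hy)
  letI : MulAction (Subgroup.zpowers g) Y :=
    { smul := fun k y => ⟨(k : S) * y * (k : S)⁻¹, hz k k.2 y y.2⟩
      one_smul := fun y => Subtype.ext (show ((1 : Subgroup.zpowers g) : S) * y * _ = _ by simp)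
      mul_smul := fun k h y => Subtype.ext (show ((k * h : Subgroup.zpowers g) : S) * y * _ = _ by
        simp only [Subgroup.coe_mul]
        show _ = (k : S) * ((h : S) * y * (h : S)⁻¹) * (k : S)⁻¹
        group) }
  have hp : IsPGroup q (Subgroup.zpowers g) := by
    intro k
    refine ⟨1, ?_⟩
    obtain ⟨n, hn⟩ := Subgroup.mem_zpowers_iff.1 k.2
    apply Subtype.ext
    rw [SubmonoidClass.coe_pow, pow_one, ← hn, ← zpow_natCast, ← zpow_mul, mul_comm, zpow_mul,
      zpow_natCast, hg, one_zpow, Subgroup.coe_one]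
  have h := hp.card_modEq_card_fixedPoints (α := Y)
  have hfix : Nat.card (MulAction.fixedPoints (Subgroup.zpowers g) Y) =
      Nat.card (Y ⊓ Subgroup.centralizer {g} : Subgroup S) := by
    refine Nat.card_congr
      { toFun := fun x => ⟨((x : Y) : S), (x : Y).2, Subgroup.mem_centralizer_singleton_iff.2 ?_⟩
        invFun := fun x => ⟨⟨(x : S), x.2.1⟩, fun k => Subtype.ext ?_⟩
        left_inv := fun _ => rfl
        right_inv := fun _ => rfl }
    · exact (mul_inv_eq_iff_eq_mul.1 (congrArg Subtype.val (x.2 ⟨g, Subgroup.mem_zpowers g⟩))).symm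
    · show (k : S) * x * (k : S)⁻¹ = x
      obtain ⟨n, hn⟩ := Subgroup.mem_zpowers_iff.1 k.2
      rw [← hn, mul_inv_eq_iff_eq_mul]
      exact ((show Commute (x : S) g from Subgroup.mem_centralizer_singleton_iff.1 x.2.2).zpow_right n).eq.symm
  rw [hfix] at h
  exact (Nat.modEq_iff_dvd' (Subgroup.card_le_of_le inf_le_left)).1 h.symm

theorem gcd_case {j k i q : ℕ} (hq : q.Prime) (hq2 : q ≠ 2) (hq3 : q ≠ 3) (hj : j < 4) (hk : k < 6) (hi : i < k)
    (hi1 : 1 ≤ i) (h1 : q ∣ 81 - 3 ^ j) (h2 : q ∣ 2 ^ k - 2 ^ i) : q = 5 ∧ k = 5 ∧ i = 1 := by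
  have hkey : Nat.gcd (81 - 3 ^ j) (2 ^ k - 2 ^ i) ∣ 2 ^ 8 * 3 ^ 4 * 5 := by
    interval_cases k <;> interval_cases i <;> interval_cases j <;> norm_num
  have h5 : q = 5 := by
    rcases (Nat.Prime.dvd_mul hq).1 ((Nat.dvd_gcd h1 h2).trans hkey) with h | h
    · rcases (Nat.Prime.dvd_mul hq).1 h with h | h
      · exact absurd ((Nat.prime_dvd_prime_iff_eq hq Nat.prime_two).1 (hq.dvd_of_dvd_pow h)) hq2
      · exact absurd ((Nat.prime_dvd_prime_iff_eq hq Nat.prime_three).1 (hq.dvd_of_dvd_pow h)) hq3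
    · exact (Nat.prime_dvd_prime_iff_eq hq (by norm_num)).1 h
  subst h5
  refine ⟨rfl, ?_⟩
  interval_cases k <;> interval_cases i <;> norm_num at h2 <;> exact ⟨rfl, rfl⟩

variable {ρ : Representation (ZMod 3) S E} {b : S} {R Q : Subgroup S} {F : Submodule (ZMod 3) E}
  {L : Subgroup S} {z : S}

omit [Finite S] [Finite E] in
theorem LData.mem_Z (D : LData ρ b R F L z) {w : S} : w ∈ Subgroup.zpowers z ↔ w = 1 ∨ w = z := by
  constructor
  · intro h
    obtain ⟨n, rfl⟩ := Subgroup.mem_zpowers_iff.1 h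
    rcases Int.even_or_odd' n with ⟨m, rfl | rfl⟩
    · left; rw [zpow_mul, zpow_ofNat, D.sqz, one_zpow]
    · right; rw [zpow_add, zpow_mul, zpow_ofNat, D.sqz, one_zpow, one_mul, zpow_one]
  · rintro (rfl | rfl)
    · exact one_mem _
    · exact Subgroup.mem_zpowers _

variable (C : BCtx ρ b R Q F) (D : LData ρ b R F L z)
include C D

/-- The group is its radical. -/
theorem BCtx.le_L : R ≤ L := by
  classical
  by_contra hRL
  -- a subgroup that is abelian modulo the radical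
  have hD : ∀ k, (derivedSeries R k).map R.subtype = dser R k := by
    intro k
    induction k with
    | zero => rw [derivedSeries_zero, ← MonoidHom.range_eq_map, Subgroup.range_subtype, dser]
    | succ k ih => rw [derivedSeries_succ, Subgroup.map_commutator, ih, dser]
  have hex : ∃ k, dser R k ≤ L := by
    obtain ⟨k, hk⟩ := C.solv.solvable
    exact ⟨k, by rw [← hD, hk, Subgroup.map_bot]; exact bot_le⟩
  obtain ⟨k, hk⟩ : ∃ k, Nat.find hex = k + 1 := ⟨Nat.find hex - 1, by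
    have : Nat.find hex ≠ 0 := fun h => hRL (by have := Nat.find_spec hex; rwa [h] at this)
    omega⟩
  set N := dser R k with hN
  have hNL : ¬ N ≤ L := Nat.find_min hex (by omega)
  have hN' : ⁅N, N⁆ ≤ L := by have := Nat.find_spec hex; rwa [hk] at this
  have hNR : N ≤ R := by rw [hN, ← hD]; exact Subgroup.map_subtype_le _
  have hRinv : Inv b R R := ⟨fun g hg x hx => mul_mem (mul_mem hg hx) (inv_mem hg), C.bR⟩
  have hNinv : Inv b R N := inv_dser hRinv k
  let Mx : S → Subgroup S := fun x =>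
    { carrier := {r | r ∈ R ∧ r * x * r⁻¹ * x⁻¹ ∈ L}
      one_mem' := ⟨one_mem R, by simp [one_mem]⟩
      mul_mem' := fun {r s} hr hs => ⟨mul_mem hr.1 hs.1, by
        rw [show r * s * x * (r * s)⁻¹ * x⁻¹ = r * (s * x * s⁻¹ * x⁻¹) * r⁻¹ * (r * x * r⁻¹ * x⁻¹) by group]
        exact mul_mem (D.Linv.1 r hr.1 _ hs.2) hr.2⟩
      inv_mem' := fun {r} hr => ⟨inv_mem hr.1, by
        rw [show r⁻¹ * x * r⁻¹⁻¹ * x⁻¹ = r⁻¹ * (r * x * r⁻¹ * x⁻¹)⁻¹ * r⁻¹⁻¹ by group]
        exact D.Linv.1 r⁻¹ (inv_mem hr.1) _ (inv_mem hr.2)⟩ }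
  have hLM : ∀ x ∈ R, L ≤ Mx x := fun x hx l hl => ⟨D.LR hl, by
    rw [show l * x * l⁻¹ * x⁻¹ = l * (x * l⁻¹ * x⁻¹) by group]
    exact mul_mem hl (D.Linv.1 x hx _ (inv_mem hl))⟩
  set T := N ⊔ L with hT
  have hTR : T ≤ R := sup_le hNR D.LR
  have hTinv : Inv b R T := by
    have hconj : ∀ g : S, (∀ x ∈ N, g * x * g⁻¹ ∈ N) → (∀ x ∈ L, g * x * g⁻¹ ∈ L) →
        ∀ y ∈ T, g * y * g⁻¹ ∈ T := by
      intro g h1 h2 y hy
      have h : T.map (MulAut.conj g).toMonoidHom ≤ T := by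
        rw [hT, Subgroup.map_sup]
        refine sup_le_sup ?_ ?_
        · rintro _ ⟨x, hx, rfl⟩; exact h1 x hx
        · rintro _ ⟨x, hx, rfl⟩; exact h2 x hx
      exact h ⟨y, hy, rfl⟩
    exact ⟨fun g hg => hconj g (hNinv.1 g hg) (D.Linv.1 g hg), hconj b hNinv.2 D.Linv.2⟩
  have hTM : ∀ t ∈ T, T ≤ Mx t := by
    intro t ht
    refine sup_le (fun n hn => ⟨hNR hn, ?_⟩) (hLM t (hTR ht))
    have hn' : T ≤ Mx n := sup_le (fun m hm => ⟨hNR hm, hN' (Subgroup.commutator_mem_commutator hm hn)⟩) (hLM n (hNR hn))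
    rw [show n * t * n⁻¹ * t⁻¹ = (t * n * t⁻¹ * n⁻¹)⁻¹ by group]
    exact inv_mem (hn' ht).2
  have hodd : ∀ x ∈ L, Odd (orderOf x) → x = 1 := by
    intro x hx ho
    obtain ⟨j, hj⟩ := D.Lp ⟨x, hx⟩
    have hj' : x ^ 2 ^ j = 1 := congrArg Subtype.val hj
    exact orderOf_eq_one_iff.1 (Nat.eq_one_of_dvd_coprimes ((Nat.coprime_two_right.2 ho).pow_right j)
      dvd_rfl (orderOf_dvd_of_pow_eq_one hj'))
  obtain ⟨g, hgT, q, hq, hq2, hgq, hg1⟩ : ∃ g ∈ T, ∃ q : ℕ, q.Prime ∧ q ≠ 2 ∧ g ^ q = 1 ∧ g ≠ 1 := by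
    by_contra hno
    simp only [not_exists, not_and] at hno
    refine hNL (le_sup_left.trans (D.Lmax T hTR hTinv fun x => ?_))
    obtain ⟨e, m, hm, he⟩ := Nat.exists_eq_two_pow_mul_odd (orderOf_pos (x : S)).ne'
    refine ⟨e, Subtype.ext ?_⟩
    rw [SubmonoidClass.coe_pow, Subgroup.coe_one]
    by_contra hne
    have ho : orderOf ((x : S) ^ 2 ^ e) = m := by
      rw [orderOf_pow' _ (pow_ne_zero e two_ne_zero), he, Nat.gcd_eq_right (dvd_mul_right _ _),
        Nat.mul_div_cancel_left _ (pow_pos two_pos e)]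
    have hm1 : m ≠ 1 := fun h => hne (orderOf_eq_one_iff.1 (ho.trans h))
    obtain ⟨p, hp, hpm⟩ := Nat.exists_prime_and_dvd hm1
    have hyo : orderOf (((x : S) ^ 2 ^ e) ^ (m / p)) = p := by
      rw [← ho] at hpm ⊢
      exact orderOf_pow_orderOf_div (orderOf_pos _).ne' hpm
    refine hno _ (pow_mem (pow_mem x.2 _) _) p hp (fun h2 => ?_) (by
      have := pow_orderOf_eq_one (((x : S) ^ 2 ^ e) ^ (m / p))
      rwa [hyo] at this)
      (fun h => hp.ne_one (hyo.symm.trans (orderOf_eq_one_iff.2 h)))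
    subst h2
    exact Nat.not_even_iff_odd.2 hm (even_iff_two_dvd.2 hpm)
  haveI : Fact q.Prime := ⟨hq⟩
  have hgR : g ∈ R := hTR hgT
  have hgord : orderOf g = q := orderOf_eq_prime hgq hg1
  have hqodd : Odd q := hq.odd_of_ne_two hq2
  have hgL : g ∉ L := fun h => hg1 (hodd g h (hgord ▸ hqodd))
  have hq3 : q ≠ 3 := by
    intro h
    have : orderOf (⟨g, hgR⟩ : R) ∣ Nat.card R := orderOf_dvd_natCard _
    rw [Subgroup.orderOf_mk, hgord, h] at this
    exact Nat.prime_three.coprime_iff_not_dvd.1 C.cop.symm this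
  -- the numbers
  have hF4 := C.finrank_eq D
  set j := Module.finrank (ZMod 3) (FF ρ F (Subgroup.zpowers g)) with hjdef
  have hFg := fix_congr ρ hq hgq F (C.invR g hgR)
  rw [hF4, ← hjdef, show 3 ^ 4 = 81 from rfl] at hFg
  have hj : j < 4 := by
    rw [hjdef, ← hF4]
    refine Submodule.finrank_lt_finrank_of_lt (lt_of_le_of_ne (fun v hv => hv.1) fun h => hg1 ?_)
    exact C.faith g hgR fun v hv => (h.symm ▸ hv : v ∈ FF ρ F (Subgroup.zpowers g)).2 g (Subgroup.mem_zpowers g)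
  set Cg := L ⊓ Subgroup.centralizer {g} with hCg
  have hLg := conj_congr hq hgq L (D.Linv.1 g hgR)
  rw [← hCg] at hLg
  haveI : Fact (Nat.Prime 2) := ⟨Nat.prime_two⟩
  obtain ⟨kL, hkL⟩ := IsPGroup.iff_card.1 D.Lp
  obtain ⟨i, hik, hi⟩ := (Nat.dvd_prime_pow Nat.prime_two).1 (hkL ▸ Subgroup.card_dvd_of_le (inf_le_left : Cg ≤ L))
  have hz2 : Nat.card (Subgroup.zpowers z) = 2 := by rw [Nat.card_zpowers, orderOf_eq_prime D.sqz D.z1]
  have hZle : Subgroup.zpowers z ≤ Cg := Subgroup.zpowers_le.2 ⟨D.zL,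
    Subgroup.mem_centralizer_singleton_iff.2 (D.zR g hgR).symm⟩
  have hi1 : 1 ≤ i := by
    by_contra h
    have := Subgroup.card_le_of_le hZle
    rw [hz2, hi, show i = 0 by omega, pow_zero] at this
    omega
  have hlt : i < kL := by
    refine lt_of_le_of_ne hik fun h => hgL (D.CL g hgR fun l hl => ?_)
    have e : Cg = L := Subgroup.eq_of_le_of_card_ge inf_le_left (by rw [hkL, hi, h])
    have := Subgroup.mem_centralizer_singleton_iff.1 (e.symm ▸ hl : l ∈ Cg).2
    exact this.symm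
  set Zs := (Subgroup.zpowers z).subgroupOf L with hZs
  have hcardL : Nat.card L = Nat.card (L ⧸ Zs) * 2 := by
    rw [Subgroup.card_eq_card_quotient_mul_card_subgroup Zs,
      Nat.card_congr (Subgroup.subgroupOfEquivOfLe (hZle.trans inf_le_left)).toEquiv, hz2]
  have hLq : Nat.card (L ⧸ Zs) ≤ 16 := C.card_le D
  have hk6 : kL < 6 := by
    by_contra h
    have h64 : 2 ^ 6 ≤ 2 ^ kL := Nat.pow_le_pow_right two_pos (by omega)
    rw [← hkL, hcardL] at h64
    omega
  rw [hkL, hi] at hLg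
  obtain ⟨hq5, hk5, hi'⟩ := gcd_case hq hq2 hq3 hj hk6 hlt hi1 hFg hLg
  subst hq5
  have hCgZ : Cg = Subgroup.zpowers z :=
    (Subgroup.eq_of_le_of_card_ge hZle (by rw [hz2, hi, hi', pow_one])).symm
  -- semiregularity on the radical modulo its centre
  have hsemi : ∀ r ∈ R, r * g * r⁻¹ * g⁻¹ ∈ L → ∀ x ∈ L, x ∉ Subgroup.zpowers z →
      ⁅r, x⁆ ∈ Subgroup.zpowers z → r ∈ L := by
    intro r hr hrg x hx hxZ hrx
    have hZc : ∀ w ∈ Subgroup.zpowers z, ∀ s ∈ R, s * w = w * s := fun w hw s hs => by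
      rcases D.mem_Z.1 hw with rfl | rfl
      · simp
      · exact D.zR s hs
    let Y : Subgroup S :=
      { carrier := {l | l ∈ L ∧ ⁅r, l⁆ ∈ Subgroup.zpowers z}
        one_mem' := ⟨one_mem L, by rw [commutatorElement_one_right]; exact one_mem _⟩
        mul_mem' := fun {l m} hl hm => ⟨mul_mem hl.1 hm.1, by
          rw [show ⁅r, l * m⁆ = ⁅r, l⁆ * (l * ⁅r, m⁆ * l⁻¹) by simp only [commutatorElement_def]; group,
            hZc _ hm.2 l (D.LR hl.1), mul_inv_cancel_right]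
          exact mul_mem hl.2 hm.2⟩
        inv_mem' := fun {l} hl => ⟨inv_mem hl.1, by
          rw [show ⁅r, l⁻¹⁆ = l⁻¹ * ⁅r, l⁆⁻¹ * l by simp only [commutatorElement_def]; group,
            hZc _ (inv_mem hl.2) _ (inv_mem (D.LR hl.1)), inv_mul_cancel_right]
          exact inv_mem hl.2⟩ }
    have hYg : ∀ y ∈ Y, g * y * g⁻¹ ∈ Y := by
      rintro y ⟨hy, hry⟩
      refine ⟨D.Linv.1 g hgR y hy, ?_⟩
      set e := r * g * r⁻¹ * g⁻¹ with he
      set c := ⁅r, y⁆ with hc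
      have hy' : g * y * g⁻¹ ∈ L := D.Linv.1 g hgR y hy
      have h : ⁅r, g * y * g⁻¹⁆ = c * ⁅e, g * y * g⁻¹⁆ := by
        have h1 : c * (e * g) = e * g * c := (hZc c hry _ (mul_mem (D.LR hrg) hgR)).symm
        calc ⁅r, g * y * g⁻¹⁆ = (e * g * c) * (y * g⁻¹ * e⁻¹ * (g * y * g⁻¹)⁻¹) := by
              rw [he, hc]; simp only [commutatorElement_def]; group
          _ = (c * (e * g)) * (y * g⁻¹ * e⁻¹ * (g * y * g⁻¹)⁻¹) := by rw [h1]
          _ = c * ⁅e, g * y * g⁻¹⁆ := by simp only [commutatorElement_def]; group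
      rw [h]
      exact mul_mem hry (D.mem_Z.2 (D.comm e hrg _ hy'))
    have hYL : Y ≤ L := fun y hy => hy.1
    have hZY : Subgroup.zpowers z ≤ Y := fun w hw => ⟨(hZle hw).1, by
      rw [commutatorElement_eq_one_iff_mul_comm.2 (hZc w hw r hr)]; exact one_mem _⟩
    have hYC : Y ⊓ Subgroup.centralizer {g} = Subgroup.zpowers z :=
      le_antisymm (hCgZ ▸ inf_le_inf_right _ hYL) (le_inf hZY (hZle.trans inf_le_right))
    have hd := conj_congr hq hgq Y hYg
    rw [hYC, hz2] at hd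
    obtain ⟨iY, hiY, hY⟩ := (Nat.dvd_prime_pow Nat.prime_two).1 (hkL ▸ Subgroup.card_dvd_of_le hYL)
    have hgt : 2 < Nat.card Y := by
      by_contra h
      have e := Subgroup.eq_of_le_of_card_ge hZY (by rw [hz2]; omega)
      exact hxZ (e ▸ (⟨hx, hrx⟩ : x ∈ Y))
    rw [hY] at hd hgt
    rw [hk5] at hiY
    have hiY5 : iY = 5 := by interval_cases iY <;> first | omega | (norm_num at hd hgt)
    have hYeq : Y = L := Subgroup.eq_of_le_of_card_ge hYL (by rw [hY, hiY5, hkL, hk5])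
    -- elements acting trivially modulo the centre lie in the radical
    let K : Subgroup S :=
      { carrier := {s | s ∈ R ∧ ∀ l ∈ L, ⁅s, l⁆ ∈ Subgroup.zpowers z}
        one_mem' := ⟨one_mem R, fun l _ => by rw [commutatorElement_one_left]; exact one_mem _⟩
        mul_mem' := fun {s t} hs ht => ⟨mul_mem hs.1 ht.1, fun l hl => by
          rw [show ⁅s * t, l⁆ = s * ⁅t, l⁆ * s⁻¹ * ⁅s, l⁆ by simp only [commutatorElement_def]; group,
            hZc _ (ht.2 l hl) s hs.1, mul_inv_cancel_right]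
          exact mul_mem (ht.2 l hl) (hs.2 l hl)⟩
        inv_mem' := fun {s} hs => ⟨inv_mem hs.1, fun l hl => by
          rw [show ⁅s⁻¹, l⁆ = s⁻¹ * ⁅s, l⁆⁻¹ * s by simp only [commutatorElement_def]; group,
            hZc _ (inv_mem (hs.2 l hl)) _ (inv_mem hs.1), inv_mul_cancel_right]
          exact inv_mem (hs.2 l hl)⟩ }
    have hKinv : Inv b R K := by
      refine ⟨fun s hs x hx => ⟨mul_mem (mul_mem hs hx.1) (inv_mem hs), fun l hl => ?_⟩,
        fun x hx => ⟨C.bR x hx.1, fun l hl => ?_⟩⟩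
      · have hl' := D.Linv.1 s⁻¹ (inv_mem hs) l hl
        have hm := hx.2 _ hl'
        rw [show ⁅s * x * s⁻¹, l⁆ = s * ⁅x, s⁻¹ * l * s⁻¹⁻¹⁆ * s⁻¹ by simp only [commutatorElement_def]; group,
          hZc _ hm s hs, mul_inv_cancel_right]
        exact hm
      · have hl' : b⁻¹ * l * b ∈ L := by
          have := D.Linv.2 _ (D.Linv.2 l hl)
          rwa [show b * (b * l * b⁻¹) * b⁻¹ = b⁻¹ * l * b by
            rw [show b * (b * l * b⁻¹) * b⁻¹ = (b * b) * l * (b * b)⁻¹ by group,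
              ← show b⁻¹ = b * b from inv_eq_of_mul_eq_one_right (by rw [← C.hb3, pow_succ, pow_two, mul_assoc]),
              inv_inv]] at this
        have hm := hx.2 _ hl'
        rw [show ⁅b * x * b⁻¹, l⁆ = b * ⁅x, b⁻¹ * l * b⁆ * b⁻¹ by simp only [commutatorElement_def]; group]
        rcases D.mem_Z.1 hm with h | h <;> rw [h]
        · simp [one_mem]
        · rw [mul_inv_eq_iff_eq_mul.2 D.zb]; exact Subgroup.mem_zpowers z
    have hK2 : IsPGroup 2 K := by
      intro s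
      obtain ⟨e, m, hm, he⟩ := Nat.exists_eq_two_pow_mul_odd (orderOf_pos (s : S)).ne'
      refine ⟨e, Subtype.ext ?_⟩
      rw [SubmonoidClass.coe_pow, Subgroup.coe_one]
      set t := (s : S) ^ 2 ^ e with ht
      have ho : orderOf t = m := by
        rw [ht, orderOf_pow' _ (pow_ne_zero e two_ne_zero), he, Nat.gcd_eq_right (dvd_mul_right _ _),
          Nat.mul_div_cancel_left _ (pow_pos two_pos e)]
      have htK : t ∈ K := pow_mem s.2 _
      refine hodd t (D.CL t htK.1 fun l hl => ?_) (ho ▸ hm)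
      have hc : t * ⁅t, l⁆ = ⁅t, l⁆ * t := hZc _ (htK.2 l hl) t htK.1
      have h1 : ⁅t, l⁆ ^ m = 1 := by
        rw [← commutator_pow_central hc, ← ho, pow_orderOf_eq_one, commutatorElement_one_left]
      have h2 : ⁅t, l⁆ ^ 2 = 1 := by
        rcases D.mem_Z.1 (htK.2 l hl) with h | h <;> rw [h]
        · exact one_pow 2
        · exact D.sqz
      have := pow_gcd_eq_one.2 ⟨h1, h2⟩
      rw [Nat.coprime_two_right.2 hm, pow_one] at this
      exact commutatorElement_eq_one_iff_mul_comm.1 this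
    exact D.Lmax K (fun s hs => hs.1) hKinv hK2 ⟨hr, fun l hl => (hYeq.symm ▸ hl : l ∈ Y).2⟩
  obtain ⟨x0, hx0, hx0Z⟩ : ∃ x ∈ L, x ∉ Subgroup.zpowers z := SetLike.not_le_iff_exists.1 fun h => by
    have := Subgroup.card_le_of_le h
    rw [hz2, hkL, hk5] at this
    omega
  -- the subgroups centralizing the element modulo the radical
  have hcount : ∀ X : Subgroup S, L ≤ X → X ≤ R → g ∈ X → (∀ x ∈ X, x * g * x⁻¹ * g⁻¹ ∈ L) →
      ∀ x ∈ X, ∃ m : ℕ, x * (g ^ m)⁻¹ ∈ L := by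
    intro X hLX hXR hgX hXg
    set L' := L.subgroupOf X with hL'
    haveI hn : L'.Normal := ⟨fun l hl x => by
      show ((x * l * x⁻¹ : X) : S) ∈ L
      exact D.Linv.1 x (hXR x.2) _ hl⟩
    haveI : Finite (X ⧸ L') := Subgroup.finite_quotient_of_finiteIndex
    set gX : X := ⟨g, hgX⟩ with hgXdef
    have hord : orderOf ((gX : X) : X ⧸ L') = 5 := by
      refine orderOf_eq_prime ?_ ?_
      · rw [← QuotientGroup.mk_pow, QuotientGroup.eq_one_iff]
        show ((gX ^ 5 : X) : S) ∈ L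
        rw [SubmonoidClass.coe_pow, hgq]
        exact one_mem L
      · rw [Ne, QuotientGroup.eq_one_iff]
        exact hgL
    have h5 : 5 ∣ Nat.card (X ⧸ L') := hord ▸ orderOf_dvd_natCard _
    have h3 : ¬ 3 ∣ Nat.card (X ⧸ L') := fun h => Nat.prime_three.coprime_iff_not_dvd.1 C.cop.symm
      ((h.trans (Subgroup.card_quotient_dvd_card L')).trans (Subgroup.card_dvd_of_le hXR))
    let f : Option (X ⧸ L') → L ⧸ Zs := fun o => match o with
      | Option.none => ((1 : L) : L ⧸ Zs)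
      | some a => ((⟨(a.out : S) * x0 * (a.out : S)⁻¹, D.Linv.1 _ (hXR a.out.2) _ hx0⟩ : L) : L ⧸ Zs)
    have hne : ∀ (s : S) (hs : s ∈ R),
        ((⟨s * x0 * s⁻¹, D.Linv.1 _ hs _ hx0⟩ : L) : L ⧸ Zs) ≠ ((1 : L) : L ⧸ Zs) := by
      intro s hs h
      have h' := QuotientGroup.eq.1 h
      refine hx0Z ?_
      have h'' : (s * x0 * s⁻¹)⁻¹ ∈ Subgroup.zpowers z := by
        have : (((⟨s * x0 * s⁻¹, D.Linv.1 _ hs _ hx0⟩ : L)⁻¹ * 1 : L) : S) ∈ Subgroup.zpowers z := h'
        simpa using this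
      have h3 := inv_mem h''
      rw [inv_inv] at h3
      rcases D.mem_Z.1 h3 with e | e
      · rw [conj_eq_one_iff.1 e]; exact one_mem _
      · have : x0 = z := by
          calc x0 = s⁻¹ * (s * x0 * s⁻¹) * s := by group
            _ = s⁻¹ * (z * s) := by rw [e, mul_assoc]
            _ = z := by rw [← D.zR s hs, inv_mul_cancel_left]
        rw [this]; exact Subgroup.mem_zpowers z
    have hinj : Function.Injective f := by
      rintro (_ | a) (_ | c) h
      · rfl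
      · exact absurd h.symm (hne _ (hXR c.out.2))
      · exact absurd h (hne _ (hXR a.out.2))
      · congr 1
        rw [← QuotientGroup.out_eq' a, ← QuotientGroup.out_eq' c]
        refine QuotientGroup.eq.2 ?_
        show ((a.out⁻¹ * c.out : X) : S) ∈ L
        rw [Subgroup.coe_mul, Subgroup.coe_inv]
        set s := (a.out : S) with hs
        set t := (c.out : S) with ht
        have hrX : s⁻¹ * t ∈ X := mul_mem (inv_mem a.out.2) c.out.2
        have h' : (s * x0 * s⁻¹)⁻¹ * (t * x0 * t⁻¹) ∈ Subgroup.zpowers z := by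
          simp only [f] at h
          have h0 := QuotientGroup.eq.1 h
          exact h0
        refine hsemi _ (hXR hrX) (hXg _ hrX) x0 hx0 hx0Z ?_
        set e := (s * x0 * s⁻¹)⁻¹ * (t * x0 * t⁻¹) with he
        have hec : ∀ w ∈ R, w * e = e * w := fun w hw => by
          rcases D.mem_Z.1 h' with e1 | e1 <;> rw [e1]
          · simp
          · exact D.zR w hw
        have hval : ⁅s⁻¹ * t, x0⁆ = e := by
          calc ⁅s⁻¹ * t, x0⁆ = x0 * (s⁻¹ * e * s) * x0⁻¹ := by rw [he, commutatorElement_def]; group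
            _ = e := by
              rw [hec _ (inv_mem (hXR a.out.2)), inv_mul_cancel_right, hec _ (D.LR hx0), mul_inv_cancel_right]
        rw [hval]
        exact h'
    have hle : Nat.card (X ⧸ L') + 1 ≤ 16 := by
      rw [← Finite.card_option]
      exact (Nat.card_le_card_of_injective f hinj).trans hLq
    have h2 : ¬ 2 ∣ Nat.card (X ⧸ L') := by
      intro h
      obtain ⟨a, ha⟩ := exists_prime_orderOf_dvd_card' (G := X ⧸ L') 2 h
      have haR := hXR a.out.2
      have haL : (a.out : S) ∉ L := fun h => by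
        have : a = 1 := by
          rw [← QuotientGroup.out_eq' a, QuotientGroup.eq_one_iff]
          exact h
        rw [this, orderOf_one] at ha
        omega
      have hsq : (a.out : S) ^ 2 ∈ L := by
        have : ((a.out ^ 2 : X) : X ⧸ L') = 1 := by
          rw [QuotientGroup.mk_pow, QuotientGroup.out_eq', ← ha, pow_orderOf_eq_one]
        have h' : ((a.out ^ 2 : X) : S) ∈ L := ((QuotientGroup.eq_one_iff (a.out ^ 2 : X)).1 this : (a.out ^ 2 : X) ∈ L')
        rwa [SubmonoidClass.coe_pow] at h'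
      set r := (a.out : S) with hr
      have hfix : ⁅r ^ 2, x0⁆ ∈ Subgroup.zpowers z := D.mem_Z.2 (D.comm _ hsq _ hx0)
      set u := r * x0 * r⁻¹ with hu
      have huL : u ∈ L := D.Linv.1 r haR x0 hx0
      by_cases hyZ : x0 * u ∈ Subgroup.zpowers z
      · refine haL (hsemi r haR (hXg _ a.out.2) x0 hx0 hx0Z ?_)
        have hx2 : x0 * x0 ∈ Subgroup.zpowers z := by rw [← pow_two]; exact D.mem_Z.2 (D.sq x0 hx0)
        have e : ⁅r, x0⁆ = x0⁻¹ * (x0 * u) * x0⁻¹ := by rw [hu, commutatorElement_def]; group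
        rw [e]
        have hc : x0⁻¹ * (x0 * u) = (x0 * u) * x0⁻¹ := by
          rcases D.mem_Z.1 hyZ with h | h <;> rw [h]
          · simp
          · exact D.zR _ (inv_mem (D.LR hx0))
        rw [hc, mul_assoc, ← mul_inv_rev]
        exact mul_mem hyZ (inv_mem hx2)
      · refine haL (hsemi r haR (hXg _ a.out.2) (x0 * u) (mul_mem hx0 huL) hyZ ?_)
        have e : ⁅r, x0 * u⁆ = u * (⁅r ^ 2, x0⁆) * x0 * u⁻¹ * x0⁻¹ := by
          rw [hu, pow_two]; simp only [commutatorElement_def]; group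
        rw [e]
        have hc : u * ⁅r ^ 2, x0⁆ = ⁅r ^ 2, x0⁆ * u := by
          rcases D.mem_Z.1 hfix with h | h <;> rw [h]
          · simp
          · exact D.zR _ (D.LR huL)
        rw [hc, show ⁅r ^ 2, x0⁆ * u * x0 * u⁻¹ * x0⁻¹ = ⁅r ^ 2, x0⁆ * ⁅u, x0⁆ by
          simp only [commutatorElement_def]; group]
        exact mul_mem hfix (D.mem_Z.2 (D.comm u huL x0 hx0))
    have hn5 : Nat.card (X ⧸ L') = 5 := by
      obtain ⟨c, hc⟩ := h5
      rw [hc] at h3 h2 hle ⊢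
      have : c < 4 := by omega
      interval_cases c <;> omega
    intro x hx
    have htop : Subgroup.zpowers ((gX : X) : X ⧸ L') = ⊤ :=
      Subgroup.eq_top_of_card_eq _ (by rw [Nat.card_zpowers, hord, hn5])
    have hxm : ((⟨x, hx⟩ : X) : X ⧸ L') ∈ Subgroup.zpowers ((gX : X) : X ⧸ L') := htop ▸ Subgroup.mem_top _
    obtain ⟨m, hm⟩ := mem_powers_iff_mem_zpowers.2 hxm
    refine ⟨m, ?_⟩
    have h1 : (((⟨x, hx⟩ : X) * (gX ^ m)⁻¹ : X) : X ⧸ L') = 1 := by
      rw [QuotientGroup.mk_mul, QuotientGroup.mk_inv, QuotientGroup.mk_pow, ← hm, mul_inv_cancel]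
    have h' : (((⟨x, hx⟩ : X) * (gX ^ m)⁻¹ : X) : S) ∈ L :=
      ((QuotientGroup.eq_one_iff ((⟨x, hx⟩ : X) * (gX ^ m)⁻¹)).1 h1 : ((⟨x, hx⟩ : X) * (gX ^ m)⁻¹) ∈ L')
    rwa [Subgroup.coe_mul, Subgroup.coe_inv, SubmonoidClass.coe_pow] at h'
  have hTg : ∀ x ∈ T, x * g * x⁻¹ * g⁻¹ ∈ L := fun x hx => (hTM g hgT hx).2
  -- `b` centralizes `T` modulo the radical
  obtain ⟨k5, hk5'⟩ := hcount T le_sup_right hTR hgT hTg (b * g * b⁻¹) (hTinv.2 g hgT)
  have hmod : ∀ (x y : S), x ∈ R → y ∈ R → x * y⁻¹ ∈ L → ∀ n : ℕ, x ^ n * (y ^ n)⁻¹ ∈ L := by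
    intro x y hx hy h n
    induction n with
    | zero => simp [one_mem]
    | succ n ih =>
      rw [show x ^ (n + 1) * (y ^ (n + 1))⁻¹ = x * (x ^ n * (y ^ n)⁻¹) * x⁻¹ * (x * y⁻¹) by
        rw [pow_succ', pow_succ']; group]
      exact mul_mem (D.Linv.1 x hx _ ih) h
  have hk51 : b * g * b⁻¹ * g⁻¹ ∈ L := by
    have hbb : ∀ n : ℕ, b * g ^ n * b⁻¹ * (g ^ (k5 * n))⁻¹ ∈ L := fun n => by
      rw [← conj_pow, pow_mul]
      exact hmod _ _ (C.bR g hgR) (pow_mem hgR _) hk5' n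
    have h2' : b * (b * g * b⁻¹) * b⁻¹ * (g ^ (k5 * k5))⁻¹ ∈ L := by
      have h := D.Linv.2 _ hk5'
      have := mul_mem h (hbb k5)
      rwa [show b * (b * g * b⁻¹ * (g ^ k5)⁻¹) * b⁻¹ * (b * g ^ k5 * b⁻¹ * (g ^ (k5 * k5))⁻¹) =
        b * (b * g * b⁻¹) * b⁻¹ * (g ^ (k5 * k5))⁻¹ by group] at this
    have h3' : g * (g ^ (k5 * (k5 * k5)))⁻¹ ∈ L := by
      have h := D.Linv.2 _ h2'
      have := mul_mem h (hbb (k5 * k5))
      rwa [show b * (b * (b * g * b⁻¹) * b⁻¹ * (g ^ (k5 * k5))⁻¹) * b⁻¹ *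
          (b * g ^ (k5 * k5) * b⁻¹ * (g ^ (k5 * (k5 * k5)))⁻¹) =
        b * (b * (b * g * b⁻¹) * b⁻¹) * b⁻¹ * (g ^ (k5 * (k5 * k5)))⁻¹ by group,
        conj_three, C.hb3, one_mul, inv_one, mul_one] at this
    have hzero : g * (g ^ (k5 * (k5 * k5)))⁻¹ = 1 := by
      refine hodd _ h3' ?_
      have hm : g * (g ^ (k5 * (k5 * k5)))⁻¹ ∈ Subgroup.zpowers g :=
        mul_mem (Subgroup.mem_zpowers g) (inv_mem (pow_mem (Subgroup.mem_zpowers g) _))
      exact (hgord ▸ hqodd).of_dvd_nat (orderOf_dvd_of_mem_zpowers hm)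
    have hpow : g ^ (k5 * (k5 * k5)) = g ^ 1 := by rw [pow_one]; exact (mul_inv_eq_one.1 hzero).symm
    rw [pow_eq_pow_iff_modEq, hgord] at hpow
    have hk1 : k5 % 5 = 1 := by
      have hm : k5 % 5 < 5 := Nat.mod_lt _ (by norm_num)
      have e : (k5 % 5) * ((k5 % 5) * (k5 % 5)) % 5 = 1 := by
        simpa [Nat.ModEq, Nat.mul_mod, Nat.mod_mod] using hpow
      interval_cases h : k5 % 5 <;> simp_all
    have : g ^ k5 = g ^ 1 := by
      rw [pow_eq_pow_iff_modEq, hgord]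
      show k5 % 5 = 1 % 5
      rw [hk1]
    rw [this, pow_one] at hk5'
    exact hk5'
  -- `R` centralizes the element modulo the radical
  let M : Subgroup S := Mx g
  have hRM : R ≤ M := by
    refine C.gen M fun r hr => ⟨?_, ?_⟩
    · rw [show r * b * r⁻¹ * b⁻¹ = r * (b * r⁻¹ * b⁻¹) by group]
      exact mul_mem hr (C.bR _ (inv_mem hr))
    · set g1 := b⁻¹ * g * b with hg1'
      set e0 := g1 * g⁻¹ with he0
      have he0L : e0 ∈ L := by
        have := inv_mem hk51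
        have h' := D.Linv.2 _ (D.Linv.2 _ this)
        rwa [show b * (b * (b * g * b⁻¹ * g⁻¹)⁻¹ * b⁻¹) * b⁻¹ = e0 by
          rw [show b * (b * (b * g * b⁻¹ * g⁻¹)⁻¹ * b⁻¹) * b⁻¹ =
              (b * b) * g * b * g⁻¹ * (b * b * b)⁻¹ by group,
            show b * b * b = 1 by rw [← C.hb3, pow_succ, pow_two],
            ← show b⁻¹ = b * b from inv_eq_of_mul_eq_one_right (by rw [← C.hb3, pow_succ, pow_two, mul_assoc]),
            inv_one, mul_one]] at h'
      have hg1T : g1 ∈ T := by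
        have : e0 * g ∈ T := mul_mem ((le_sup_right : L ≤ T) he0L) hgT
        rwa [he0, inv_mul_cancel_right] at this
      set g2 := r⁻¹ * g1 * r with hg2
      have hg2T : g2 ∈ T := by
        have := hTinv.1 r⁻¹ (inv_mem hr) g1 hg1T
        rwa [inv_inv] at this
      obtain ⟨m, hm⟩ := hcount T le_sup_right hTR hgT hTg g2 hg2T
      -- `b` fixes it modulo the radical
      have hbm : b * g2 * b⁻¹ * g2⁻¹ ∈ L := by
        have h1 := D.Linv.2 _ hm
        have h2 := hmod _ _ (C.bR g hgR) hgR hk51 m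
        rw [conj_pow] at h2
        have h3 := inv_mem hm
        have := mul_mem (mul_mem h1 h2) h3
        rwa [show b * (g2 * (g ^ m)⁻¹) * b⁻¹ * (b * g ^ m * b⁻¹ * (g ^ m)⁻¹) * (g2 * (g ^ m)⁻¹)⁻¹ =
          b * g2 * b⁻¹ * g2⁻¹ by group] at this
      have := mul_mem (D.Linv.1 r hr _ hbm) he0L
      rwa [show r * (b * g2 * b⁻¹ * g2⁻¹) * r⁻¹ * e0 = r * b * r⁻¹ * b⁻¹ * g * (r * b * r⁻¹ * b⁻¹)⁻¹ * g⁻¹ by
        rw [hg2, hg1', he0, hg1']; group] at this
  refine hRL (C.gen L fun r hr => ?_)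
  obtain ⟨m, hm⟩ := hcount R D.LR le_rfl hgR (fun x hx => (hRM hx).2) r hr
  have h1 := D.Linv.2 _ hm
  have h2 := hmod _ _ (C.bR g hgR) hgR hk51 m
  rw [conj_pow] at h2
  have := inv_mem (mul_mem (mul_mem h1 h2) (inv_mem hm))
  rwa [show (b * (r * (g ^ m)⁻¹) * b⁻¹ * (b * g ^ m * b⁻¹ * (g ^ m)⁻¹) * (r * (g ^ m)⁻¹)⁻¹)⁻¹ =
    r * b * r⁻¹ * b⁻¹ by group] at this

/-- There is no such setting. -/
theorem BCtx.false : False := by
  have hRL := C.le_L D
  let A : Subgroup S :=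
    { carrier := {w | ∃ q ∈ Q, ∃ e ∈ Subgroup.zpowers z, w = q * e}
      one_mem' := ⟨1, one_mem Q, 1, one_mem _, (one_mul 1).symm⟩
      mul_mem' := by
        rintro u v ⟨q, hq, e, he, rfl⟩ ⟨q', hq', e', he', rfl⟩
        refine ⟨q * q', mul_mem hq hq', e * e', mul_mem he he', ?_⟩
        rcases D.mem_Z.1 he with rfl | rfl
        · group
        · rw [show q * e * (q' * e') = q * (e * q') * e' by group, ← D.zR q' (C.QR hq')]; group
      inv_mem' := by
        rintro u ⟨q, hq, e, he, rfl⟩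
        refine ⟨q⁻¹, inv_mem hq, e⁻¹, inv_mem he, ?_⟩
        rw [mul_inv_rev]
        rcases D.mem_Z.1 he with rfl | rfl
        · simp
        · rw [inv_eq_of_mul_eq_one_right (show e * e = 1 by rw [← pow_two, D.sqz])]
          exact (D.zR _ (inv_mem (C.QR hq))).symm }
  have hzc : ∀ e ∈ Subgroup.zpowers z, ∀ w ∈ R, w * e = e * w := fun e he w hw => by
    rcases D.mem_Z.1 he with rfl | rfl
    · simp
    · exact D.zR w hw
  have hAR : A ≤ R := by
    rintro _ ⟨q, hq, e, he, rfl⟩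
    rcases D.mem_Z.1 he with rfl | rfl
    · rw [mul_one]; exact C.QR hq
    · exact mul_mem (C.QR hq) (D.LR D.zL)
  refine C.none A 2
    { toCtx := C.toCtx, rp := Nat.prime_two, AR := hAR
      Acomm := ?_, Aexp := ?_, AnR := ?_, Anb := ?_, Anc := ?_ }
  · rintro _ ⟨q, hq, e, he, rfl⟩ _ ⟨q', hq', e', he', rfl⟩
    calc q * e * (q' * e') = q * (e * q') * e' := by group
      _ = q * q' * (e * e') := by rw [← hzc e he q' (C.QR hq')]; group
      _ = q' * q * (e' * e) := by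
          rw [C.Qc q hq q' hq', hzc e' he' e (by
            rcases D.mem_Z.1 he with rfl | rfl
            · exact one_mem R
            · exact D.LR D.zL)]
      _ = q' * (e' * q) * e := by rw [← hzc e' he' q (C.QR hq)]; group
      _ = q' * e' * (q * e) := by group
  · rintro _ ⟨q, hq, e, he, rfl⟩
    rw [(show Commute q e from hzc e he q (C.QR hq)).mul_pow, C.Qsq q hq, one_mul]
    rcases D.mem_Z.1 he with rfl | rfl
    · exact one_pow 2
    · exact D.sqz
  · rintro s hs _ ⟨q, hq, e, he, rfl⟩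
    refine ⟨q, hq, ⁅q⁻¹, s⁆ * e, mul_mem (D.mem_Z.2 (D.comm _ (hRL (inv_mem (C.QR hq))) s (hRL hs))) he, ?_⟩
    calc s * (q * e) * s⁻¹ = (s * q) * (e * s⁻¹) := by group
      _ = (s * q) * (s⁻¹ * e) := by rw [hzc e he _ (inv_mem hs)]
      _ = q * (⁅q⁻¹, s⁆ * e) := by simp only [commutatorElement_def]; group
  · rintro _ ⟨q, hq, e, he, rfl⟩
    refine ⟨b * q * b⁻¹, C.bQ q hq, e, he, ?_⟩
    have : e * b⁻¹ = b⁻¹ * e := by
      rcases D.mem_Z.1 he with rfl | rfl
      · simp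
      · exact ((show Commute b e from D.zb).inv_left).eq.symm
    rw [show b * (q * e) * b⁻¹ = b * q * (e * b⁻¹) by group, this]; group
  · intro h
    obtain ⟨q, hq, hbq⟩ := C.bmove
    exact hbq (h q ⟨q, hq, 1, one_mem _, (mul_one q).symm⟩).1

omit C D in
/-- There is a noncentral abelian invariant subgroup. -/
theorem exists_actx (C : Ctx ρ b R Q F) : ∃ (A : Subgroup S) (r : ℕ), ACtx ρ b R Q F A r := by
  by_contra h
  simp only [not_exists] at h
  have C' : BCtx ρ b R Q F := ⟨C, h⟩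
  obtain ⟨L, z, D⟩ := C'.exists_data
  exact C'.false D

end Cfsg.Agent.Solv.ThreeBlock
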