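import Cfsg.Agent.Lib.Solv.ThreeBlock.CaseA
import Cfsg.Agent.Lib.Solv.ThreeBlock.Five
import Cfsg.Agent.Lib.Solv.Coprime
import Cfsg.Agent.Lib.Solv.Cores
import Cfsg.Agent.Lib.Solv.Extraspecial
import Cfsg.Agent.Lib.Fusion.SolvableBalance
import Cfsg.Agent.Lib.Fusion.Cores

/-!
# The commutator of the `3'`-core with an element having one block
-/

set_option autoImplicit false
set_option linter.style.haveILetI false

namespace Cfsg.Agent.Solv.ThreeBlock

open scoped commutatorElement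

variable {S : Type*} [Group S] [Finite S] {E : Type*} [AddCommGroup E] [Module (ZMod 3) E] [Finite E]

/-- The four-group is the set of its commutators with `b`. -/
theorem Pre.exists_comm {b : S} {Q : Subgroup S} (P : Pre b Q) {x : S} (hx : x ∈ Q) : ∃ q ∈ Q, ⁅q, b⁆ = x := by
  let f : Q → Q := fun q => ⟨⁅(q : S), b⁆, by
    rw [show ⁅(q : S), b⁆ = (q : S) * (b * (q : S)⁻¹ * b⁻¹) by rw [commutatorElement_def]; group]
    exact mul_mem q.2 (P.bQ _ (inv_mem q.2))⟩
  have hinj : Function.Injective f := by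
    intro u v h
    have h1 : (u : S) * (b * (u : S)⁻¹ * b⁻¹) = (v : S) * (b * (v : S)⁻¹ * b⁻¹) := by
      have h2 : ⁅(u : S), b⁆ = ⁅(v : S), b⁆ := congrArg Subtype.val h
      simp only [commutatorElement_def] at h2
      simpa [mul_assoc] using h2
    by_contra hne
    have hd : (v : S)⁻¹ * u ∈ Q := mul_mem (inv_mem v.2) u.2
    refine P.Q_move hd (fun h0 => hne (Subtype.ext (inv_mul_eq_one.1 h0).symm)) ?_
    have h3 : (v : S)⁻¹ * u = (b * (v : S)⁻¹ * b⁻¹) * (b * (u : S)⁻¹ * b⁻¹)⁻¹ := by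
      calc (v : S)⁻¹ * u = (v : S)⁻¹ * ((u : S) * (b * (u : S)⁻¹ * b⁻¹)) * (b * (u : S)⁻¹ * b⁻¹)⁻¹ := by group
        _ = _ := by rw [h1]; group
    conv_rhs => rw [h3]
    group
  obtain ⟨q, hq⟩ := Finite.surjective_of_injective hinj ⟨x, hx⟩
  exact ⟨q, q.2, congrArg Subtype.val hq⟩

/-- The four-group lies in the `3'`-core. -/
theorem Pre.le_core [Group.IsSolvable S] {b : S} {Q : Subgroup S} (P : Pre b Q) (T : Sylow 3 S)
    (hbT : b ∈ (T : Subgroup S)) (hbc : ∀ t ∈ (T : Subgroup S), b * t = t * b) :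
    Q ≤ Cfsg.pPrimeCore 3 S := by
  classical
  haveI : Fact (Nat.Prime 3) := ⟨Nat.prime_three⟩
  haveI : (Cfsg.pPrimeCore 3 S).Normal := pPrimeCore_normal 3
  set K := Cfsg.pPrimeCore 3 S with hK
  set π := QuotientGroup.mk' K with hπ
  have hsurj : Function.Surjective π := QuotientGroup.mk'_surjective K
  have h0 : Cfsg.pPrimeCore 3 (S ⧸ K) = ⊥ := Fusion.pPrimeCore_quotient_eq_bot
  haveI : Group.IsSolvable (S ⧸ K) := Group.isSolvable_of_surjective hsurj
  have hC := Fusion.centralizer_pCore_le_of_solvable (p := 3) (G := S ⧸ K) inferInstance h0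
  set O := Cfsg.pCore 3 (S ⧸ K) with hO
  haveI : O.Normal := pCore_normal 3
  have hOp : IsPGroup 3 O := pCore_isPGroup 3
  let T' : Sylow 3 (S ⧸ K) := T.mapSurjective hsurj
  have hOT : O ≤ (T : Subgroup S).map π := by
    obtain ⟨U, hU⟩ := hOp.exists_le_sylow
    obtain ⟨g, hg⟩ := MulAction.exists_smul_eq (S ⧸ K) U T'
    intro x hx
    have hx' : g⁻¹ * x * g ∈ (U : Subgroup (S ⧸ K)) := hU (by
      have := Subgroup.Normal.conj_mem inferInstance x hx g⁻¹
      rwa [inv_inv] at this)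
    show x ∈ (T' : Subgroup (S ⧸ K))
    rw [← hg]
    exact ⟨g⁻¹ * x * g, hx', by simp [mul_assoc]⟩
  have hbO : π b ∈ O := hC (Subgroup.mem_centralizer_iff.2 fun x hx => by
    obtain ⟨t, ht, rfl⟩ := hOT hx
    rw [← map_mul, ← map_mul, hbc t ht])
  intro x hx
  obtain ⟨q, hq, rfl⟩ := P.exists_comm hx
  refine (QuotientGroup.eq_one_iff _).1 ?_
  have hmem : π ⁅q, b⁆ ∈ O := by
    rw [commutatorElement_def, map_mul, map_mul, map_mul, map_inv, map_inv]
    exact mul_mem (Subgroup.Normal.conj_mem inferInstance _ hbO _) (inv_mem hbO)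
  obtain ⟨j, hj⟩ := hOp ⟨_, hmem⟩
  have h1 : π ⁅q, b⁆ ^ 3 ^ j = 1 := congrArg Subtype.val hj
  have h2 : π ⁅q, b⁆ ^ 2 = 1 := by rw [← map_pow, P.Qsq _ hx, map_one]
  have h := pow_gcd_eq_one.2 ⟨h1, h2⟩
  rw [show Nat.gcd (3 ^ j) 2 = 1 from (Nat.Coprime.pow_left j (by norm_num : Nat.Coprime 3 2)), pow_one] at h
  exact h

/-- The conclusions. -/
theorem main [Group.IsSolvable S] (ρ : Representation (ZMod 3) S E) (hfaith : Function.Injective ρ)
    (b : S) (hb : b ^ 3 = 1) (E₀ E₁ : Submodule (ZMod 3) E) (hE01' : E₀ ⊔ E₁ = ⊤)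
    (hE1 : ∀ v ∈ E₁, ρ b v = v) (hE0inv : ∀ v ∈ E₀, ρ b v ∈ E₀) (hE0 : Nat.card E₀ = 27)
    (Q : Subgroup S) (P : Pre b Q) (T : Sylow 3 S) (hbT : b ∈ (T : Subgroup S))
    (hbc : ∀ t ∈ (T : Subgroup S), b * t = t * b) (R : Subgroup S)
    (hR : R = ⁅Cfsg.pPrimeCore 3 S, Subgroup.zpowers b⁆) :
    ((Cfsg.IsElementaryAbelian 2 R ∧ Nat.card R = 4) ∨
      (Cfsg.IsExtraspecial 2 R ∧ Nat.card R = 32 ∧
        ∃ A : Subgroup S, A ≤ R ∧ Cfsg.IsElementaryAbelian 2 A ∧ Nat.card A = 8)) ∧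
    ∃ F₀ F₁ : Submodule (ZMod 3) E, F₀ ⊓ F₁ = ⊥ ∧ F₀ ⊔ F₁ = ⊤ ∧
      (∀ r ∈ R, ∀ v ∈ F₁, ρ r v = v) ∧ (∀ r ∈ R ⊔ Subgroup.zpowers b, ∀ v ∈ F₀, ρ r v ∈ F₀) ∧
      (∀ r ∈ R ⊔ Subgroup.zpowers b, (∀ v ∈ F₀, ρ r v = v) → r = 1) ∧
      (∀ N : Submodule (ZMod 3) E, N ≤ F₀ → (∀ r ∈ R ⊔ Subgroup.zpowers b, ∀ v ∈ N, ρ r v ∈ N) →
        N = ⊥ ∨ N = F₀) := by
  classical
  haveI : Fact (Nat.Prime 3) := ⟨Nat.prime_three⟩
  set K := Cfsg.pPrimeCore 3 S with hKdef
  set B := Subgroup.zpowers b with hBdef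
  haveI : K.Normal := pPrimeCore_normal 3
  have hKco : (Nat.card K).Coprime 3 := pPrimeCore_coprime 3
  have hBK : B ≤ Subgroup.normalizer (K : Set S) := by
    rw [Subgroup.normalizer_eq_top]; exact le_top
  have hB3 : Nat.card B ∣ 3 := by rw [hBdef, Nat.card_zpowers]; exact orderOf_dvd_of_pow_eq_one hb
  have hcoB : (Nat.card B).Coprime (Nat.card K) := hKco.symm.coprime_dvd_left hB3
  have hsolK : Group.IsSolvable K := inferInstance
  obtain ⟨hRK, hKN, hBN⟩ := commutator_normal_in (A := B) (K := K) hBK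
  rw [← hR] at hRK hKN hBN
  have hRB : ⁅R, B⁆ = R := by
    rw [hR]; exact commutator_commutator_eq hBK hcoB (Or.inr hsolK)
  have hbmem : b ∈ B := Subgroup.mem_zpowers b
  have hbR : ∀ r ∈ R, b * r * b⁻¹ ∈ R := fun r hr => (Subgroup.mem_normalizer_iff.1 (hBN hbmem) r).1 hr
  have hbbb : b * b * b = 1 := by rw [← hb, pow_succ, pow_two]
  have hBelts : ∀ a ∈ B, a = 1 ∨ a = b ∨ a = b * b := by
    intro a ha
    obtain ⟨n, rfl⟩ := mem_powers_iff_mem_zpowers.2 ha
    simp only
    rw [← Nat.mod_add_div n 3, pow_add, pow_mul, hb, one_pow, mul_one]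
    rcases (show n % 3 = 0 ∨ n % 3 = 1 ∨ n % 3 = 2 by omega) with h | h | h <;> simp [h, pow_two]
  have hgen : ∀ M : Subgroup S, (∀ r ∈ R, r * b * r⁻¹ * b⁻¹ ∈ M) → R ≤ M := by
    intro M hM
    rw [← hRB]
    refine Subgroup.commutator_le.2 fun r hr a ha => ?_
    rcases hBelts a ha with rfl | rfl | rfl
    · simp [one_mem]
    · rw [commutatorElement_def]; exact hM r hr
    · rw [show ⁅r, b * b⁆ = (r * b * r⁻¹ * b⁻¹) * ((b * r * b⁻¹) * b * (b * r * b⁻¹)⁻¹ * b⁻¹) by
        rw [commutatorElement_def]; group]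
      exact mul_mem (hM r hr) (hM _ (hbR r hr))
  have hQR : Q ≤ R := fun x hx => by
    obtain ⟨q, hq, rfl⟩ := P.exists_comm hx
    rw [hR]
    exact Subgroup.commutator_mem_commutator (P.le_core T hbT hbc hq) hbmem
  have hRco : (Nat.card R).Coprime 3 := hKco.coprime_dvd_left (Subgroup.card_dvd_of_le hRK)
  -- the decomposition
  letI := Fintype.ofFinite R
  let av : E →ₗ[ZMod 3] E := ∑ r : R, ρ (r : S)
  have hav : ∀ v, av v = ∑ r : R, ρ (r : S) v := fun v => by simp [av, LinearMap.sum_apply]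
  have havinv : ∀ s ∈ R, ∀ v, ρ s (av v) = av v ∧ av (ρ s v) = av v := by
    intro s hs v
    rw [hav, hav, map_sum]
    constructor
    · refine Fintype.sum_equiv (Equiv.mulLeft (⟨s, hs⟩ : R)) _ _ fun g => ?_
      rw [← rho_mul]; rfl
    · refine Fintype.sum_equiv (Equiv.mulRight (⟨s, hs⟩ : R)) _ _ fun g => ?_
      rw [← rho_mul]; rfl
  have hb' : ∀ r ∈ R, b⁻¹ * r * b ∈ R := fun r hr => by
    refine (Subgroup.mem_normalizer_iff.1 (hBN hbmem) _).2 ?_
    rwa [show b * (b⁻¹ * r * b) * b⁻¹ = r by group]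
  have havb : ∀ v, av (ρ b v) = ρ b (av v) := by
    intro v
    rw [hav, hav, map_sum]
    refine Fintype.sum_equiv
      { toFun := fun g : R => (⟨b⁻¹ * g * b, hb' g g.2⟩ : R)
        invFun := fun g : R => (⟨b * g * b⁻¹, hbR g g.2⟩ : R)
        left_inv := fun g => Subtype.ext (show b * (b⁻¹ * (g : S) * b) * b⁻¹ = g by group)
        right_inv := fun g => Subtype.ext (show b⁻¹ * (b * (g : S) * b⁻¹) * b = g by group) } _ _ fun g => ?_
    simp only [Equiv.coe_fn_mk]
    rw [← rho_mul, ← rho_mul, show b * (b⁻¹ * (g : S) * b) = (g : S) * b by group]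
  set F0 := LinearMap.ker av with hF0
  let F1 : Submodule (ZMod 3) E := FF ρ ⊤ R
  have hn : (Fintype.card R : ZMod 3) ≠ 0 := by
    rw [Ne, ZMod.natCast_eq_zero_iff, ← Nat.card_eq_fintype_card]
    exact Nat.prime_three.coprime_iff_not_dvd.1 hRco.symm
  have havfix : ∀ v ∈ F1, av v = (Fintype.card R : ZMod 3) • v := fun v hv => by
    rw [hav, Finset.sum_congr rfl fun (g : R) _ => hv.2 (g : S) g.2, Finset.sum_const, Finset.card_univ,
      Nat.cast_smul_eq_nsmul]
  have hdisj : ∀ v ∈ F0, v ∈ F1 → v = 0 := fun v h0 h1 => by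
    have h : av v = 0 := h0
    rw [havfix v h1] at h
    exact (smul_eq_zero.1 h).resolve_left hn
  have hav1 : ∀ v, av v ∈ F1 := fun v => ⟨Submodule.mem_top, fun s hs => (havinv s hs v).1⟩
  have hsplit : ∀ v, ∃ u ∈ F0, ∃ w ∈ F1, u + w = v := by
    intro v
    refine ⟨v - (Fintype.card R : ZMod 3)⁻¹ • av v, ?_, (Fintype.card R : ZMod 3)⁻¹ • av v,
      F1.smul_mem _ (hav1 v), sub_add_cancel _ _⟩
    show av _ = 0
    rw [map_sub, map_smul, havfix _ (hav1 v), smul_smul, inv_mul_cancel₀ hn, one_smul, sub_self]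
  have hinvR : ∀ r ∈ R, ∀ v ∈ F0, ρ r v ∈ F0 := fun r hr v hv => by
    show av _ = 0
    rw [(havinv r hr v).2]; exact hv
  have hinvb : ∀ v ∈ F0, ρ b v ∈ F0 := fun v hv => by
    show av _ = 0
    rw [havb, show av v = 0 from hv, map_zero]
  -- the commutators of `b`
  have hcube : ∀ v, ρ b (ρ b (ρ b v)) = v := fun v => by rw [← rho_mul, ← rho_mul, hbbb, rho_one]
  have hD0 : (⊤ : Submodule (ZMod 3) E).map (ρ b - 1) ≤ E₀.map (ρ b - 1) := by
    rintro _ ⟨v, -, rfl⟩
    obtain ⟨u, hu, w, hw, rfl⟩ := Submodule.mem_sup.1 (hE01' ▸ Submodule.mem_top : v ∈ E₀ ⊔ E₁)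
    refine ⟨u, hu, ?_⟩
    rw [map_add, show (ρ b - 1) w = 0 by show ρ b w - w = 0; rw [hE1 w hw, sub_self], add_zero]
  have hrank0 : Module.finrank (ZMod 3) (E₀.map (ρ b - 1)) ≤ 2 := by
    by_contra hgt
    have hle : E₀.map (ρ b - 1) ≤ E₀ := by
      rintro _ ⟨v, hv, rfl⟩
      exact E₀.sub_mem (hE0inv v hv) hv
    have h3 : Module.finrank (ZMod 3) E₀ = 3 := by
      have := Module.natCard_eq_pow_finrank (K := ZMod 3) (V := E₀)
      rw [hE0, Nat.card_zmod] at this
      exact Nat.pow_right_injective (by norm_num : 2 ≤ 3) (this.symm.trans (by norm_num : 27 = 3 ^ 3))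
    have heq := Submodule.eq_of_le_of_finrank_le hle (by omega)
    have hbot : E₀ = ⊥ := (Submodule.eq_bot_iff _).2 fun v hv => by
      obtain ⟨v1, hv1, rfl⟩ := (heq.symm ▸ hv : v ∈ E₀.map (ρ b - 1))
      obtain ⟨v2, hv2, rfl⟩ := (heq.symm ▸ hv1 : v1 ∈ E₀.map (ρ b - 1))
      obtain ⟨v3, hv3, rfl⟩ := (heq.symm ▸ hv2 : v2 ∈ E₀.map (ρ b - 1))
      simp only [LinearMap.sub_apply, Module.End.one_apply, map_sub, hcube]
      have e1 := three_zero (ρ b v3)
      have e2 := three_zero (ρ b (ρ b v3))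
      calc _ = (ρ b v3 + ρ b v3 + ρ b v3) - (ρ b (ρ b v3) + ρ b (ρ b v3) + ρ b (ρ b v3)) := by abel
        _ = 0 := by rw [e1, e2, sub_zero]
    rw [hbot, finrank_bot] at h3
    omega
  have hrank : Module.finrank (ZMod 3) (F0.map (ρ b - 1)) ≤ 2 :=
    (Submodule.finrank_mono ((Submodule.map_mono le_top).trans hD0)).trans hrank0
  have hfaith0 : ∀ r ∈ R, (∀ v ∈ F0, ρ r v = v) → r = 1 := fun r hr h => hfaith (LinearMap.ext fun v => by
    obtain ⟨u, hu, w, hw, rfl⟩ := hsplit v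
    rw [map_add, h u hu, hw.2 r hr, map_one]; rfl)
  have hfix0 : ∀ v ∈ F0, (∀ r ∈ R, ρ r v = v) → v = 0 := fun v hv h => hdisj v hv ⟨Submodule.mem_top, h⟩
  -- irreducibility
  have htriv : ∀ N : Submodule (ZMod 3) E, (∀ r ∈ R, ∀ v ∈ N, ρ r v ∈ N) → (∀ v ∈ N, ρ b v = v) →
      ∀ r ∈ R, ∀ v ∈ N, ρ r v = v := by
    intro N hN hbN
    refine hgen (fixing ρ N) fun r hr v hv => ?_
    have h1 : ρ b⁻¹ v = v := by
      conv_lhs => rw [← hbN v hv]
      exact rho_cancel ρ b v
    rw [rho_mul, rho_mul, rho_mul, h1, hbN _ (hN _ (inv_mem hr) v hv), rho_cancel']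
  have hirr : ∀ N : Submodule (ZMod 3) E, N ≤ F0 → (∀ r ∈ R, ∀ v ∈ N, ρ r v ∈ N) → (∀ v ∈ N, ρ b v ∈ N) →
      N = ⊥ ∨ N = F0 := by
    intro N hN0 hNR hNb
    by_cases hQN : ∀ q ∈ Q, ∀ v ∈ N, ρ q v = v
    · left
      by_contra hne
      obtain ⟨n, hn', hbn⟩ : ∃ n ∈ N, ρ b n ≠ n := by
        by_contra h
        simp only [not_exists, not_and, not_not] at h
        refine hne ((Submodule.eq_bot_iff _).2 fun v hv => hfix0 v (hN0 hv) fun r hr => ?_)
        exact htriv N hNR h r hr v hv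
      letI := Fintype.ofFinite Q
      let avQ : E →ₗ[ZMod 3] E := ∑ q : Q, ρ (q : S)
      have havQ : ∀ v, avQ v = ∑ q : Q, ρ (q : S) v := fun v => by simp [avQ, LinearMap.sum_apply]
      have hb'' : ∀ q ∈ Q, b⁻¹ * q * b ∈ Q := fun q hq => by
        have := P.bQ _ (P.bQ q hq)
        rwa [show b * (b * q * b⁻¹) * b⁻¹ = b⁻¹ * q * b by
          rw [show b * (b * q * b⁻¹) * b⁻¹ = (b * b) * q * (b * b)⁻¹ by group,
            ← show b⁻¹ = b * b from inv_eq_of_mul_eq_one_right (by rw [← mul_assoc, hbbb]), inv_inv]] at this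
      have hQb : ∀ v, avQ (ρ b v) = ρ b (avQ v) := by
        intro v
        rw [havQ, havQ, map_sum]
        refine Fintype.sum_equiv
          { toFun := fun g : Q => (⟨b⁻¹ * g * b, hb'' g g.2⟩ : Q)
            invFun := fun g : Q => (⟨b * g * b⁻¹, P.bQ g g.2⟩ : Q)
            left_inv := fun g => Subtype.ext (show b * (b⁻¹ * (g : S) * b) * b⁻¹ = g by group)
            right_inv := fun g => Subtype.ext (show b⁻¹ * (b * (g : S) * b⁻¹) * b = g by group) } _ _ fun g => ?_
        simp only [Equiv.coe_fn_mk]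
        rw [← rho_mul, ← rho_mul, show b * (b⁻¹ * (g : S) * b) = (g : S) * b by group]
      have hQinv : ∀ s ∈ Q, ∀ v, avQ (ρ s v) = avQ v := by
        intro s hs v
        rw [havQ, havQ]
        refine Fintype.sum_equiv (Equiv.mulRight (⟨s, hs⟩ : Q)) _ _ fun g => ?_
        rw [← rho_mul]; rfl
      set U := F0 ⊓ LinearMap.ker avQ with hU
      have hUb : ∀ v ∈ U, ρ b v ∈ U := fun v hv => ⟨hinvb v hv.1, by
        show avQ _ = 0
        rw [hQb, show avQ v = 0 from hv.2, map_zero]⟩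
      have hUQ : ∀ q ∈ Q, ∀ v ∈ U, ρ q v ∈ U := fun q hq v hv => ⟨hinvR q (hQR hq) v hv.1, by
        show avQ _ = 0
        rw [hQinv q hq]; exact hv.2⟩
      have hUN : ∀ v ∈ U, v ∈ N → v = 0 := fun v hv hvN => by
        have h : avQ v = 0 := hv.2
        rw [havQ, Finset.sum_congr rfl fun (g : Q) _ => hQN (g : S) g.2 v hvN, Finset.sum_const, Finset.card_univ,
          ← Nat.card_eq_fintype_card, P.Qcard] at h
        refine nsmul_eq_zero_three (n := 4) (by decide) h
      obtain ⟨u, hu, hli⟩ := P.exists_block (ρ := ρ) (U := U) hUb hUQ (by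
        obtain ⟨q, hq, hbq⟩ := P.bmove
        obtain ⟨v, hv, hqv⟩ : ∃ v ∈ F0, ρ q v ≠ v := by
          by_contra h
          simp only [not_exists, not_and, not_not] at h
          exact hbq (by rw [hfaith0 q (hQR hq) h, mul_one, one_mul])
        refine ⟨q, hq, v - ρ q v, ⟨F0.sub_mem hv (hinvR q (hQR hq) v hv), ?_⟩, fun h => hqv ?_⟩
        · show avQ _ = 0
          rw [map_sub, hQinv q hq, sub_self]
        · have hsq : ρ q (ρ q v) = v := by rw [← rho_mul, ← pow_two, P.Qsq q hq, rho_one]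
          rw [map_sub, hsq] at h
          have := eq_zero_of_add_self (v := v - ρ q v) (by
            calc v - ρ q v + (v - ρ q v) = (v - ρ q v) - (ρ q v - v) := by abel
              _ = 0 := by rw [h, sub_self])
          exact (sub_eq_zero.1 this).symm)
      set d0 := ρ b n - n with hd0
      set d1 := ρ b u - u with hd1
      set d2 := ρ b d1 - d1 with hd2
      have hli2 : ∀ s t : ZMod 3, s • d1 + t • d2 = 0 → s = 0 ∧ t = 0 := by
        intro s t h
        have := Fintype.linearIndependent_iff.1 hli ![t - s, s - 2 * t, t] (by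
          simp only [Fin.sum_univ_three, Matrix.cons_val_zero, Matrix.cons_val_one, Matrix.cons_val_two,
            Matrix.tail_cons, Matrix.head_cons]
          rw [← h, hd2, hd1, map_sub, smul_sub, smul_sub, smul_sub, smul_sub, sub_smul, sub_smul, two_mul, add_smul]
          abel)
        have h1 : t = 0 := this 2
        have h0 : t - s = 0 := this 0
        rw [h1, zero_sub, neg_eq_zero] at h0
        exact ⟨h0, h1⟩
      have hd0N : d0 ∈ N := N.sub_mem (hNb n hn') hn'
      have hd1U : d1 ∈ U := U.sub_mem (hUb u hu) hu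
      have hd2U : d2 ∈ U := U.sub_mem (hUb d1 hd1U) hd1U
      have hm : ∀ i, ![d0, d1, d2] i ∈ F0.map (ρ b - 1) := by
        intro i
        fin_cases i
        · exact ⟨n, hN0 hn', rfl⟩
        · exact ⟨u, hu.1, rfl⟩
        · exact ⟨d1, hd1U.1, rfl⟩
      have hli3 : LinearIndependent (ZMod 3) (fun i => (⟨_, hm i⟩ : F0.map (ρ b - 1))) := by
        refine LinearIndependent.of_comp (F0.map (ρ b - 1)).subtype ?_
        show LinearIndependent (ZMod 3) ![d0, d1, d2]
        rw [Fintype.linearIndependent_iff]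
        intro g hg
        simp only [Fin.sum_univ_three, Matrix.cons_val_zero, Matrix.cons_val_one, Matrix.cons_val_two,
          Matrix.tail_cons, Matrix.head_cons] at hg
        have hg' : g 0 • d0 = -(g 1 • d1 + g 2 • d2) := eq_neg_of_add_eq_zero_left (by rw [← hg]; abel)
        have h0 := hUN _ (hg' ▸ U.neg_mem (U.add_mem (U.smul_mem _ hd1U) (U.smul_mem _ hd2U)) : g 0 • d0 ∈ U)
          (N.smul_mem _ hd0N)
        have hg0 := (smul_eq_zero.1 h0).resolve_right (sub_ne_zero.2 hbn)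
        rw [h0, zero_add] at hg
        obtain ⟨hg1, hg2⟩ := hli2 _ _ hg
        intro i
        fin_cases i <;> assumption
      have := hli3.fintype_card_le_finrank
      rw [Fintype.card_fin] at this
      omega
    · right
      simp only [not_forall] at hQN
      obtain ⟨q, hq, v, hv, hqv⟩ := hQN
      obtain ⟨u, hu, hli⟩ := P.exists_block (ρ := ρ) (U := N) hNb (fun q hq => hNR q (hQR hq)) ⟨q, hq, v, hv, hqv⟩
      set d1 := ρ b u - u with hd1
      set d2 := ρ b d1 - d1 with hd2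
      have hd1N : d1 ∈ N := N.sub_mem (hNb u hu) hu
      have hm : ∀ i, ![d1, d2] i ∈ N.map (ρ b - 1) := by
        intro i
        fin_cases i
        · exact ⟨u, hu, rfl⟩
        · exact ⟨d1, hd1N, rfl⟩
      have hli2 : LinearIndependent (ZMod 3) (fun i => (⟨_, hm i⟩ : N.map (ρ b - 1))) := by
        refine LinearIndependent.of_comp (N.map (ρ b - 1)).subtype ?_
        show LinearIndependent (ZMod 3) ![d1, d2]
        rw [LinearIndependent.pair_iff]
        intro s t h
        have := Fintype.linearIndependent_iff.1 hli ![t - s, s - 2 * t, t] (by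
          simp only [Fin.sum_univ_three, Matrix.cons_val_zero, Matrix.cons_val_one, Matrix.cons_val_two,
            Matrix.tail_cons, Matrix.head_cons]
          rw [← h, hd2, hd1, map_sub, smul_sub, smul_sub, smul_sub, smul_sub, sub_smul, sub_smul, two_mul, add_smul]
          abel)
        have h1 : t = 0 := this 2
        have h0 : t - s = 0 := this 0
        rw [h1, zero_sub, neg_eq_zero] at h0
        exact ⟨h0, h1⟩
      have h2 := hli2.fintype_card_le_finrank
      rw [Fintype.card_fin] at h2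
      have heq : N.map (ρ b - 1) = F0.map (ρ b - 1) :=
        Submodule.eq_of_le_of_finrank_le (Submodule.map_mono hN0) (by omega)
      have hbmod : ∀ w ∈ F0, ρ b w - w ∈ N := fun w hw => by
        obtain ⟨w', hw', he⟩ := (heq.symm ▸ (⟨w, hw, rfl⟩ : (ρ b - 1) w ∈ F0.map (ρ b - 1)) :
          (ρ b - 1) w ∈ N.map (ρ b - 1))
        show (ρ b - 1) w ∈ N
        rw [← he]
        exact N.sub_mem (hNb w' hw') hw'
      let M : Subgroup S :=
        { carrier := {r | r ∈ R ∧ ∀ w ∈ F0, ρ r w - w ∈ N}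
          one_mem' := ⟨one_mem R, fun w _ => by rw [rho_one, sub_self]; exact N.zero_mem⟩
          mul_mem' := fun {x y} hx hy => ⟨mul_mem hx.1 hy.1, fun w hw => by
            rw [rho_mul, show ρ x (ρ y w) - w = (ρ x (ρ y w) - ρ y w) + (ρ y w - w) by abel]
            exact N.add_mem (hx.2 _ (hinvR y hy.1 w hw)) (hy.2 w hw)⟩
          inv_mem' := fun {x} hx => ⟨inv_mem hx.1, fun w hw => by
            have := hx.2 _ (hinvR x⁻¹ (inv_mem hx.1) w hw)
            rw [rho_cancel'] at this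
            rw [← neg_sub]
            exact N.neg_mem this⟩ }
      have hRM : R ≤ M := by
        refine hgen M fun r hr => ⟨?_, fun w hw => ?_⟩
        · rw [show r * b * r⁻¹ * b⁻¹ = r * (b * r⁻¹ * b⁻¹) by group]
          exact mul_mem hr (hbR _ (inv_mem hr))
        · set w1 := ρ b⁻¹ w with hw1
          have hw1F : w1 ∈ F0 := by
            rw [hw1, show b⁻¹ = b * b from inv_eq_of_mul_eq_one_right (by rw [← mul_assoc, hbbb]), rho_mul]
            exact hinvb _ (hinvb w hw)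
          have h1 : w - w1 ∈ N := by
            have := hbmod w1 hw1F
            rwa [hw1, rho_cancel'] at this
          have h2 := hNR r hr _ (hbmod _ (hinvR r⁻¹ (inv_mem hr) w1 hw1F))
          rw [map_sub, rho_cancel'] at h2
          have h3 := N.sub_mem h2 h1
          rwa [show ρ r (ρ b (ρ r⁻¹ w1)) - w1 - (w - w1) = ρ (r * b * r⁻¹ * b⁻¹) w - w by
            rw [rho_mul, rho_mul, rho_mul, ← hw1]; abel] at h3
      refine le_antisymm hN0 fun w hw => ?_
      have h : av w - (Fintype.card R : ZMod 3) • w ∈ N := by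
        rw [hav, Nat.cast_smul_eq_nsmul, ← Finset.card_univ, ← Finset.sum_const, ← Finset.sum_sub_distrib]
        exact N.sum_mem fun g _ => (hRM g.2).2 w hw
      rw [show av w = 0 from hw, zero_sub] at h
      have h' := N.smul_mem (Fintype.card R : ZMod 3)⁻¹ (N.neg_mem h)
      rwa [neg_neg, smul_smul, inv_mul_cancel₀ hn, one_smul] at h'
  have C : Ctx ρ b R Q F0 :=
    { toPre := P, bR := hbR, gen := hgen, cop := hRco, solv := inferInstance, invR := hinvR, invb := hinvb
      faith := hfaith0, fix0 := hfix0, irr := hirr, rank := hrank, QR := hQR }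
  refine ⟨?_, F0, F1, ?_, ?_, fun r hr v hv => hv.2 r hr, ?_, ?_, ?_⟩
  · -- the structure of the group
    obtain ⟨A, p, CA⟩ := exists_actx C
    rcases CA.outcome with h4 | ⟨h32, ⟨z, hz, hz1, hzc, hzu, hsq⟩, A8, hA8R, hA8c, hA8e, hA8⟩
    · left
      have he : Q = R := Subgroup.eq_of_le_of_card_ge hQR (by rw [P.Qcard]; exact h4)
      subst he
      exact ⟨⟨⟨⟨fun x y => Subtype.ext (P.Qc x x.2 y y.2)⟩⟩, P.Qsq⟩, P.Qcard⟩
    right
    haveI : Fact (Nat.Prime 2) := ⟨Nat.prime_two⟩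
    refine ⟨?_, h32, A8, hA8R, ⟨⟨⟨fun x y => Subtype.ext (hA8c x x.2 y y.2)⟩⟩, hA8e⟩, hA8⟩
    set zR : R := ⟨z, hz⟩ with hzR
    have hcen : ∀ x : R, x ∈ Subgroup.center R ↔ x = 1 ∨ x = zR := by
      intro x
      rw [Subgroup.mem_center_iff]
      constructor
      · intro h
        rcases hzu x x.2 fun g hg => (congrArg Subtype.val (h ⟨g, hg⟩)).symm with e | e
        · exact Or.inl (Subtype.ext e)
        · exact Or.inr (Subtype.ext e)
      · rintro (rfl | rfl) g
        · simp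
        · exact Subtype.ext (hzc g g.2).symm
    have hc2 : Nat.card (Subgroup.center R) = 2 := by
      rw [← Nat.card_congr (Equiv.refl _), show Nat.card (Subgroup.center R) = Nat.card ({1, zR} : Set R) from
        Nat.card_congr (Equiv.subtypeEquivRight fun x => by rw [hcen]; simp)]
      rw [Nat.card_coe_set_eq, Set.ncard_pair]
      exact fun h => hz1 (congrArg Subtype.val h).symm
    have hpow : ∀ x : R, x ^ 2 ∈ Subgroup.center R := fun x => by
      rcases hsq x x.2 with e | e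
      · exact (hcen _).2 (Or.inl (Subtype.ext e))
      · exact (hcen _).2 (Or.inr (Subtype.ext e))
    refine isExtraspecial_of (IsPGroup.of_card (n := 5) (by rw [h32]; norm_num)) hc2 ?_ hpow
    have hle : commutator R ≤ Subgroup.center R := by
      rw [commutator_def, Subgroup.commutator_le]
      intro x _ y _
      rw [show ⁅x, y⁆ = x ^ 2 * ((x⁻¹ * y) ^ 2) * (y⁻¹) ^ 2 by rw [commutatorElement_def, pow_two, pow_two, pow_two]; group]
      exact mul_mem (mul_mem (hpow x) (hpow _)) (hpow _)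
    refine Subgroup.eq_of_le_of_card_ge hle ?_
    rw [hc2]
    by_contra hlt
    have hbot : commutator R = ⊥ := Subgroup.eq_bot_of_card_le _ (by omega)
    have htop : Subgroup.center R = ⊤ := by
      refine eq_top_iff.2 fun x _ => Subgroup.mem_center_iff.2 fun g => ?_
      have := Subgroup.commutator_mem_commutator (Subgroup.mem_top g) (Subgroup.mem_top x)
      rw [← commutator_def, hbot, Subgroup.mem_bot, commutatorElement_eq_one_iff_mul_comm] at this
      exact this
    rw [htop, Subgroup.card_top, h32] at hc2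
    omega
  · exact (Submodule.eq_bot_iff _).2 fun v hv => hdisj v hv.1 hv.2
  · refine eq_top_iff.2 fun v _ => ?_
    obtain ⟨u, hu, w, hw, rfl⟩ := hsplit v
    exact Submodule.add_mem _ (Submodule.mem_sup_left hu) (Submodule.mem_sup_right hw)
  · intro x hx v hv
    have : x ∈ (⟨⟨⟨{s | ∀ v, v ∈ F0 ↔ ρ s v ∈ F0},
        fun {s t} hs ht v => by rw [ht v, hs (ρ t v), rho_mul]⟩, fun v => by rw [rho_one]⟩,
        fun {s} hs v => by rw [hs (ρ s⁻¹ v), rho_cancel']⟩ : Subgroup S) := by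
      refine (sup_le (fun r hr v => ⟨hinvR r hr v, fun h => ?_⟩) (Subgroup.zpowers_le.2 fun v => ⟨hinvb v, fun h => ?_⟩)) hx
      · have := hinvR r⁻¹ (inv_mem hr) _ h
        rwa [rho_cancel] at this
      · have := C.invb' _ h
        rwa [rho_cancel] at this
    exact (this v).1 hv
  · intro x hx hfx
    let G : Subgroup S :=
      { carrier := {x | ∃ r ∈ R, ∃ c ∈ B, x = r * c}
        one_mem' := ⟨1, one_mem R, 1, one_mem B, (mul_one 1).symm⟩
        mul_mem' := by
          rintro u v ⟨r, hr, c, hc, rfl⟩ ⟨r', hr', c', hc', rfl⟩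
          exact ⟨r * (c * r' * c⁻¹), mul_mem hr ((Subgroup.mem_normalizer_iff.1 (hBN hc) r').1 hr'), c * c',
            mul_mem hc hc', by group⟩
        inv_mem' := by
          rintro u ⟨r, hr, c, hc, rfl⟩
          exact ⟨c⁻¹ * r⁻¹ * c⁻¹⁻¹, (Subgroup.mem_normalizer_iff.1 (hBN (inv_mem hc)) _).1 (inv_mem hr), c⁻¹,
            inv_mem hc, by group⟩ }
    have hxG : x ∈ G := (sup_le (fun r hr => ⟨r, hr, 1, one_mem B, (mul_one r).symm⟩)
      (fun c hc => ⟨1, one_mem R, c, hc, (one_mul c).symm⟩) : R ⊔ B ≤ G) hx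
    obtain ⟨r, hr, c, hc, rfl⟩ := hxG
    have hc3 : c ^ 3 = 1 := by
      rcases hBelts c hc with rfl | rfl | rfl
      · exact one_pow 3
      · exact hb
      · rw [← pow_two, ← pow_mul, show 2 * 3 = 3 * 2 from rfl, pow_mul, hb, one_pow]
    have hcr : ∀ v ∈ F0, ρ c v = ρ r⁻¹ v := fun v hv => by
      have := congrArg (ρ r⁻¹) (hfx v hv)
      rwa [rho_mul, rho_cancel] at this
    have hpow : ∀ j : ℕ, ∀ v ∈ F0, ρ (c ^ j) v = ρ (r⁻¹ ^ j) v := by
      intro j
      induction j with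
      | zero => intro v _; simp
      | succ j ih =>
        intro v hv
        rw [pow_succ, rho_mul, hcr v hv, ih _ (hinvR _ (inv_mem hr) v hv), ← rho_mul, ← pow_succ]
    have hr3 : r⁻¹ ^ 3 = 1 := hfaith0 _ (pow_mem (inv_mem hr) 3) fun v hv => by
      rw [← hpow 3 v hv, hc3, rho_one]
    have hr1 : r = 1 := by
      have hd : orderOf (⟨r⁻¹, inv_mem hr⟩ : R) ∣ Nat.card R := orderOf_dvd_natCard _
      rw [Subgroup.orderOf_mk] at hd
      have : orderOf r⁻¹ = 1 := Nat.eq_one_of_dvd_coprimes hRco hd (orderOf_dvd_of_pow_eq_one hr3)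
      rwa [orderOf_eq_one_iff, inv_eq_one] at this
    subst hr1
    rw [one_mul] at hfx ⊢
    by_contra hc1
    have hbfix : ∀ v ∈ F0, ρ b v = v := by
      intro v hv
      rcases hBelts c hc with rfl | rfl | rfl
      · exact absurd rfl hc1
      · exact hfx v hv
      · have := congrArg (ρ b) (hfx v hv)
        rw [← rho_mul, ← mul_assoc, hbbb, rho_one] at this
        exact this.symm
    obtain ⟨q, hq, hbq⟩ := P.bmove
    refine hbq ?_
    rw [hfaith0 q (hQR hq) fun v hv => htriv F0 hinvR hbfix q (hQR hq) v hv, mul_one, one_mul]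
  · intro N hN hinv
    exact hirr N hN (fun r hr => hinv r (Subgroup.mem_sup_left hr)) (hinv b (Subgroup.mem_sup_right hbmem))

end Cfsg.Agent.Solv.ThreeBlock
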