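import Cfsg.Agent.Lib.Solv.ThreeBlock.Components
import Mathlib.GroupTheory.PGroup
import Mathlib.GroupTheory.SpecificGroups.Cyclic
import Mathlib.FieldTheory.Finiteness
import Mathlib.Tactic.IntervalCases
import Mathlib.Tactic.NormNum.Prime

/-!
# The element of order three moves a component, and the components are lines
-/

set_option autoImplicit false

namespace Cfsg.Agent.Solv.ThreeBlock

variable {S : Type*} [Group S] [Finite S] {E : Type*} [AddCommGroup E] [Module (ZMod 3) E] [Finite E]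

/-- The image of a subgroup under conjugation. -/
def cj (g : S) (K : Subgroup S) : Subgroup S := K.map (MulAut.conj g).toMonoidHom

omit [Finite S] in
theorem mem_cj {g x : S} {K : Subgroup S} (hx : x ∈ K) : g * x * g⁻¹ ∈ cj g K := ⟨x, hx, rfl⟩

omit [Finite S] in
theorem cj_mul (g h : S) (K : Subgroup S) : cj (g * h) K = cj g (cj h K) := by
  rw [cj, cj, cj, Subgroup.map_map]
  congr 1
  ext x
  simp [mul_assoc]

omit [Finite S] in
theorem cj_one (K : Subgroup S) : cj (1 : S) K = K := by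
  rw [cj]
  convert K.map_id
  ext x
  simp

/-- The stabilizer of a component. -/
def fixC (ρ : Representation (ZMod 3) S E) (F : Submodule (ZMod 3) E) (A K : Subgroup S) : Subgroup S where
  carrier := {g | g ∈ stab ρ F A ∧ cj g K = K}
  one_mem' := ⟨one_mem _, cj_one K⟩
  mul_mem' := fun {x y} hx hy => ⟨mul_mem hx.1 hy.1, by rw [cj_mul, hy.2, hx.2]⟩
  inv_mem' := fun {x} hx => ⟨inv_mem hx.1, by
    conv_lhs => rw [← hx.2]
    rw [← cj_mul, inv_mul_cancel, cj_one]⟩

variable {ρ : Representation (ZMod 3) S E} {b : S} {R Q : Subgroup S} {F : Submodule (ZMod 3) E}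
  {A : Subgroup S} {r : ℕ} (C : ACtx ρ b R Q F A r)
include C

/-- A power fixing a nonzero vector of a component is trivial. -/
theorem ACtx.pow_fix {K : Subgroup S} (hK : Good ρ F A K) {a : S} (ha : a ∈ A) (haK : a ∉ K) {v : E}
    (hv : v ∈ FF ρ F K) (hv0 : v ≠ 0) {n : ℕ} (h : ρ (a ^ n) v = v) : r ∣ n := by
  by_contra hn
  have h1 : a ≠ 1 := fun h => haK (h ▸ one_mem K)
  haveI : Fact r.Prime := ⟨C.rp⟩
  obtain ⟨m, hm⟩ := exists_pow_eq_self_of_coprime (x := a) (n := n) (by
    rw [orderOf_eq_prime (C.Aexp a ha) h1]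
    exact (C.rp.coprime_iff_not_dvd.2 hn).symm)
  have h2 : a ^ n ∈ K := by
    by_contra hnK
    exact hv0 (C.fpf hK (pow_mem ha n) hnK hv h)
  exact haK (hm ▸ pow_mem h2 m)

/-- The orbits of `A` on the nonzero vectors of a component have length `r`. -/
theorem ACtx.dvd_card {K : Subgroup S} (hK : Good ρ F A K) {a : S} (ha : a ∈ A) (haK : a ∉ K)
    (U : Submodule (ZMod 3) E) (hUK : U ≤ FF ρ F K) (hUa : ∀ v ∈ U, ρ a v ∈ U) :
    r ∣ 3 ^ Module.finrank (ZMod 3) U - 1 := by
  classical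
  haveI : Fact r.Prime := ⟨C.rp⟩
  have hz : ∀ g ∈ Subgroup.zpowers a, ∀ v ∈ U, ρ g v ∈ U := by
    intro g hg v hv
    obtain ⟨n, rfl⟩ := mem_powers_iff_mem_zpowers.2 hg
    simp only
    induction n with
    | zero => rwa [pow_zero, rho_one]
    | succ n ih =>
      rw [pow_succ', rho_mul]
      exact hUa _ (ih (pow_mem (Subgroup.mem_zpowers a) n))
  letI : MulAction (Subgroup.zpowers a) U :=
    { smul := fun g v => ⟨ρ (g : S) v, hz g g.2 v v.2⟩
      one_smul := fun v => Subtype.ext (rho_one ρ (v : E))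
      mul_smul := fun g h v => Subtype.ext (rho_mul ρ (g : S) h (v : E)) }
  have hp : IsPGroup r (Subgroup.zpowers a) := by
    intro g
    refine ⟨1, ?_⟩
    obtain ⟨n, hn⟩ := Subgroup.mem_zpowers_iff.1 g.2
    apply Subtype.ext
    rw [SubmonoidClass.coe_pow, pow_one, ← hn, ← zpow_natCast, ← zpow_mul, mul_comm, zpow_mul,
      zpow_natCast, C.Aexp a ha, one_zpow, Subgroup.coe_one]
  have h := hp.card_modEq_card_fixedPoints (α := U)
  have hfix : Nat.card (MulAction.fixedPoints (Subgroup.zpowers a) U) = 1 := by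
    rw [Nat.card_eq_one_iff_unique]
    refine ⟨⟨fun x y => ?_⟩, ⟨⟨0, fun g => Subtype.ext (map_zero (ρ (g : S)))⟩⟩⟩
    have h0 : ∀ x : MulAction.fixedPoints (Subgroup.zpowers a) U, ((x : U) : E) = 0 := fun x =>
      C.fpf hK ha haK (hUK (x : U).2) (congrArg Subtype.val (x.2 ⟨a, Subgroup.mem_zpowers a⟩))
    exact Subtype.ext (Subtype.ext ((h0 x).trans (h0 y).symm))
  rw [hfix, Module.natCard_eq_pow_finrank (K := ZMod 3) (V := U), Nat.card_zmod] at h
  exact (Nat.modEq_iff_dvd' (Nat.one_le_pow _ _ (by norm_num))).1 h.symm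

omit C in
theorem small_case {r d k : ℕ} (hr : r.Prime) (hd : d ≤ 2) (hk0 : 0 < k) (hk : k ≤ d + d)
    (hdvd : r ∣ 3 ^ k - 1) (s : ZMod r) (hs : s ^ 3 = 1) (hs1 : s ≠ 1) : r = 13 ∧ k = 3 ∧ d = 2 := by
  have hk4 : k ≤ 4 := by omega
  have hle : r ≤ 3 ^ k - 1 := Nat.le_of_dvd (by interval_cases k <;> norm_num) hdvd
  have hbad : r ≠ 2 ∧ r ≠ 5 := by
    constructor
    · rintro rfl
      revert s
      decide
    · rintro rfl
      revert s
      decide
  interval_cases k
  · exact absurd ((Nat.prime_dvd_prime_iff_eq hr Nat.prime_two).1 (by simpa using hdvd)) hbad.1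
  · exact absurd ((Nat.prime_dvd_prime_iff_eq hr Nat.prime_two).1 (hr.dvd_of_dvd_pow (n := 3) (by simpa using hdvd))) hbad.1
  · rcases (Nat.Prime.dvd_mul hr).1 (show r ∣ 2 * 13 by simpa using hdvd) with h | h
    · exact absurd ((Nat.prime_dvd_prime_iff_eq hr Nat.prime_two).1 h) hbad.1
    · exact ⟨(Nat.prime_dvd_prime_iff_eq hr (by norm_num)).1 h, rfl, by omega⟩
  · rcases (Nat.Prime.dvd_mul hr).1 (show r ∣ 2 ^ 4 * 5 by simpa using hdvd) with h | h
    · exact absurd ((Nat.prime_dvd_prime_iff_eq hr Nat.prime_two).1 (hr.dvd_of_dvd_pow h)) hbad.1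
    · exact absurd ((Nat.prime_dvd_prime_iff_eq hr (by norm_num)).1 h) hbad.2

/-- Some component is moved. -/
theorem ACtx.exists_moved : ∃ K, Good ρ F A K ∧ cj b K ≠ K := by
  classical
  by_contra hno
  simp only [not_exists, not_and, not_not] at hno
  by_cases hall : ∀ K, Good ρ F A K → ∀ a ∈ A, b * a * b⁻¹ * a⁻¹ ∈ K
  · -- `b` and `R` centralize `A`
    have hbA : ∀ a ∈ A, b * a = a * b := by
      intro a ha
      have hm : b * a * b⁻¹ * a⁻¹ ∈ A := mul_mem (C.Anb a ha) (inv_mem ha)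
      have := C.eq_one_of_fix (C.AR hm) fun K hK v hv => hv.2 _ (hall K hK a ha)
      exact mul_inv_eq_iff_eq_mul.1 (mul_inv_eq_one.1 this)
    refine C.Anc fun a ha => ⟨hbA a ha, fun g hg => ?_⟩
    have := C.gen (Subgroup.centralizer (A : Set S)) (fun g hg => Subgroup.mem_centralizer_iff.2 fun a ha => ?_) hg
    · exact (Subgroup.mem_centralizer_iff.1 this a ha).symm
    · set a' := g⁻¹ * a * g with ha'
      have ha'A : a' ∈ A := by
        have := C.AnR g⁻¹ (inv_mem hg) a ha
        rwa [inv_inv] at this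
      have h1 := hbA a' ha'A
      have h2 := hbA a ha
      calc a * (g * b * g⁻¹ * b⁻¹) = g * (a' * b) * g⁻¹ * b⁻¹ := by rw [ha']; group
        _ = g * (b * a') * g⁻¹ * b⁻¹ := by rw [h1]
        _ = g * b * g⁻¹ * (a * b⁻¹) := by rw [ha']; group
        _ = g * b * g⁻¹ * (b⁻¹ * (b * a) * b⁻¹) := by group
        _ = g * b * g⁻¹ * b⁻¹ * a := by rw [h2]; group
  simp only [not_forall] at hall
  obtain ⟨K, hK, a, ha, hmv⟩ := hall
  have hbK : cj b K = K := hno K hK
  have haK : a ∉ K := fun h => hmv (mul_mem (hbK ▸ mem_cj h) (inv_mem h))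
  obtain ⟨j, hj, hjK⟩ := C.cyclic hK ha haK (C.Anb a ha)
  set s := r - j with hs
  set W := FF ρ F K with hW
  have hWa : ∀ n : ℕ, ∀ v ∈ W, ρ (a ^ n) v ∈ W := fun n v hv => C.invA (pow_mem ha n) hK.1 hv
  have hWb : ∀ v ∈ W, ρ b v ∈ W := fun v hv => by
    have := (mem_FF_map C.hbR.1.2 K v).2 hv
    rwa [show K.map (MulAut.conj b).toMonoidHom = K from hbK] at this
  have hba : ∀ v ∈ W, ρ b (ρ a v) = ρ (a ^ s) (ρ b v) := by
    intro v hv
    have h1 := (hWa s _ (hWb v hv)).2 _ hjK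
    rw [← rho_mul ρ _ (a ^ s), mul_assoc, ← pow_add, hs, Nat.add_sub_cancel' hj.le, C.Aexp a ha, mul_one, ← rho_mul,
      inv_mul_cancel_right, rho_mul] at h1
    exact h1
  have hbn : ∀ n : ℕ, ∀ v ∈ W, ρ b (ρ (a ^ n) v) = ρ (a ^ (s * n)) (ρ b v) := by
    intro n
    induction n with
    | zero => intro v _; simp
    | succ n ih =>
      intro v hv
      rw [pow_succ', rho_mul, hba _ (hWa n v hv), ih v hv, ← rho_mul, ← pow_add, Nat.mul_succ, add_comm]
  have hcube : ∀ v, ρ b (ρ b (ρ b v)) = v := fun v => by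
    rw [← rho_mul, ← rho_mul, show b * b * b = 1 by rw [← C.hb3, pow_succ, pow_two], rho_one]
  obtain ⟨x, hx, hx0⟩ := Submodule.exists_mem_ne_zero_of_ne_bot hK.2.1
  have hsr : (s : ZMod r) ^ 3 = 1 := by
    have e : ρ (a ^ (s * (s * (s * 1)))) x = ρ a x := by
      have := hbn (s * (s * 1)) _ (hWb _ (hWb x hx))
      rw [hcube, ← hbn (s * 1) _ (hWb x hx), ← hbn 1 x hx, pow_one, hcube] at this
      exact this.symm
    have h2 : ρ (a ^ (s * (s * (s * 1)) + (r - 1))) x = x := by
      rw [add_comm, pow_add, rho_mul, e, ← rho_mul, ← pow_succ, Nat.sub_add_cancel C.rp.one_le, C.Aexp a ha,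
        rho_one]
    have h3 := (ZMod.natCast_eq_zero_iff _ _).2 (C.pow_fix hK ha haK hx hx0 h2)
    rw [Nat.cast_add, Nat.cast_sub C.rp.one_le, ZMod.natCast_self, Nat.cast_one, zero_sub, ← sub_eq_add_neg,
      sub_eq_zero] at h3
    rw [← h3]
    push_cast
    ring
  have hs1 : (s : ZMod r) ≠ 1 := by
    intro h
    refine hmv ?_
    have h' : r ∣ (j + 1) := (ZMod.natCast_eq_zero_iff _ _).1 (by
      rw [hs, Nat.cast_sub hj.le, ZMod.natCast_self, zero_sub] at h
      rw [Nat.cast_add, Nat.cast_one, ← h, add_neg_cancel])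
    have hj1 : j + 1 = r := le_antisymm hj (Nat.le_of_dvd (Nat.succ_pos j) h')
    have : a ^ j = a⁻¹ := by
      refine eq_inv_of_mul_eq_one_left ?_
      rw [← pow_succ, hj1, C.Aexp a ha]
    rwa [this] at hjK
  -- the commutators of `b` in the component
  set D := W.map (ρ b - 1) with hD
  have hDle : D ≤ F.map (ρ b - 1) := Submodule.map_mono fun v hv => hv.1
  have hdim2 : Module.finrank (ZMod 3) D ≤ 2 := le_trans (Submodule.finrank_mono hDle) C.rank
  have hWD : W ≤ D ⊔ D.map (ρ a) := by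
    have hmap : ∀ v : W, ρ (a ^ s) (ρ b v) - ρ a (ρ b v) ∈ W := fun v =>
      W.sub_mem (hWa _ _ (hWb _ v.2)) (C.invA ha hK.1 (hWb _ v.2))
    let f : W → W := fun v => ⟨_, hmap v⟩
    have hinj : Function.Injective f := by
      intro u v huv
      have h := congrArg Subtype.val huv
      simp only [f] at h
      set w := ρ b ((u : E) - v) with hw
      have hwW : w ∈ W := hWb _ (W.sub_mem u.2 v.2)
      have he : ρ (a ^ s) w = ρ a w := by
        rw [hw, map_sub, map_sub, map_sub]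
        rw [sub_eq_sub_iff_sub_eq_sub] at h
        exact h
      by_contra hne
      have hw0 : w ≠ 0 := fun h0 => hne (Subtype.ext (sub_eq_zero.1 (rho_inj ρ b (h0.trans (map_zero _).symm))))
      have h2 : ρ (a ^ (s + (r - 1))) w = w := by
        rw [add_comm, pow_add, rho_mul, he, ← rho_mul, ← pow_succ, Nat.sub_add_cancel C.rp.one_le, C.Aexp a ha, rho_one]
      have h3 := (ZMod.natCast_eq_zero_iff _ _).2 (C.pow_fix hK ha haK hwW hw0 h2)
      rw [Nat.cast_add, Nat.cast_sub C.rp.one_le, ZMod.natCast_self, Nat.cast_one, zero_sub, ← sub_eq_add_neg,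
        sub_eq_zero] at h3
      exact hs1 h3
    intro w hw
    obtain ⟨u, hu⟩ := Finite.surjective_of_injective hinj ⟨w, hw⟩
    have hu' := congrArg Subtype.val hu
    simp only [f] at hu'
    rw [← hu', ← hba _ u.2]
    have e : ρ b (ρ a u) - ρ a (ρ b u) = (ρ b (ρ a u) - ρ a u) - ρ a (ρ b u - u) := by
      rw [map_sub]; abel
    rw [e]
    exact Submodule.sub_mem _ (Submodule.mem_sup_left ⟨_, C.invA ha hK.1 u.2, rfl⟩)
      (Submodule.mem_sup_right ⟨_, ⟨_, u.2, rfl⟩, rfl⟩)
  have hdimW : Module.finrank (ZMod 3) W ≤ Module.finrank (ZMod 3) D + Module.finrank (ZMod 3) D := by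
    refine (Submodule.finrank_mono hWD).trans ((Submodule.finrank_add_le_finrank_add_finrank _ _).trans ?_)
    exact Nat.add_le_add_left (Submodule.finrank_map_le _ _) _
  have hpos : 0 < Module.finrank (ZMod 3) W := by
    rw [Nat.pos_iff_ne_zero]
    exact fun h => hK.2.1 (Submodule.finrank_eq_zero.1 h)
  obtain ⟨hr13, hW3, hD2⟩ := small_case C.rp hdim2 hpos hdimW
    (C.dvd_card hK ha haK W le_rfl fun v hv => C.invA ha hK.1 hv) (s : ZMod r) hsr hs1
  have hDF : D = F.map (ρ b - 1) := Submodule.eq_of_le_of_finrank_le hDle (hD2.symm ▸ C.rank)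
  have hDW : D ≤ W := by
    rintro _ ⟨v, hv, rfl⟩
    exact W.sub_mem (hWb v hv) hv
  -- the component is everything
  have hRK : R ≤ fixC ρ F A K := by
    refine C.gen _ fun g hg => ?_
    have hgs := C.hbR.2 hg
    refine ⟨mul_mem (mul_mem (mul_mem hgs C.hbR.1) (inv_mem hgs)) (inv_mem C.hbR.1), ?_⟩
    have hb' : cj b⁻¹ K = K := by
      conv_lhs => rw [← hbK]
      rw [← cj_mul, inv_mul_cancel, cj_one]
    rw [cj_mul, hb', cj_mul, cj_mul, hno (cj g⁻¹ K) (C.good_map (inv_mem hgs) hK), ← cj_mul, mul_inv_cancel, cj_one]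
  have hWF : W = F := by
    refine (C.irr W (fun v hv => hv.1) (fun g hg v hv => ?_) hWb).resolve_left hK.2.1
    have := (mem_FF_map (C.hbR.2 hg).2 K v).2 hv
    rwa [show K.map (MulAut.conj g).toMonoidHom = K from (hRK hg).2] at this
  have hK1 : ∀ k ∈ K, k = 1 := fun k hk =>
    C.faith k (C.AR (hK.1 hk)) fun v hv => ((hWF.symm ▸ hv : v ∈ W)).2 k hk
  have hApow : ∀ c ∈ A, ∃ n : ℕ, c = a ^ n := fun c hc => by
    obtain ⟨i, hi, hiK⟩ := C.cyclic hK ha haK hc
    refine ⟨r - i, ?_⟩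
    rw [eq_inv_of_mul_eq_one_left (hK1 _ hiK)]
    refine inv_eq_of_mul_eq_one_right ?_
    rw [← pow_add, Nat.add_sub_cancel' hi.le, C.Aexp a ha]
  have hbas : b * a * b⁻¹ = a ^ s := by
    rw [eq_inv_of_mul_eq_one_left (hK1 _ hjK), hs]
    refine inv_eq_of_mul_eq_one_right ?_
    rw [← pow_add, Nat.add_sub_cancel' hj.le, C.Aexp a ha]
  have hconjpow : ∀ g c : S, ∀ n : ℕ, g * c ^ n * g⁻¹ = (g * c * g⁻¹) ^ n := fun g c n => conj_pow.symm
  have hcomm : ∀ g ∈ R, ∀ c ∈ A, g * (b * c * b⁻¹) * g⁻¹ = b * (g * c * g⁻¹) * b⁻¹ := by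
    intro g hg c hc
    obtain ⟨t, ht⟩ := hApow _ (C.AnR g hg a ha)
    obtain ⟨n, rfl⟩ := hApow c hc
    rw [hconjpow b, hconjpow g, hconjpow g a, hconjpow b, hbas, hconjpow g a s, ht, hconjpow b, hbas]
    simp only [← pow_mul]
    congr 1
    ring
  have hQa : ∀ g ∈ R, g * a = a * g := by
    intro g hg
    have := C.gen (Subgroup.centralizer {a}) (fun g hg => Subgroup.mem_centralizer_singleton_iff.2 ?_) hg
    · exact Subgroup.mem_centralizer_singleton_iff.1 this
    · have hc : g⁻¹ * (b⁻¹ * a * b) * g ∈ A := by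
        have h1 : b⁻¹ * a * b ∈ A := by
          have := C.Anb _ (C.Anb a ha)
          rwa [show b * (b * a * b⁻¹) * b⁻¹ = b⁻¹ * a * b by
            rw [show b⁻¹ = b * b from inv_eq_of_mul_eq_one_right (by rw [← C.hb3, pow_succ, pow_two, mul_assoc])]
            rw [show b * (b * a * (b * b)) * (b * b) = b * b * a * b * (b * b * b) by group,
              show b * b * b = 1 by rw [← C.hb3, pow_succ, pow_two], mul_one]] at this
        have := C.AnR g⁻¹ (inv_mem hg) _ h1
        rwa [inv_inv] at this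
      have e := hcomm g hg _ hc
      rw [show b * (g * (g⁻¹ * (b⁻¹ * a * b) * g) * g⁻¹) * b⁻¹ = a by group] at e
      rw [show g * (b * (g⁻¹ * (b⁻¹ * a * b) * g) * b⁻¹) * g⁻¹ =
        (g * b * g⁻¹ * b⁻¹) * a * (g * b * g⁻¹ * b⁻¹)⁻¹ by group] at e
      exact mul_inv_eq_iff_eq_mul.1 e
  -- each involution of the four-group is the inversion
  have hneg : ∀ q ∈ Q, q ≠ 1 → ∀ v ∈ F, ρ q v = -v := by
    intro q hq hq1 v hv
    set U := FF ρ F (Subgroup.zpowers q) with hU
    have hUW : U ≤ W := fun w hw => hWF.symm ▸ hw.1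
    have hUa : ∀ w ∈ U, ρ a w ∈ U := fun w hw => ⟨C.invR a (C.AR ha) w hw.1, fun k hk => by
      obtain ⟨n, rfl⟩ := Subgroup.mem_zpowers_iff.1 hk
      rw [← rho_mul, (Commute.zpow_left (show Commute q a from hQa q (C.QR hq)) n).eq, rho_mul,
        hw.2 _ hk]⟩
    have hd := C.dvd_card hK ha haK U hUW hUa
    have hle : Module.finrank (ZMod 3) U ≤ 3 := (Submodule.finrank_mono hUW).trans hW3.le
    rw [hr13] at hd
    have hU03 : Module.finrank (ZMod 3) U = 0 ∨ Module.finrank (ZMod 3) U = 3 := by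
      generalize Module.finrank (ZMod 3) U = k at hd hle
      interval_cases k <;> omega
    rcases hU03 with h0 | h3
    · have hmem : v + ρ q v ∈ U := by
        refine ⟨F.add_mem hv (C.invR q (C.QR hq) v hv), fun k hk => ?_⟩
        refine (show Subgroup.zpowers q ≤ fixing ρ {v + ρ q v} from Subgroup.zpowers_le.2 fun w hw => ?_) hk _ rfl
        rw [Set.mem_singleton_iff.1 hw, map_add, ← rho_mul, ← pow_two, C.Qsq q hq, rho_one, add_comm]
      rw [Submodule.finrank_eq_zero.1 h0, Submodule.mem_bot] at hmem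
      exact eq_neg_of_add_eq_zero_right hmem
    · have hUF : U = F := by
        rw [← hWF]
        exact Submodule.eq_of_le_of_finrank_le hUW (by omega)
      exact absurd (C.faith q (C.QR hq) fun w hw =>
        ((hUF.symm ▸ hw : w ∈ U)).2 q (Subgroup.mem_zpowers q)) hq1
  obtain ⟨q, hq, hbq⟩ := C.bmove
  have hq1 : q ≠ 1 := fun h => hbq (by rw [h, mul_one, one_mul])
  have hq' : b * q * b⁻¹ ≠ 1 := fun h => hq1 (conj_eq_one_iff.1 h)
  refine C.Q_move hq hq1 ?_
  have := C.faith ((b * q * b⁻¹) * q) (mul_mem (C.QR (C.bQ q hq)) (C.QR hq)) fun v hv => by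
    rw [rho_mul, hneg q hq hq1 v hv, map_neg, hneg _ (C.bQ q hq) hq' v hv, neg_neg]
  rw [eq_inv_of_mul_eq_one_left this]
  exact inv_eq_of_mul_eq_one_right (by rw [← pow_two]; exact C.Qsq q hq)

omit [Finite E] in
/-- The conjugates of a moved component. -/
theorem ACtx.triple {K : Subgroup S} (hbK : cj b K ≠ K) :
    cj b (cj b (cj b K)) = K ∧ cj b (cj b K) ≠ K ∧ cj b (cj b K) ≠ cj b K := by
  have h3 : ∀ L : Subgroup S, cj b (cj b (cj b L)) = L := fun L => by
    rw [← cj_mul, ← cj_mul, show b * b * b = 1 by rw [← C.hb3, pow_succ, pow_two], cj_one]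
  refine ⟨h3 K, fun h => hbK ?_, fun h => hbK ?_⟩
  · have := congrArg (cj b) h
    rw [h3] at this
    exact this.symm
  · have := congrArg (fun L => cj b (cj b L)) h
    rw [h3, h3] at this
    exact this

/-- The components are lines, three of them are permuted cyclically, the others are centralized. -/
theorem ACtx.lines {K : Subgroup S} (hK : Good ρ F A K) (hbK : cj b K ≠ K) :
    r = 2 ∧ (∀ L, Good ρ F A L → ∃ x, x ≠ 0 ∧ ∀ v ∈ FF ρ F L, ∃ c : ZMod 3, v = c • x) ∧
    (∀ L, Good ρ F A L → L ≠ K → L ≠ cj b K → L ≠ cj b (cj b K) →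
      cj b L = L ∧ ∀ v ∈ FF ρ F L, ρ b v = v) := by
  classical
  obtain ⟨h3, hne2, hne1⟩ := C.triple hbK
  set K1 := cj b K with hK1
  set K2 := cj b K1 with hK2
  have hK1g : Good ρ F A K1 := C.good_map C.hbR.1 hK
  have hK2g : Good ρ F A K2 := C.good_map C.hbR.1 hK1g
  have hmap : ∀ L, ∀ v ∈ FF ρ F L, ρ b v ∈ FF ρ F (cj b L) := fun L v hv => (mem_FF_map C.hbR.1.2 L v).2 hv
  -- independence on four components
  have hsep : ∀ (L : Subgroup S), Good ρ F A L → L ≠ K → L ≠ K1 → L ≠ K2 → ∀ a b' c d : E,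
      a ∈ FF ρ F K → b' ∈ FF ρ F K1 → c ∈ FF ρ F K2 → d ∈ FF ρ F L → a + b' + c + d = 0 →
      a = 0 ∧ b' = 0 ∧ c = 0 ∧ d = 0 := by
    intro L hL h0 h1 h2 a b' c d ha hb' hc hd hsum
    have hinj : Function.Injective ![K, K1, K2, L] := by
      intro i j
      fin_cases i <;> fin_cases j <;>
        simp [Ne.symm hbK, Ne.symm hne2, Ne.symm hne1, hbK, hne2, hne1, h0, h1, h2, Ne.symm h0, Ne.symm h1, Ne.symm h2]
    have := C.indep ![K, K1, K2, L] hinj (fun i => by fin_cases i <;> assumption) ![a, b', c, d]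
      (fun i => by fin_cases i <;> assumption) (by simpa [Fin.sum_univ_four, add_assoc] using hsum)
    exact ⟨this 0, this 1, this 2, this 3⟩
  have hsep3 : ∀ a b' c : E,
      a ∈ FF ρ F K → b' ∈ FF ρ F K1 → c ∈ FF ρ F K2 → a + b' + c = 0 → a = 0 ∧ b' = 0 ∧ c = 0 := by
    intro a b' c ha hb' hc hsum
    have hinj : Function.Injective ![K, K1, K2] := by
      intro i j
      fin_cases i <;> fin_cases j <;> simp [Ne.symm hbK, Ne.symm hne2, Ne.symm hne1, hbK, hne2, hne1]
    have := C.indep ![K, K1, K2] hinj (fun i => by fin_cases i <;> assumption) ![a, b', c]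
      (fun i => by fin_cases i <;> assumption) (by simpa [Fin.sum_univ_three] using hsum)
    exact ⟨this 0, this 1, this 2⟩
  obtain ⟨x, hx, hx0⟩ := Submodule.exists_mem_ne_zero_of_ne_bot hK.2.1
  have hbx := hmap K x hx
  have hbx0 : ρ b x ≠ 0 := fun h => hx0 (rho_inj ρ b (h.trans (map_zero _).symm))
  have hb2 := hmap K1 _ hbx
  have hline : ∀ v ∈ FF ρ F K, ∃ c : ZMod 3, v = c • x := by
    intro v hv
    by_contra hno
    simp only [not_exists] at hno
    refine C.no_three ![x, v, ρ b x] (fun i => by fin_cases i <;> first | exact hx.1 | exact hv.1 | exact hbx.1)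
      fun g hg => ?_
    simp only [Fin.sum_univ_three, Matrix.cons_val_zero, Matrix.cons_val_one, Matrix.cons_val_two,
      Matrix.tail_cons, Matrix.head_cons, smul_sub] at hg
    obtain ⟨e1, e2, e3⟩ := hsep3 (-(g 0 • x + g 1 • v)) (g 0 • ρ b x + g 1 • ρ b v - g 2 • ρ b x)
      (g 2 • ρ b (ρ b x))
      (Submodule.neg_mem _ (Submodule.add_mem _ (Submodule.smul_mem _ _ hx) (Submodule.smul_mem _ _ hv)))
      (Submodule.sub_mem _ (Submodule.add_mem _ (Submodule.smul_mem _ _ hbx) (Submodule.smul_mem _ _ (hmap K v hv)))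
        (Submodule.smul_mem _ _ hbx))
      (Submodule.smul_mem _ _ hb2) (by rw [← hg]; abel)
    have hg1 : g 1 = 0 := by
      by_contra h
      refine hno (-((g 1)⁻¹ * g 0)) ?_
      have h' : g 1 • v = -(g 0 • x) := eq_neg_of_add_eq_zero_right (neg_eq_zero.1 e1)
      calc v = (g 1)⁻¹ • g 1 • v := by rw [smul_smul, inv_mul_cancel₀ h, one_smul]
        _ = _ := by rw [h', smul_neg, smul_smul, neg_smul]
    have hg0 : g 0 = 0 := by
      rw [hg1, zero_smul, add_zero, neg_eq_zero] at e1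
      exact (smul_eq_zero.1 e1).resolve_right hx0
    have hg2 : g 2 = 0 :=
      (smul_eq_zero.1 e3).resolve_right fun h => hbx0 (rho_inj ρ b (h.trans (map_zero _).symm))
    intro i
    fin_cases i <;> assumption
  have htriv : ∀ L, Good ρ F A L → L ≠ K → L ≠ K1 → L ≠ K2 → ∀ v ∈ FF ρ F L, ρ b v = v := by
    intro L hL h0 h1 h2
    have hL' : Good ρ F A (cj b L) := C.good_map C.hbR.1 hL
    intro v hv
    by_contra hv0
    refine C.no_three ![x, ρ b x, v] (fun i => by fin_cases i <;> first | exact hx.1 | exact hbx.1 | exact hv.1)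
      fun g hg => ?_
    simp only [Fin.sum_univ_three, Matrix.cons_val_zero, Matrix.cons_val_one, Matrix.cons_val_two,
      Matrix.tail_cons, Matrix.head_cons, smul_sub] at hg
    by_cases hbL : cj b L = L
    · obtain ⟨e1, e2, e3, e4⟩ := hsep L hL h0 h1 h2 (-(g 0 • x)) (g 0 • ρ b x - g 1 • ρ b x)
        (g 1 • ρ b (ρ b x)) (g 2 • ρ b v - g 2 • v)
        (Submodule.neg_mem _ (Submodule.smul_mem _ _ hx))
        (Submodule.sub_mem _ (Submodule.smul_mem _ _ hbx) (Submodule.smul_mem _ _ hbx))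
        (Submodule.smul_mem _ _ hb2)
        (Submodule.sub_mem _ (Submodule.smul_mem _ _ (hbL ▸ hmap L v hv)) (Submodule.smul_mem _ _ hv))
        (by rw [← hg]; abel)
      intro i
      fin_cases i
      · exact (smul_eq_zero.1 (neg_eq_zero.1 e1)).resolve_right hx0
      · exact (smul_eq_zero.1 e3).resolve_right fun h => hbx0 (rho_inj ρ b (h.trans (map_zero _).symm))
      · rw [← smul_sub] at e4
        exact (smul_eq_zero.1 e4).resolve_right fun h => hv0 (sub_eq_zero.1 h)
    · have hv' : v ≠ 0 := fun h => hv0 (by rw [h, map_zero])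
      have hne : cj b L ≠ K ∧ cj b L ≠ K1 ∧ cj b L ≠ K2 := by
        have hbinj : Function.Injective (cj b) := fun U V h => by
          have := congrArg (cj b⁻¹) h
          rwa [← cj_mul, ← cj_mul, inv_mul_cancel, cj_one, cj_one] at this
        exact ⟨fun h => h2 (hbinj (h.trans h3.symm)), fun h => h0 (hbinj h), fun h => h1 (hbinj h)⟩
      have hinj : Function.Injective ![K, K1, K2, L, cj b L] := by
        intro i j
        fin_cases i <;> fin_cases j <;>
          simp [Ne.symm hbK, Ne.symm hne2, Ne.symm hne1, hbK, hne2, hne1, h0, h1, h2, Ne.symm h0, Ne.symm h1,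
            Ne.symm h2, hne.1, hne.2.1, hne.2.2, Ne.symm hne.1, Ne.symm hne.2.1, Ne.symm hne.2.2, hbL, Ne.symm hbL]
      have e := C.indep ![K, K1, K2, L, cj b L] hinj (fun i => by fin_cases i <;> assumption)
        ![-(g 0 • x), g 0 • ρ b x - g 1 • ρ b x, g 1 • ρ b (ρ b x), -(g 2 • v), g 2 • ρ b v]
        (fun i => by
          fin_cases i
          · exact Submodule.neg_mem _ (Submodule.smul_mem _ _ hx)
          · exact Submodule.sub_mem _ (Submodule.smul_mem _ _ hbx) (Submodule.smul_mem _ _ hbx)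
          · exact Submodule.smul_mem _ _ hb2
          · exact Submodule.neg_mem _ (Submodule.smul_mem _ _ hv)
          · exact Submodule.smul_mem _ _ (hmap L v hv))
        (by
          rw [← hg, Fin.sum_univ_five]
          simp only [Matrix.cons_val]
          abel)
      intro i
      fin_cases i
      · exact (smul_eq_zero.1 (neg_eq_zero.1 (e 0))).resolve_right hx0
      · exact (smul_eq_zero.1 (e 2)).resolve_right fun h => hbx0 (rho_inj ρ b (h.trans (map_zero _).symm))
      · exact (smul_eq_zero.1 (neg_eq_zero.1 (e 3))).resolve_right hv'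
  have hr2 : r = 2 := by
    obtain ⟨a, ha, haK⟩ : ∃ a ∈ A, a ∉ K := SetLike.not_le_iff_exists.1 fun h =>
      hbK ((hK.2.2 K1 (hK1g.1.trans h |> fun hle => (Subgroup.eq_of_le_of_card_ge hle (by
        rw [hK1, cj, Subgroup.card_map_of_injective (MulAut.conj b).injective])).ge) hK1g.1 hK1g.2.1))
    obtain ⟨c, hc⟩ := hline _ (C.invA ha hK.1 hx)
    have hc2 : c = -1 := by
      have : ∀ c : ZMod 3, c = 0 ∨ c = 1 ∨ c = -1 := by decide
      rcases this c with h | h | h
      · rw [h, zero_smul] at hc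
        exact absurd (rho_inj ρ a (hc.trans (map_zero _).symm)) hx0
      · rw [h, one_smul] at hc
        exact absurd (C.fpf hK ha haK hx hc) hx0
      · exact h
    have h2 : ρ (a ^ 2) x = x := by
      rw [pow_two, rho_mul, hc, hc2, neg_one_smul, map_neg, hc, hc2, neg_one_smul, neg_neg]
    exact (Nat.prime_dvd_prime_iff_eq C.rp Nat.prime_two).1 (C.pow_fix hK ha haK hx hx0 h2)
  refine ⟨hr2, fun L hL => ?_, fun L hL h0 h1 h2 => ⟨?_, htriv L hL h0 h1 h2⟩⟩
  · obtain ⟨g, hg, rfl⟩ := C.transitive hK hL (stab ρ F A) le_rfl C.hbR.1 C.hbR.2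
    refine ⟨ρ g x, fun h => hx0 (rho_inj ρ g (h.trans (map_zero _).symm)), fun v hv => ?_⟩
    have : ρ g⁻¹ v ∈ FF ρ F K := by
      rw [← mem_FF_map hg.2 K, rho_cancel']
      exact hv
    obtain ⟨c, hc⟩ := hline _ this
    exact ⟨c, by rw [← map_smul, ← hc, rho_cancel']⟩
  · obtain ⟨v, hv, hv0⟩ := Submodule.exists_mem_ne_zero_of_ne_bot hL.2.1
    by_contra hbL
    have := C.indep ![L, cj b L] (by
      intro i j
      fin_cases i <;> fin_cases j <;> simp [hbL, Ne.symm hbL])
      (fun i => by fin_cases i <;> first | exact hL | exact C.good_map C.hbR.1 hL) ![v, -(ρ b v)]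
      (fun i => by fin_cases i <;> first | exact hv | exact Submodule.neg_mem _ (hmap L v hv))
      (by simp [htriv L hL h0 h1 h2 v hv])
    exact hv0 (this 0)

end Cfsg.Agent.Solv.ThreeBlock
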