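import Mathlib.GroupTheory.Perm.Sign
import Mathlib.GroupTheory.Perm.Fin
import Mathlib.GroupTheory.Solvable
import Mathlib.GroupTheory.GroupAction.Basic
import Mathlib.GroupTheory.Coset.Card
import Mathlib.GroupTheory.Commutator.Basic

/-!
# A transitive solvable group of order prime to three normalized by a three-cycle
-/

set_option autoImplicit false

namespace Cfsg.Agent.Solv.ThreeBlock

open Equiv

variable {X : Type*}

/-- The derived series of a subgroup, in the group. -/
def dser {G : Type*} [Group G] (N : Subgroup G) : ℕ → Subgroup G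
  | 0 => N
  | k + 1 => ⁅dser N k, dser N k⁆

/-- The last nontrivial derived term of a solvable subgroup. -/
theorem exists_abelian_invariant {G : Type*} [Group G] (N : Subgroup G) (hN : Group.IsSolvable N) (hne : N ≠ ⊥) :
    ∃ M : Subgroup G, M ≤ N ∧ M ≠ ⊥ ∧ (∀ x ∈ M, ∀ y ∈ M, x * y = y * x) ∧
      ∀ g : G, N.map (MulAut.conj g).toMonoidHom = N → ∀ x ∈ M, g * x * g⁻¹ ∈ M := by
  classical
  have hD : ∀ k, (derivedSeries N k).map N.subtype = (dser N) k := by
    intro k
    induction k with
    | zero => rw [derivedSeries_zero, ← MonoidHom.range_eq_map, Subgroup.range_subtype, dser]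
    | succ k ih => rw [derivedSeries_succ, Subgroup.map_commutator, ih, dser]
  have hex : ∃ k, (dser N) k = ⊥ := by
    obtain ⟨k, hk⟩ := hN.solvable
    exact ⟨k, by rw [← hD, hk, Subgroup.map_bot]⟩
  have h0 : Nat.find hex ≠ 0 := fun h => hne (by have := Nat.find_spec hex; rwa [h, dser] at this)
  obtain ⟨k, hk⟩ := Nat.exists_eq_succ_of_ne_zero h0
  refine ⟨(dser N) k, ?_, Nat.find_min hex (by omega), ?_, ?_⟩
  · rw [← hD]; exact Subgroup.map_subtype_le _
  · intro x hx y hy
    have := Nat.find_spec hex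
    rw [hk, dser] at this
    have h := Subgroup.commutator_mem_commutator hx hy
    rw [show ⁅(dser N) k, (dser N) k⁆ = ⊥ from this, Subgroup.mem_bot, commutatorElement_eq_one_iff_mul_comm] at h
    exact h
  · intro g hg
    have key : ∀ j, ((dser N) j).map (MulAut.conj g).toMonoidHom = (dser N) j := by
      intro j
      induction j with
      | zero => exact hg
      | succ j ih =>
        show (⁅(dser N) j, (dser N) j⁆).map _ = ⁅(dser N) j, (dser N) j⁆
        rw [Subgroup.map_commutator, ih]
    intro x hx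
    rw [← key k]
    exact ⟨x, hx, rfl⟩

/-- The orbit relation of a subgroup of permutations. -/
def Rel (N : Subgroup (Perm X)) (x y : X) : Prop := ∃ n ∈ N, n x = y

theorem Rel.symm {N : Subgroup (Perm X)} {x y : X} (h : Rel N x y) : Rel N y x := by
  obtain ⟨n, hn, rfl⟩ := h
  exact ⟨n⁻¹, inv_mem hn, by simp⟩

theorem Rel.trans {N : Subgroup (Perm X)} {x y z : X} (h : Rel N x y) (h' : Rel N y z) : Rel N x z := by
  obtain ⟨n, hn, rfl⟩ := h
  obtain ⟨m, hm, rfl⟩ := h'
  exact ⟨m * n, mul_mem hm hn, rfl⟩

theorem Rel.conj {N : Subgroup (Perm X)} {g : Perm X} (hg : ∀ n ∈ N, g * n * g⁻¹ ∈ N) {x y : X}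
    (h : Rel N x y) : Rel N (g x) (g y) := by
  obtain ⟨n, hn, rfl⟩ := h
  exact ⟨g * n * g⁻¹, hg n hn, by simp⟩

/-- If a three-cycle `β` normalizes a transitive solvable group `N = [N, β]` of order prime to three
on more than three points then there are four points. -/
theorem card_four [Fintype X] [DecidableEq X] (N : Subgroup (Perm X)) (hsol : Group.IsSolvable N)
    (hcop : (Nat.card N).Coprime 3) (htr : ∀ x y : X, Rel N x y) (β : Perm X) (a : X)
    (h1 : β a ≠ a) (h3 : β (β (β a)) = a) (h2 : β (β a) ≠ a)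
    (hmove : ∀ x, β x ≠ x → x = a ∨ x = β a ∨ x = β (β a))
    (hnorm : ∀ n ∈ N, β * n * β⁻¹ ∈ N) (hgen : ∀ M : Subgroup (Perm X), (∀ n ∈ N, n * β * n⁻¹ * β⁻¹ ∈ M) → N ≤ M)
    (h4 : 3 < Fintype.card X) : Fintype.card X = 4 := by
  classical
  have hNne : N ≠ ⊥ := by
    intro h
    obtain ⟨n, hn, hna⟩ := htr a (β a)
    rw [h, Subgroup.mem_bot] at hn
    rw [hn] at hna
    exact h1 hna.symm
  obtain ⟨M, hMN, hMne, hMc, hMinv⟩ := exists_abelian_invariant N hsol hNne
  have hMβ : ∀ n ∈ M, β * n * β⁻¹ ∈ M := hMinv β (by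
    refine Subgroup.eq_of_le_of_card_ge ?_ ?_
    · rintro _ ⟨n, hn, rfl⟩; exact hnorm n hn
    · rw [Subgroup.card_map_of_injective (MulAut.conj β).injective])
  have hMN' : ∀ g ∈ N, ∀ n ∈ M, g * n * g⁻¹ ∈ M := fun g hg => hMinv g (by
    refine Subgroup.eq_of_le_of_card_ge ?_ ?_
    · rintro _ ⟨n, hn, rfl⟩; exact mul_mem (mul_mem hg hn) (inv_mem hg)
    · rw [Subgroup.card_map_of_injective (MulAut.conj g).injective])
  -- the cycle fixes every orbit of the abelian subgroup
  have hfixorb : ∀ x, Rel M x (β x) := by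
    intro x
    by_contra hx
    have hsingle : ∀ y, Rel M x y → y = x := by
      intro y hy
      have hby : β y ≠ y := fun h => hx (hy.trans (by
        have := hy.symm.conj hMβ
        rwa [h] at this))
      have hbx : β x ≠ x := fun h => hx ⟨1, one_mem M, by simp [h]⟩
      have hb3 : ∀ z, β z ≠ z → β (β (β z)) = z := by
        intro z hz
        rcases hmove z hz with rfl | rfl | rfl
        · exact h3
        · rw [h3]
        · rw [h3]
      -- `y` is one of the points `x`, `β x`, `β (β x)`
      have hyin : y = x ∨ y = β x ∨ y = β (β x) := by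
        rcases hmove x hbx with rfl | rfl | rfl <;> rcases hmove y hby with rfl | rfl | rfl <;>
          simp [h3]
      rcases hyin with rfl | rfl | rfl
      · rfl
      · exact absurd hy hx
      · have := hy.conj hMβ
        rw [hb3 x hbx] at this
        exact absurd this.symm hx
    refine hMne ((Subgroup.eq_bot_iff_forall M).2 fun n hn => ?_)
    ext z
    obtain ⟨g, hg, rfl⟩ := htr x z
    have := hsingle ((g⁻¹ * n * g) x) ⟨g⁻¹ * n * g, by
      have := hMN' g⁻¹ (inv_mem hg) n hn
      rwa [inv_inv] at this, rfl⟩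
    calc n (g x) = g ((g⁻¹ * n * g) x) := by simp
      _ = g x := by rw [this]
      _ = (1 : Perm X) (g x) := rfl
  -- hence the abelian subgroup is transitive
  let St : Subgroup (Perm X) :=
    { carrier := {g | ∀ x, Rel M x (g x)}
      one_mem' := fun x => ⟨1, one_mem M, rfl⟩
      mul_mem' := fun {g h} hg hh x => (hh x).trans (hg (h x))
      inv_mem' := fun {g} hg x => by
        have := (hg (g⁻¹ x)).symm
        simpa using this }
  have hNSt : N ≤ St := hgen St fun n hn x => by
    have hc : ∀ g, g ∈ N → ∀ z, Rel M z ((g * β * g⁻¹) z) := by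
      intro g hg z
      have := (hfixorb (g⁻¹ z)).conj (hMN' g hg)
      simpa using this
    exact Rel.trans (show Rel M x (β⁻¹ x) from St.inv_mem (show β ∈ St from hfixorb) x) (hc n hn _)
  have hMtr : ∀ x y : X, Rel M x y := fun x y => by
    obtain ⟨n, hn, rfl⟩ := htr x y
    exact hNSt hn x
  -- so it is regular
  obtain ⟨x0, hx0⟩ : ∃ x0, β x0 = x0 := by
    by_contra hno
    simp only [not_exists] at hno
    have : (Finset.univ : Finset X) ⊆ {a, β a, β (β a)} := fun x _ => by
      rcases hmove x (hno x) with rfl | rfl | rfl <;> simp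
    have := (Finset.card_le_card this).trans Finset.card_le_three
    rw [Finset.card_univ] at this
    omega
  have hinj : ∀ n ∈ M, n x0 = x0 → n = 1 := by
    intro n hn h
    ext z
    obtain ⟨m, hm, rfl⟩ := hMtr x0 z
    calc n (m x0) = (n * m) x0 := rfl
      _ = (m * n) x0 := by rw [hMc n hn m hm]
      _ = m x0 := by rw [Perm.mul_apply, h]
  have hbij : Function.Bijective (fun n : ↥M => (n : Perm X) x0) := by
    refine ⟨fun n m h => ?_, fun z => ?_⟩
    · have : ((m : Perm X)⁻¹ * n) x0 = x0 := by
        simp only at h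
        rw [Perm.mul_apply, h]; simp
      exact Subtype.ext (eq_of_inv_mul_eq_one (hinj _ (mul_mem (inv_mem m.2) n.2) this)).symm
    · obtain ⟨m, hm, h⟩ := hMtr x0 z
      exact ⟨⟨m, hm⟩, h⟩
  have hcardM : Nat.card M = Fintype.card X := by
    rw [Nat.card_eq_of_bijective _ hbij, Nat.card_eq_fintype_card]
  set Cβ : Subgroup (Perm X) := M ⊓ Subgroup.centralizer {β} with hCβ
  have hfix : Nat.card Cβ = Fintype.card X - 3 := by
    have e : Nat.card Cβ = Nat.card {x : X // β x = x} := by
      refine Nat.card_eq_of_bijective (fun n => ⟨(n : Perm X) x0, ?_⟩) ⟨fun n m h => ?_, fun z => ?_⟩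
      · have := Subgroup.mem_centralizer_singleton_iff.1 n.2.2
        calc β ((n : Perm X) x0) = (β * n) x0 := rfl
          _ = ((n : Perm X) * β) x0 := by rw [this]
          _ = _ := by rw [Perm.mul_apply, hx0]
      · have := @hbij.1 ⟨n, n.2.1⟩ ⟨m, m.2.1⟩ (congrArg Subtype.val h)
        exact Subtype.ext (congrArg (fun k : ↥M => (k : Perm X)) this)
      · obtain ⟨⟨m, hm⟩, hmz⟩ := hbij.2 z.1
        have hm2 : β * m * β⁻¹ = m := by
          refine congrArg Subtype.val (@hbij.1 ⟨_, hMβ m hm⟩ ⟨m, hm⟩ ?_)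
          simp only at hmz ⊢
          rw [Perm.mul_apply, Perm.mul_apply, show β⁻¹ x0 = x0 by
            rw [Perm.inv_eq_iff_eq]; exact hx0.symm, hmz]
          exact z.2
        exact ⟨⟨m, hm, Subgroup.mem_centralizer_singleton_iff.2 (mul_inv_eq_iff_eq_mul.1 hm2).symm⟩,
          Subtype.ext hmz⟩
    rw [e, Nat.card_eq_fintype_card, Fintype.card_subtype]
    have hsplit : (Finset.univ.filter fun x => β x = x) = Finset.univ \ {a, β a, β (β a)} := by
      ext x
      simp only [Finset.mem_filter, Finset.mem_univ, true_and, Finset.mem_sdiff, Finset.mem_insert,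
        Finset.mem_singleton]
      constructor
      · intro hx
        rintro (rfl | rfl | rfl)
        · exact h1 hx
        · exact h1 (β.injective hx)
        · exact h1 (β.injective (β.injective hx))
      · intro hx
        by_contra h
        exact hx (hmove x h)
    have hthree : ({a, β a, β (β a)} : Finset X).card = 3 := by
      rw [Finset.card_insert_of_notMem (by simp [Ne.symm h1, Ne.symm h2]),
        Finset.card_insert_of_notMem (by simpa using fun h => h1 (β.injective h).symm), Finset.card_singleton]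
    rw [hsplit, Finset.card_sdiff_of_subset (Finset.subset_univ _), Finset.card_univ, hthree]
  have hdvd : Nat.card Cβ ∣ Nat.card M := Subgroup.card_dvd_of_le inf_le_left
  rw [hcardM, hfix] at hdvd
  have h3' : ¬ 3 ∣ Fintype.card X := by
    rw [← hcardM]
    intro h
    exact (Nat.prime_three.coprime_iff_not_dvd.1 hcop.symm) (h.trans (Subgroup.card_dvd_of_le hMN))
  obtain ⟨k, hk⟩ : ∃ k, Fintype.card X = k + 3 := ⟨Fintype.card X - 3, by omega⟩
  rw [hk, Nat.add_sub_cancel, Nat.dvd_add_right dvd_rfl] at hdvd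
  rcases (Nat.dvd_prime Nat.prime_three).1 hdvd with rfl | rfl
  · exact hk
  · exact absurd (by rw [hk]; decide) h3'

/-- An even fixed-point-free permutation of four points is an involution. -/
theorem sq_four [Fintype X] [DecidableEq X] (h4 : Fintype.card X = 4) (σ : Perm X) (hs : Perm.sign σ = 1)
    (hf : ∀ x, σ x ≠ x) : ∀ x, σ (σ x) = x := by
  have key : ∀ τ : Perm (Fin 4), Perm.sign τ = 1 → (∀ i, τ i ≠ i) → ∀ i, τ (τ i) = i := by decide
  set e := Fintype.equivFinOfCardEq h4
  intro x
  have h1 : Perm.sign (e.permCongr σ) = 1 := by rw [Equiv.Perm.sign_permCongr, hs]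
  have h2 : ∀ i, e.permCongr σ i ≠ i := fun i h => hf (e.symm i) (by
    apply e.injective
    simpa [Equiv.permCongr_apply] using h)
  have := key _ h1 h2 (e x)
  simpa [Equiv.permCongr_apply] using this

end Cfsg.Agent.Solv.ThreeBlock
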