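import Cfsg.Agent.Lib.Solv.ThreeBlock.Radical
import Mathlib.LinearAlgebra.Determinant
import Mathlib.LinearAlgebra.FreeModule.Finite.Matrix
import Mathlib.GroupTheory.Coset.Card

/-!
# The dimension and the order of the radical
-/

set_option autoImplicit false

namespace Cfsg.Agent.Solv.ThreeBlock

open scoped commutatorElement

variable {S : Type*} [Group S] [Finite S] {E : Type*} [AddCommGroup E] [Module (ZMod 3) E] [Finite E]
variable {ρ : Representation (ZMod 3) S E} {b : S} {R Q : Subgroup S} {F : Submodule (ZMod 3) E}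
  {L : Subgroup S} {z : S}

omit [Finite S] [Finite E] in
theorem LData.comm_right (D : LData ρ b R F L z) {x y w : S} (hx : x ∈ L) (hy : y ∈ L) (hw : w ∈ L) :
    ⁅x, y * w⁆ = ⁅x, y⁆ * ⁅x, w⁆ := by
  have e : ⁅x, y * w⁆ = ⁅x, y⁆ * (y * ⁅x, w⁆ * y⁻¹) := by
    simp only [commutatorElement_def]; group
  rw [e]
  rcases D.comm x hx w hw with h | h <;> rw [h]
  · group
  · rw [D.zR y (D.LR hy), mul_inv_cancel_right]

omit [Finite S] [Finite E] in
theorem LData.comm_self (D : LData ρ b R F L z) {x y : S} (hx : x ∈ L) (hy : y ∈ L) :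
    ⁅x, y⁆ * ⁅x, y⁆ = 1 ∧ ⁅y, x⁆ = ⁅x, y⁆ := by
  have h : ⁅x, y⁆ * ⁅x, y⁆ = 1 := by
    rcases D.comm x hx y hy with h | h <;> rw [h]
    · exact one_mul 1
    · rw [← pow_two, D.sqz]
  exact ⟨h, by rw [← commutatorElement_inv]; exact inv_eq_of_mul_eq_one_right h⟩

omit [Finite S] [Finite E] in
theorem LData.comm_left (D : LData ρ b R F L z) {x y w : S} (hx : x ∈ L) (hy : y ∈ L) (hw : w ∈ L) :
    ⁅y * w, x⁆ = ⁅y, x⁆ * ⁅w, x⁆ := by
  rw [(D.comm_self hx (mul_mem hy hw)).2, (D.comm_self hx hy).2, (D.comm_self hx hw).2, D.comm_right hx hy hw]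

omit [Finite S] [Finite E] in
theorem LData.z_not_one (D : LData ρ b R F L z) {e x : S} (he : e = 1 ∨ e = z) (h : b * x * b⁻¹ = x * e)
    (hb3 : b ^ 3 = 1) : b * x * b⁻¹ = x := by
  rcases he with rfl | rfl
  · rwa [mul_one] at h
  exfalso
  have e1 : ∀ y, b * (y * e) * b⁻¹ = (b * y * b⁻¹) * e := fun y => by
    have hbz : b * e * b⁻¹ = e := mul_inv_eq_iff_eq_mul.2 D.zb
    conv_rhs => rw [← hbz]
    group
  have h3 : b * (b * (b * x * b⁻¹) * b⁻¹) * b⁻¹ = x := by rw [conj_three, hb3, one_mul, inv_one, mul_one]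
  rw [h, e1, h, e1, e1, h] at h3
  rw [mul_assoc x e e, ← pow_two, D.sqz, mul_one] at h3
  exact D.z1 (mul_left_cancel (h3.trans (mul_one x).symm))

variable (C : BCtx ρ b R Q F) (D : LData ρ b R F L z)
include C D

omit [Finite E] in
/-- Some commutator with `b` squares to the central involution. -/
theorem BCtx.exists_c : ∃ l ∈ L, ⁅b, l⁆ ^ 2 = z := by
  by_contra hno
  simp only [not_exists, not_and] at hno
  have hcL : ∀ l ∈ L, ⁅b, l⁆ ∈ L := fun l hl => by
    rw [commutatorElement_def]; exact mul_mem (D.Linv.2 l hl) (inv_mem hl)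
  have hsq : ∀ l ∈ L, ⁅b, l⁆ * ⁅b, l⁆ = 1 := fun l hl => by
    rw [← pow_two]; exact (D.sq _ (hcL l hl)).resolve_right (hno l hl)
  have hcc : ∀ l ∈ L, ∀ m ∈ L, ⁅⁅b, l⁆, ⁅b, m⁆⁆ = 1 := by
    intro l hl m hm
    set c := ⁅b, l⁆ with hc
    set d := ⁅b, m⁆ with hd
    obtain ⟨e, he, hlm⟩ : ∃ e, (e = 1 ∨ e = z) ∧ ⁅b, l * m⁆ = c * d * e := by
      refine ⟨⁅d⁻¹, l⁆, D.comm _ (inv_mem (hcL m hm)) l hl, ?_⟩
      rw [hc, hd]; simp only [commutatorElement_def]; group
    have h := hsq _ (mul_mem hl hm)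
    rw [hlm] at h
    have hec : e * (c * d) = c * d * e := by
      rcases he with rfl | rfl
      · simp
      · exact (D.zR _ (D.LR (mul_mem (hcL l hl) (hcL m hm)))).symm
    have hee : e * e = 1 := by
      rcases he with rfl | rfl
      · simp
      · rw [← pow_two, D.sqz]
    have hcd : (c * d) * (c * d) = 1 := by
      calc (c * d) * (c * d) = (c * d) * (c * d) * (e * e) := by rw [hee, mul_one]
        _ = (c * d) * ((c * d) * e) * e := by group
        _ = (c * d) * (e * (c * d)) * e := by rw [hec]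
        _ = c * d * e * (c * d * e) := by group
        _ = 1 := h
    rw [commutatorElement_def, inv_eq_of_mul_eq_one_right (hsq l hl), inv_eq_of_mul_eq_one_right (hsq m hm)]
    calc c * d * c * d = (c * d) * (c * d) := by group
      _ = 1 := hcd
  have hcen : ∀ l ∈ L, ∀ m ∈ L, ⁅b, l⁆ * m = m * ⁅b, l⁆ := by
    intro l hl m hm
    set c := ⁅b, l⁆ with hc
    have hcl := hcL l hl
    set m1 := b * m * b⁻¹ with hm1
    set m2 := b * m1 * b⁻¹ with hm2
    have h1 : m1 ∈ L := D.Linv.2 m hm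
    have h2 : m2 ∈ L := D.Linv.2 m1 h1
    set f := m * m1 * m2 with hf
    have hfL : f ∈ L := mul_mem (mul_mem hm h1) h2
    have hbf : b * f * b⁻¹ = f := by
      refine D.z_not_one (D.comm (m1 * m2)⁻¹ (inv_mem (mul_mem h1 h2)) m⁻¹ (inv_mem hm)) ?_ C.hb3
      have h3 : b * m2 * b⁻¹ = m := by rw [hm2, hm1, conj_three, C.hb3, one_mul, inv_one, mul_one]
      calc b * f * b⁻¹ = (b * m * b⁻¹) * (b * m1 * b⁻¹) * (b * m2 * b⁻¹) := by rw [hf]; group
        _ = m1 * m2 * m := by rw [h3]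
        _ = f * ⁅(m1 * m2)⁻¹, m⁻¹⁆ := by rw [hf, commutatorElement_def]; group
    have hcf : ⁅c, f⁆ = 1 := by
      rw [hc, show (⁅b, l⁆ : S) = (b * l * b⁻¹) * l⁻¹ from commutatorElement_def _ _,
        D.comm_left hfL (D.Linv.2 l hl) (inv_mem hl)]
      have e1 : ⁅b * l * b⁻¹, f⁆ = ⁅l, f⁆ := by
        conv_lhs => rw [← hbf]
        rw [show ⁅b * l * b⁻¹, b * f * b⁻¹⁆ = b * ⁅l, f⁆ * b⁻¹ by simp only [commutatorElement_def]; group]
        rcases D.comm l hl f hfL with h | h <;> rw [h]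
        · group
        · exact mul_inv_eq_iff_eq_mul.2 D.zb
      have e2 : ⁅l⁻¹, f⁆ = ⁅l, f⁆ := by
        have h : ⁅l⁻¹ * l, f⁆ = ⁅l⁻¹, f⁆ * ⁅l, f⁆ := D.comm_left hfL (inv_mem hl) hl
        rw [inv_mul_cancel, commutatorElement_one_left] at h
        rw [eq_inv_of_mul_eq_one_left h.symm]
        exact inv_eq_of_mul_eq_one_right (D.comm_self hl hfL).1
      rw [e1, e2, (D.comm_self hl hfL).1]
    have hd := hcc l hl m1 h1
    rw [← hc, show (⁅b, m1⁆ : S) = m2 * m1⁻¹ from commutatorElement_def _ _, D.comm_right hcl h2 (inv_mem h1)] at hd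
    have hinv : ⁅c, m1⁻¹⁆ = ⁅c, m1⁆ := by
      have h : ⁅c, m1⁻¹ * m1⁆ = ⁅c, m1⁻¹⁆ * ⁅c, m1⁆ := D.comm_right hcl (inv_mem h1) h1
      rw [inv_mul_cancel, commutatorElement_one_right] at h
      rw [eq_inv_of_mul_eq_one_left h.symm]
      exact inv_eq_of_mul_eq_one_right (D.comm_self hcl h1).1
    rw [hinv] at hd
    have e12 : ⁅c, m1 * m2⁆ = 1 := by
      rw [D.comm_right hcl h1 h2, eq_inv_of_mul_eq_one_left hd, mul_inv_cancel]
    rw [hf, mul_assoc, D.comm_right hcl hm (mul_mem h1 h2), e12, mul_one] at hcf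
    exact commutatorElement_eq_one_iff_mul_comm.1 hcf
  have hfix : ∀ l ∈ L, b * l * b⁻¹ = l := fun l hl => by
    have h := D.cent _ (hcL l hl) (hcen l hl)
    have e : b * l * b⁻¹ = ⁅b, l⁆ * l := by rw [commutatorElement_def]; group
    refine D.z_not_one h ?_ C.hb3
    rw [e]
    rcases h with h | h <;> rw [h]
    · simp
    · exact (D.zR l (D.LR hl)).symm
  have hRC : R ≤ R ⊓ Subgroup.centralizer (L : Set S) := by
    refine C.gen _ fun g hg => ⟨?_, Subgroup.mem_centralizer_iff.2 fun l hl => ?_⟩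
    · rw [show g * b * g⁻¹ * b⁻¹ = g * (b * g⁻¹ * b⁻¹) by group]
      exact mul_mem hg (C.bR _ (inv_mem hg))
    · have h1 := D.Linv.1 g⁻¹ (inv_mem hg) l hl
      rw [inv_inv] at h1
      have hb' : b⁻¹ * l * b = l := by
        conv_rhs => rw [← show b⁻¹ * (b * l * b⁻¹) * b = l by group]
        rw [hfix l hl]
      refine (mul_inv_eq_iff_eq_mul.1 ?_).symm
      calc g * b * g⁻¹ * b⁻¹ * l * (g * b * g⁻¹ * b⁻¹)⁻¹ = g * (b * (g⁻¹ * (b⁻¹ * l * b) * g) * b⁻¹) * g⁻¹ := by group
        _ = l := by rw [hb', hfix _ h1]; group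
  obtain ⟨q, hq, hbq⟩ := C.bmove
  refine hbq (mul_inv_eq_iff_eq_mul.1 (hfix q (D.CL q (C.QR hq) fun l hl => ?_)))
  exact (Subgroup.mem_centralizer_iff.1 (hRC (C.QR hq)).2 l hl).symm

/-- The dimension is four. -/
theorem BCtx.finrank_eq : Module.finrank (ZMod 3) F = 4 := by
  obtain ⟨l, hl, hc⟩ := C.exists_c D
  set c := ⁅b, l⁆ with hcdef
  have hcR : c ∈ R := D.LR (by rw [hcdef, commutatorElement_def]; exact mul_mem (D.Linv.2 l hl) (inv_mem hl))
  have hcz : ∀ v ∈ F, ρ c (ρ c v) = -v := fun v hv => by rw [← rho_mul, ← pow_two, hc, D.zneg v hv]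
  let f : F → F := fun v => ⟨ρ c v - v, F.sub_mem (C.invR c hcR v v.2) v.2⟩
  have hinj : Function.Injective f := by
    intro u v h
    have h1 : ρ c (u : E) - u = ρ c (v : E) - v := congrArg Subtype.val h
    have h2 : ρ c ((u : E) - v) = (u : E) - v := by
      rw [map_sub]; rw [sub_eq_sub_iff_sub_eq_sub] at h1; exact h1
    have h3 := hcz _ (F.sub_mem u.2 v.2)
    rw [h2, h2] at h3
    exact Subtype.ext (sub_eq_zero.1 (eq_zero_of_add_self (eq_neg_iff_add_eq_zero.1 h3)))
  set W := F.map (ρ b - 1) with hW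
  have hle : F ≤ W ⊔ W.map (ρ l) := by
    intro w hw
    obtain ⟨v, hv⟩ := Finite.surjective_of_injective hinj ⟨w, hw⟩
    have hv' : ρ c (v : E) - v = w := congrArg Subtype.val hv
    set u := ρ l⁻¹ (v : E) with hu
    have huF : u ∈ F := C.invR _ (inv_mem (D.LR hl)) v v.2
    set t := ρ b⁻¹ u with ht
    have htF : t ∈ F := C.toCtx.invb' u huF
    have e : w = (ρ b (ρ l t) - ρ l t) + ρ l (t - u) := by
      rw [← hv', hcdef, commutatorElement_def, rho_mul, rho_mul, rho_mul, ← hu, ← ht, map_sub, hu,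
        rho_cancel' ρ l (v : E)]
      abel
    rw [e]
    refine Submodule.add_mem _ (Submodule.mem_sup_left ⟨ρ l t, C.invR l (D.LR hl) t htF, rfl⟩)
      (Submodule.mem_sup_right ⟨t - u, ⟨-t, F.neg_mem htF, ?_⟩, rfl⟩)
    show ρ b (-t) - -t = t - u
    rw [map_neg, ht, rho_cancel' ρ b u]
    abel
  have h4 : Module.finrank (ZMod 3) F ≤ 4 := by
    refine (Submodule.finrank_mono hle).trans ((Submodule.finrank_add_le_finrank_add_finrank _ _).trans ?_)
    have := Submodule.finrank_map_le (ρ l) W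
    have hW2 : Module.finrank (ZMod 3) W ≤ 2 := C.rank
    omega
  have h3 : 3 ≤ Module.finrank (ZMod 3) F := by
    obtain ⟨q, hq, hbq⟩ := C.bmove
    obtain ⟨u, hu, hli⟩ := C.toCtx.exists_block (U := F) C.invb (fun q hq => C.invR q (C.QR hq)) (by
      by_contra h
      simp only [not_exists, not_and, ne_eq, not_not] at h
      exact hbq (by rw [C.faith q (C.QR hq) (h q hq), mul_one, one_mul]))
    have hm : ∀ i, ![u, ρ b u, ρ b (ρ b u)] i ∈ F := by
      intro i
      fin_cases i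
      · exact hu
      · exact C.invb u hu
      · exact C.invb _ (C.invb u hu)
    have hli' : LinearIndependent (ZMod 3) (fun i => (⟨_, hm i⟩ : F)) := LinearIndependent.of_comp F.subtype hli
    have := hli'.fintype_card_le_finrank
    rwa [Fintype.card_fin] at this
  have hne3 : Module.finrank (ZMod 3) F ≠ 3 := by
    intro h
    let g : F →ₗ[ZMod 3] F := (ρ c).restrict (fun v hv => C.invR c hcR v hv)
    have hg : g * g = (-1 : ZMod 3) • (1 : F →ₗ[ZMod 3] F) := by
      refine LinearMap.ext fun v => Subtype.ext ?_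
      show ρ c (ρ c (v : E)) = (-1 : ZMod 3) • (v : E)
      rw [hcz v v.2, neg_one_smul]
    have h' := congrArg LinearMap.det hg
    rw [map_mul, LinearMap.det_smul, map_one, mul_one, h] at h'
    have : ∀ x : ZMod 3, x * x ≠ (-1) ^ 3 := by decide
    exact this _ h'
  omega

/-- The radical has order at most `32`. -/
theorem BCtx.card_le : Nat.card (L ⧸ (Subgroup.zpowers z).subgroupOf L) ≤ 16 := by
  classical
  letI := Fintype.ofFinite L
  letI := Fintype.ofFinite (L ⧸ (Subgroup.zpowers z).subgroupOf L)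
  set Zs := (Subgroup.zpowers z).subgroupOf L with hZs
  let op : L → (F →ₗ[ZMod 3] F) := fun x => (ρ (x : S)).restrict (fun v hv => C.invR _ (D.LR x.2) v hv)
  have hli : LinearIndependent (ZMod 3) (fun x : L ⧸ Zs => op x.out) := by
    rw [Fintype.linearIndependent_iff]
    intro g hg x1
    have hvanish : ∀ v ∈ F, ∀ y : L, ∑ x, g x • ρ ((y * (x.out * x1.out⁻¹) * y⁻¹ : L) : S) v = 0 := by
      intro v hv y
      have hwF : ρ ((x1.out⁻¹ * y⁻¹ : L) : S) v ∈ F := C.invR _ (D.LR (x1.out⁻¹ * y⁻¹ : L).2) v hv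
      have h := congrArg (fun φ : F →ₗ[ZMod 3] F => ρ (y : S) ((φ ⟨_, hwF⟩ : F) : E)) hg
      simp only [LinearMap.zero_apply, Submodule.coe_zero, map_zero, LinearMap.sum_apply, LinearMap.smul_apply,
        Submodule.coe_sum, Submodule.coe_smul, map_sum, map_smul] at h
      refine (Finset.sum_congr rfl fun x _ => ?_).trans h
      show _ = g x • ρ (y : S) (ρ ((x.out : L) : S) (ρ _ v))
      rw [← rho_mul, ← rho_mul, ← Subgroup.coe_mul, ← Subgroup.coe_mul, mul_assoc y]
      congr 3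
      congr 1
      group
    have hoff : ∀ v ∈ F, ∀ x, x ≠ x1 → ∑ y : L, ρ ((y * (x.out * x1.out⁻¹) * y⁻¹ : L) : S) v = 0 := by
      intro v hv x hx
      set u := x.out * x1.out⁻¹ with hu
      obtain ⟨y0, hy0⟩ : ∃ y0 : L, ¬ ((u : S) * y0 = y0 * u) := by
        by_contra h
        simp only [not_exists, not_not] at h
        refine hx ?_
        have hmem : (u : S) ∈ Subgroup.zpowers z := by
          rcases D.cent u u.2 (fun l hl => h ⟨l, hl⟩) with e | e <;> rw [e]
          · exact one_mem _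
          · exact Subgroup.mem_zpowers z
        rw [← QuotientGroup.out_eq' x, ← QuotientGroup.out_eq' x1]
        refine QuotientGroup.eq.2 ?_
        show ((x.out⁻¹ * x1.out : L) : S) ∈ Subgroup.zpowers z
        have e : ((x.out⁻¹ * x1.out : L) : S) = (x.out : S)⁻¹ * (u : S)⁻¹ * x.out := by
          rw [hu, Subgroup.coe_mul, Subgroup.coe_mul, Subgroup.coe_inv, Subgroup.coe_inv]; group
        rw [e, (fun w hw => (Subgroup.mem_zpowers_iff.1 hw).elim fun n hn => by
          rw [← hn]; exact ((show Commute (x.out : S)⁻¹ z from D.zR _ (inv_mem (D.LR x.out.2))).zpow_right n).eq :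
          ∀ w ∈ Subgroup.zpowers z, (x.out : S)⁻¹ * w = w * (x.out : S)⁻¹) _ (inv_mem hmem), inv_mul_cancel_right]
        exact inv_mem hmem
      have hy0' : (y0 : S) * u * (y0 : S)⁻¹ = z * u := by
        rcases D.comm y0 y0.2 u u.2 with h | h
        · exact absurd (commutatorElement_eq_one_iff_mul_comm.1 h).symm hy0
        · rw [commutatorElement_def] at h
          exact mul_inv_eq_iff_eq_mul.1 h
      set T := ∑ y : L, ρ ((y * u * y⁻¹ : L) : S) v with hT
      have hneg : T = -T := by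
        conv_lhs => rw [hT, ← Equiv.sum_comp (Equiv.mulRight y0) (fun y : L => ρ ((y * u * y⁻¹ : L) : S) v)]
        rw [hT, ← Finset.sum_neg_distrib]
        refine Finset.sum_congr rfl fun y _ => ?_
        have hw : ρ ((y * u * y⁻¹ : L) : S) v ∈ F := C.invR _ (D.LR (y * u * y⁻¹ : L).2) v hv
        rw [← D.zneg _ hw, ← rho_mul]
        congr 2
        simp only [Equiv.coe_mulRight, Subgroup.coe_mul, Subgroup.coe_inv]
        calc (y : S) * y0 * u * ((y : S) * y0)⁻¹ = y * ((y0 : S) * u * (y0 : S)⁻¹) * (y : S)⁻¹ := by group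
          _ = (y * z) * u * (y : S)⁻¹ := by rw [hy0']; group
          _ = z * (y * u * (y : S)⁻¹) := by rw [D.zR y (D.LR y.2)]; group
      exact eq_zero_of_add_self (eq_neg_iff_add_eq_zero.1 hneg)
    obtain ⟨v, hv, hv0⟩ : ∃ v ∈ F, v ≠ (0 : E) := by
      refine Submodule.exists_mem_ne_zero_of_ne_bot fun h => D.z1 (C.faith z (D.LR D.zL) fun v hv => ?_)
      rw [h, Submodule.mem_bot] at hv
      rw [hv, map_zero]
    have h0 := Finset.sum_eq_zero (s := Finset.univ) (fun y (_ : y ∈ Finset.univ) => hvanish v hv y)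
    rw [Finset.sum_comm, Finset.sum_eq_single x1 (fun x _ hx => by rw [← Finset.smul_sum, hoff v hv x hx, smul_zero])
      (fun h => absurd (Finset.mem_univ x1) h)] at h0
    simp only [mul_inv_cancel, mul_one, OneMemClass.coe_one, rho_one, Finset.sum_const, Finset.card_univ] at h0
    have hcard : (Fintype.card L : ZMod 3) ≠ 0 := by
      rw [Ne, ZMod.natCast_eq_zero_iff, ← Nat.card_eq_fintype_card]
      exact fun h => Nat.prime_three.coprime_iff_not_dvd.1 C.cop.symm (h.trans (Subgroup.card_dvd_of_le D.LR))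
    exact (smul_eq_zero.1 (nsmul_eq_zero_three hcard h0)).resolve_right hv0
  have := hli.fintype_card_le_finrank
  rw [Module.finrank_linearMap, C.finrank_eq D, ← Nat.card_eq_fintype_card] at this
  exact this

end Cfsg.Agent.Solv.ThreeBlock
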