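import Cfsg.Agent.Lib.Solv.ThreeBlock.Components
import Cfsg.Agent.Lib.Solv.ThreeBlock.PermFour
import Mathlib.GroupTheory.PGroup
import Mathlib.GroupTheory.Nilpotent
import Mathlib.FieldTheory.Finiteness
import Mathlib.Data.Nat.Prime.Basic
import Mathlib.Tactic.IntervalCases

/-!
# The radical when there is no noncentral abelian invariant subgroup
-/

set_option autoImplicit false

namespace Cfsg.Agent.Solv.ThreeBlock

open scoped commutatorElement

variable {S : Type*} [Group S] [Finite S] {E : Type*} [AddCommGroup E] [Module (ZMod 3) E] [Finite E]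

/-- Invariance under `R` and `b`. -/
def Inv (b : S) (R X : Subgroup S) : Prop :=
  (∀ g ∈ R, ∀ x ∈ X, g * x * g⁻¹ ∈ X) ∧ ∀ x ∈ X, b * x * b⁻¹ ∈ X

omit [Finite S] in
theorem conj_mem_commutator {g : S} {X Y : Subgroup S} (hX : ∀ x ∈ X, g * x * g⁻¹ ∈ X)
    (hY : ∀ y ∈ Y, g * y * g⁻¹ ∈ Y) : ∀ z ∈ ⁅X, Y⁆, g * z * g⁻¹ ∈ ⁅X, Y⁆ := by
  intro z hz
  have h : ⁅X, Y⁆.map (MulAut.conj g).toMonoidHom ≤ ⁅X, Y⁆ := by
    rw [Subgroup.map_commutator]
    refine Subgroup.commutator_mono ?_ ?_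
    · rintro _ ⟨x, hx, rfl⟩; exact hX x hx
    · rintro _ ⟨y, hy, rfl⟩; exact hY y hy
  exact h ⟨z, hz, rfl⟩

omit [Finite S] in
theorem inv_dser {b : S} {R X : Subgroup S} (hX : Inv b R X) : ∀ k, Inv b R (dser X k)
  | 0 => hX
  | k + 1 =>
    ⟨fun g hg => conj_mem_commutator ((inv_dser hX k).1 g hg) ((inv_dser hX k).1 g hg),
      conj_mem_commutator (inv_dser hX k).2 (inv_dser hX k).2⟩

omit [Finite S] in
theorem commutator_pow_central {x y : S} (h : x * ⁅x, y⁆ = ⁅x, y⁆ * x) : ∀ n : ℕ, ⁅x ^ n, y⁆ = ⁅x, y⁆ ^ n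
  | 0 => by simp
  | n + 1 => by
    have hc : x * ⁅x, y⁆ ^ n = ⁅x, y⁆ ^ n * x := (show Commute x ⁅x, y⁆ from h).pow_right n
    calc ⁅x ^ (n + 1), y⁆ = x * ⁅x ^ n, y⁆ * x⁻¹ * ⁅x, y⁆ := by
          rw [pow_succ', commutatorElement_def, commutatorElement_def, commutatorElement_def]; group
      _ = ⁅x, y⁆ ^ (n + 1) := by rw [commutator_pow_central h n, hc, mul_inv_cancel_right, pow_succ]

/-- The congruence for the fixed vectors of an element of prime order. -/
theorem fix_congr (ρ : Representation (ZMod 3) S E) {g : S} {q : ℕ} (hq : q.Prime) (hg : g ^ q = 1)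
    (U : Submodule (ZMod 3) E) (hU : ∀ v ∈ U, ρ g v ∈ U) :
    q ∣ 3 ^ Module.finrank (ZMod 3) U - 3 ^ Module.finrank (ZMod 3) (FF ρ U (Subgroup.zpowers g)) := by
  classical
  haveI : Fact q.Prime := ⟨hq⟩
  have hz : ∀ k ∈ Subgroup.zpowers g, ∀ v ∈ U, ρ k v ∈ U := by
    intro k hk v hv
    obtain ⟨n, rfl⟩ := mem_powers_iff_mem_zpowers.2 hk
    simp only
    induction n with
    | zero => rwa [pow_zero, rho_one]
    | succ n ih => rw [pow_succ', rho_mul]; exact hU _ (ih (pow_mem (Subgroup.mem_zpowers g) n))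
  letI : MulAction (Subgroup.zpowers g) U :=
    { smul := fun k v => ⟨ρ (k : S) v, hz k k.2 v v.2⟩
      one_smul := fun v => Subtype.ext (rho_one ρ (v : E))
      mul_smul := fun k h v => Subtype.ext (rho_mul ρ (k : S) h (v : E)) }
  have hp : IsPGroup q (Subgroup.zpowers g) := by
    intro k
    refine ⟨1, ?_⟩
    obtain ⟨n, hn⟩ := Subgroup.mem_zpowers_iff.1 k.2
    apply Subtype.ext
    rw [SubmonoidClass.coe_pow, pow_one, ← hn, ← zpow_natCast, ← zpow_mul, mul_comm, zpow_mul,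
      zpow_natCast, hg, one_zpow, Subgroup.coe_one]
  have h := hp.card_modEq_card_fixedPoints (α := U)
  have hfix : Nat.card (MulAction.fixedPoints (Subgroup.zpowers g) U) = Nat.card (FF ρ U (Subgroup.zpowers g)) :=
    Nat.card_congr
      { toFun := fun x => ⟨((x : U) : E), (x : U).2, fun k hk => congrArg Subtype.val (x.2 ⟨k, hk⟩)⟩
        invFun := fun x => ⟨⟨(x : E), x.2.1⟩, fun k => Subtype.ext (x.2.2 k k.2)⟩
        left_inv := fun _ => rfl
        right_inv := fun _ => rfl }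
  rw [hfix, Module.natCard_eq_pow_finrank (K := ZMod 3) (V := U),
    Module.natCard_eq_pow_finrank (K := ZMod 3) (V := FF ρ U (Subgroup.zpowers g)), Nat.card_zmod] at h
  exact (Nat.modEq_iff_dvd' (Nat.pow_le_pow_right (by norm_num)
    (Submodule.finrank_mono (show FF ρ U (Subgroup.zpowers g) ≤ U from fun v hv => hv.1)))).1 h.symm

/-- The setting without noncentral abelian invariant subgroups. -/
structure BCtx (ρ : Representation (ZMod 3) S E) (b : S) (R Q : Subgroup S) (F : Submodule (ZMod 3) E) : Prop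
    extends Ctx ρ b R Q F where
  none : ∀ (A : Subgroup S) (r : ℕ), ¬ ACtx ρ b R Q F A r

/-- The facts about the radical. -/
structure LData (ρ : Representation (ZMod 3) S E) (b : S) (R : Subgroup S) (F : Submodule (ZMod 3) E)
    (L : Subgroup S) (z : S) : Prop where
  LR : L ≤ R
  Linv : Inv b R L
  Lp : IsPGroup 2 L
  Lmax : ∀ X ≤ R, Inv b R X → IsPGroup 2 X → X ≤ L
  CL : ∀ g ∈ R, (∀ l ∈ L, g * l = l * g) → g ∈ L
  zL : z ∈ L
  z1 : z ≠ 1
  zneg : ∀ v ∈ F, ρ z v = -v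
  zR : ∀ g ∈ R, g * z = z * g
  zb : b * z = z * b
  sqz : z ^ 2 = 1
  abel : ∀ X ≤ L, Inv b R X → (∀ x ∈ X, ∀ y ∈ X, x * y = y * x) → ∀ x ∈ X, x = 1 ∨ x = z
  comm : ∀ x ∈ L, ∀ y ∈ L, ⁅x, y⁆ = 1 ∨ ⁅x, y⁆ = z
  sq : ∀ x ∈ L, x ^ 2 = 1 ∨ x ^ 2 = z
  cent : ∀ x ∈ L, (∀ l ∈ L, x * l = l * x) → x = 1 ∨ x = z

variable {ρ : Representation (ZMod 3) S E} {b : S} {R Q : Subgroup S} {F : Submodule (ZMod 3) E}
  (C : BCtx ρ b R Q F)
include C

/-- An abelian invariant subgroup has only central involutions as elements of prime order. -/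
theorem BCtx.central {X : Subgroup S} (hXR : X ≤ R) (hX : Inv b R X) (hXc : ∀ x ∈ X, ∀ y ∈ X, x * y = y * x)
    {r : ℕ} (hr : r.Prime) {x : S} (hx : x ∈ X) (hxr : x ^ r = 1) (hx1 : x ≠ 1) :
    r = 2 ∧ (∀ v ∈ F, ρ x v = -v) ∧ b * x = x * b ∧ ∀ g ∈ R, g * x = x * g := by
  let A : Subgroup S :=
    { carrier := {y | y ∈ X ∧ y ^ r = 1}
      one_mem' := ⟨one_mem X, one_pow r⟩
      mul_mem' := fun {u v} hu hv => ⟨mul_mem hu.1 hv.1, by
        rw [(show Commute u v from hXc u hu.1 v hv.1).mul_pow, hu.2, hv.2, one_mul]⟩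
      inv_mem' := fun {u} hu => ⟨inv_mem hu.1, by rw [inv_pow, hu.2, inv_one]⟩ }
  have hcen : ∀ a ∈ A, b * a = a * b ∧ ∀ g ∈ R, g * a = a * g := by
    by_contra hnc
    exact C.none A r
      { toCtx := C.toCtx, rp := hr, AR := fun a ha => hXR ha.1
        Acomm := fun u hu v hv => hXc u hu.1 v hv.1
        Aexp := fun u hu => hu.2
        AnR := fun g hg a ha => ⟨hX.1 g hg a ha.1, by rw [conj_pow, ha.2, mul_one, mul_inv_cancel]⟩
        Anb := fun a ha => ⟨hX.2 a ha.1, by rw [conj_pow, ha.2, mul_one, mul_inv_cancel]⟩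
        Anc := hnc }
  obtain ⟨hb, hR⟩ := hcen x ⟨hx, hxr⟩
  have hxR := hXR hx
  -- the fixed space is trivial
  have hcomm : ∀ g : S, g * x = x * g → ∀ k ∈ Subgroup.zpowers x, ∀ v, ρ k (ρ g v) = ρ g (ρ k v) := by
    intro g hg k hk v
    obtain ⟨n, rfl⟩ := Subgroup.mem_zpowers_iff.1 hk
    rw [← rho_mul, ← rho_mul, ((show Commute g x from hg).zpow_right n).eq]
  have hfpf : ∀ v ∈ F, ρ x v = v → v = 0 := by
    intro v hv hxv
    have hU : FF ρ F (Subgroup.zpowers x) = ⊥ := by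
      refine (C.irr (FF ρ F (Subgroup.zpowers x)) (fun w hw => hw.1) (fun g hg w hw => ⟨C.invR g hg w hw.1, fun k hk => ?_⟩)
        (fun w hw => ⟨C.invb w hw.1, fun k hk => ?_⟩)).resolve_right fun hU => hx1 (C.faith x hxR fun w hw => ?_)
      · rw [hcomm g (hR g hg) k hk, hw.2 k hk]
      · rw [hcomm b hb k hk, hw.2 k hk]
      · exact (hU.symm ▸ hw : w ∈ FF ρ F (Subgroup.zpowers x)).2 x (Subgroup.mem_zpowers x)
    have hm : v ∈ FF ρ F (Subgroup.zpowers x) := ⟨hv, fun k hk =>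
      (show Subgroup.zpowers x ≤ fixing ρ {v} from Subgroup.zpowers_le.2 fun w hw => by
        rw [Set.mem_singleton_iff.1 hw]; exact hxv) hk v rfl⟩
    rwa [hU, Submodule.mem_bot] at hm
  -- it acts fixed-point-freely on the commutators of `b`
  set D := F.map (ρ b - 1) with hD
  have hDF : D ≤ F := by
    rintro _ ⟨v, hv, rfl⟩
    exact F.sub_mem (C.invb v hv) hv
  have hDx : ∀ w ∈ D, ρ x w ∈ D := by
    rintro _ ⟨v, hv, rfl⟩
    refine ⟨ρ x v, C.invR x hxR v hv, ?_⟩
    show ρ b (ρ x v) - ρ x v = ρ x (ρ b v - v)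
    rw [map_sub, ← rho_mul, hb, rho_mul]
  have hd := fix_congr ρ hr hxr D hDx
  have hF0 : FF ρ D (Subgroup.zpowers x) = ⊥ := (Submodule.eq_bot_iff _).2 fun w hw =>
    hfpf w (hDF hw.1) (hw.2 x (Subgroup.mem_zpowers x))
  rw [hF0, finrank_bot, pow_zero] at hd
  have hd2 : Module.finrank (ZMod 3) D ≤ 2 := C.rank
  have hd0 : Module.finrank (ZMod 3) D ≠ 0 := by
    intro h0
    have hD0 := Submodule.finrank_eq_zero.1 h0
    obtain ⟨q, hq, hbq⟩ := C.bmove
    refine hbq ?_
    have hbv : ∀ v ∈ F, ρ b v = v := fun v hv => by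
      have : ρ b v - v ∈ D := ⟨v, hv, rfl⟩
      rw [hD0, Submodule.mem_bot, sub_eq_zero] at this
      exact this
    have := C.faith q (C.QR hq) (C.toCtx.triv (N := F) C.invR hbv q (C.QR hq))
    rw [this, mul_one, one_mul]
  have hr2 : r = 2 := by
    generalize Module.finrank (ZMod 3) D = d at hd hd2 hd0
    have : 1 ≤ d := by omega
    interval_cases d
    · exact (Nat.prime_dvd_prime_iff_eq hr Nat.prime_two).1 (by simpa using hd)
    · exact (Nat.prime_dvd_prime_iff_eq hr Nat.prime_two).1 (hr.dvd_of_dvd_pow (n := 3) (by simpa using hd))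
  refine ⟨hr2, fun v hv => ?_, hb, hR⟩
  have h2 : ρ x (ρ x v) = v := by rw [← rho_mul, ← pow_two, ← hr2, hxr, rho_one]
  have := hfpf (v + ρ x v) (F.add_mem hv (C.invR x hxR v hv)) (by rw [map_add, h2, add_comm])
  exact eq_neg_of_add_eq_zero_right this

/-- The radical. -/
theorem BCtx.exists_data : ∃ L z, LData ρ b R F L z := by
  classical
  haveI : Finite (Subgroup S) := Finite.of_injective (fun H : Subgroup S => (H : Set S)) SetLike.coe_injective
  have hbot : Inv b R (⊥ : Subgroup S) :=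
    ⟨fun g _ x hx => by rw [Subgroup.mem_bot.1 hx]; simp, fun x hx => by rw [Subgroup.mem_bot.1 hx]; simp⟩
  obtain ⟨L, ⟨hLR, hLinv, hLp⟩, hmax⟩ := Set.exists_max_image
    {X : Subgroup S | X ≤ R ∧ Inv b R X ∧ IsPGroup 2 X} (fun X : Subgroup S => Nat.card X) (Set.toFinite _)
    ⟨⊥, bot_le, hbot, IsPGroup.of_bot⟩
  have hLmax : ∀ X ≤ R, Inv b R X → IsPGroup 2 X → X ≤ L := by
    intro X hXR hX hXp
    have hconj : ∀ g : S, (∀ x ∈ X, g * x * g⁻¹ ∈ X) → (∀ x ∈ L, g * x * g⁻¹ ∈ L) →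
        ∀ y ∈ X ⊔ L, g * y * g⁻¹ ∈ X ⊔ L := by
      intro g h1 h2 y hy
      have h : (X ⊔ L).map (MulAut.conj g).toMonoidHom ≤ X ⊔ L := by
        rw [Subgroup.map_sup]
        refine sup_le_sup ?_ ?_
        · rintro _ ⟨x, hx, rfl⟩; exact h1 x hx
        · rintro _ ⟨x, hx, rfl⟩; exact h2 x hx
      exact h ⟨y, hy, rfl⟩
    have hp : IsPGroup 2 (X ⊔ L : Subgroup S) := hXp.to_sup_of_normal_right' hLp fun g hg =>
      Subgroup.mem_normalizer_iff.2 fun l => ⟨fun hl => hLinv.1 g (hXR hg) l hl, fun hl => by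
        have := hLinv.1 g⁻¹ (inv_mem (hXR hg)) _ hl
        rwa [show g⁻¹ * (g * l * g⁻¹) * g⁻¹⁻¹ = l by group] at this⟩
    have e : L = X ⊔ L := Subgroup.eq_of_le_of_card_ge le_sup_right (hmax _
      ⟨sup_le hXR hLR, ⟨fun g hg => hconj g (hX.1 g hg) (hLinv.1 g hg), hconj b hX.2 hLinv.2⟩, hp⟩)
    exact e ▸ le_sup_left
  -- the radical contains its centralizer
  let Cc : Subgroup S := R ⊓ Subgroup.centralizer (L : Set S)
  have hCmem : ∀ {y}, y ∈ Cc ↔ y ∈ R ∧ ∀ l ∈ L, y * l = l * y := fun {y} => by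
    simp only [Cc, Subgroup.mem_inf, Subgroup.mem_centralizer_iff, SetLike.mem_coe]
    exact and_congr_right fun _ => forall₂_congr fun l _ => eq_comm
  have hCconj : ∀ g : S, (∀ x ∈ R, g * x * g⁻¹ ∈ R) → (∀ l ∈ L, g⁻¹ * l * g ∈ L) →
      ∀ x ∈ Cc, g * x * g⁻¹ ∈ Cc := fun g h1 h2 x hx => hCmem.2 ⟨h1 x (hCmem.1 hx).1, fun l hl => by
    have := (hCmem.1 hx).2 _ (h2 l hl)
    calc g * x * g⁻¹ * l = g * (x * (g⁻¹ * l * g)) * g⁻¹ := by group
      _ = g * ((g⁻¹ * l * g) * x) * g⁻¹ := by rw [this]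
      _ = l * (g * x * g⁻¹) := by group⟩
  have hbinv : ∀ l ∈ L, b⁻¹ * l * b ∈ L := fun l hl => by
    have := hLinv.2 _ (hLinv.2 l hl)
    rwa [show b * (b * l * b⁻¹) * b⁻¹ = b⁻¹ * l * b by
      rw [show b * (b * l * b⁻¹) * b⁻¹ = (b * b) * l * (b * b)⁻¹ by group,
        ← show b⁻¹ = b * b from inv_eq_of_mul_eq_one_right (by rw [← C.hb3, pow_succ, pow_two, mul_assoc]),
        inv_inv]] at this
  have hCinv : Inv b R Cc := ⟨fun g hg => hCconj g (fun x hx => mul_mem (mul_mem hg hx) (inv_mem hg))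
    (fun l hl => by have := hLinv.1 g⁻¹ (inv_mem hg) l hl; rwa [inv_inv] at this), hCconj b C.bR hbinv⟩
  have hCL : ∀ y ∈ Cc, y ∈ L := by
    by_contra hnot
    have h0 : ¬ dser Cc 0 ≤ L := fun h => hnot fun y hy => h hy
    have hD : ∀ k, (derivedSeries Cc k).map Cc.subtype = dser Cc k := by
      intro k
      induction k with
      | zero => rw [derivedSeries_zero, ← MonoidHom.range_eq_map, Subgroup.range_subtype, dser]
      | succ k ih => rw [derivedSeries_succ, Subgroup.map_commutator, ih, dser]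
    have hsolC : Group.IsSolvable Cc := by
      haveI := C.solv
      exact Group.isSolvable_of_isSolvable_injective (f := Subgroup.inclusion (show Cc ≤ R from inf_le_left))
        (Subgroup.inclusion_injective _)
    have hex : ∃ k, dser Cc k ≤ L := by
      obtain ⟨k, hk⟩ := hsolC.solvable
      exact ⟨k, by rw [← hD, hk, Subgroup.map_bot]; exact bot_le⟩
    obtain ⟨k, hk⟩ : ∃ k, Nat.find hex = k + 1 := ⟨Nat.find hex - 1, by
      have : Nat.find hex ≠ 0 := fun h => h0 (by have := Nat.find_spec hex; rwa [h] at this)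
      omega⟩
    set N := dser Cc k with hN
    have hNL : ¬ N ≤ L := Nat.find_min hex (by omega)
    have hN' : ⁅N, N⁆ ≤ L := by have := Nat.find_spec hex; rwa [hk] at this
    have hNC : N ≤ Cc := by rw [hN, ← hD]; exact Subgroup.map_subtype_le _
    have hNinv := inv_dser hCinv k
    have hcen : ∀ x ∈ N, ∀ y ∈ N, ∀ w ∈ N, w * ⁅x, y⁆ = ⁅x, y⁆ * w := fun x hx y hy w hw =>
      (hCmem.1 (hNC hw)).2 _ (hN' (Subgroup.commutator_mem_commutator hx hy))
    have hodd : ∀ x ∈ N, Odd (orderOf x) → ∀ y ∈ N, x * y = y * x := by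
      intro x hx ho y hy
      rw [← commutatorElement_eq_one_iff_mul_comm]
      have h1 : ⁅x, y⁆ ^ orderOf x = 1 := by
        rw [← commutator_pow_central (hcen x hx y hy x hx), pow_orderOf_eq_one, commutatorElement_one_left]
      obtain ⟨j, hj⟩ := hLp ⟨_, hN' (Subgroup.commutator_mem_commutator hx hy)⟩
      have h2 : ⁅x, y⁆ ^ 2 ^ j = 1 := congrArg Subtype.val hj
      have hg : Nat.gcd (orderOf x) (2 ^ j) = 1 := (Nat.coprime_two_right.2 ho).pow_right j
      have := pow_gcd_eq_one.2 ⟨h1, h2⟩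
      rwa [hg, pow_one] at this
    let No : Subgroup S :=
      { carrier := {x | x ∈ N ∧ Odd (orderOf x)}
        one_mem' := ⟨one_mem N, by simp⟩
        mul_mem' := fun {u v} hu hv => ⟨mul_mem hu.1 hv.1, (hu.2.mul hv.2).of_dvd_nat
          (show Commute u v from hodd u hu.1 hu.2 v hv.1).orderOf_mul_dvd_mul_orderOf⟩
        inv_mem' := fun {u} hu => ⟨inv_mem hu.1, by rw [orderOf_inv]; exact hu.2⟩ }
    have hord : ∀ g x : S, orderOf (g * x * g⁻¹) = orderOf x := fun g x =>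
      orderOf_injective (MulAut.conj g).toMonoidHom (MulAut.conj g).injective x
    have hNoinv : Inv b R No :=
      ⟨fun g hg x hx => ⟨hNinv.1 g hg x hx.1, by rw [hord]; exact hx.2⟩,
        fun x hx => ⟨hNinv.2 x hx.1, by rw [hord]; exact hx.2⟩⟩
    have hNo : ∀ x ∈ No, x = 1 := by
      intro x hx
      by_contra hx1
      have hne : orderOf x ≠ 1 := fun h => hx1 (orderOf_eq_one_iff.1 h)
      obtain ⟨p, hp, hpd⟩ := Nat.exists_prime_and_dvd hne
      set y := x ^ (orderOf x / p) with hy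
      have hyo : orderOf y = p := orderOf_pow_orderOf_div (orderOf_pos x).ne' hpd
      have hyp : y ^ p = 1 := hyo ▸ pow_orderOf_eq_one y
      obtain ⟨h2, -⟩ := C.central (fun u (hu : u ∈ No) => inf_le_left (a := R) (hNC hu.1)) hNoinv
        (fun u hu v hv => hodd u hu.1 hu.2 v hv.1) hp (x := y) (pow_mem hx _) hyp
        (fun h => hp.ne_one (hyo.symm.trans (orderOf_eq_one_iff.2 h)))
      subst h2
      exact Nat.not_even_iff_odd.2 hx.2 (even_iff_two_dvd.2 hpd)
    have hNp : IsPGroup 2 N := by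
      intro x
      obtain ⟨e, m, hm, he⟩ := Nat.exists_eq_two_pow_mul_odd (orderOf_pos (x : S)).ne'
      refine ⟨e, Subtype.ext (hNo _ ⟨pow_mem x.2 _, ?_⟩)⟩
      rw [SubmonoidClass.coe_pow, orderOf_pow' _ (pow_ne_zero e two_ne_zero), he, Nat.gcd_eq_right (dvd_mul_right _ _),
        Nat.mul_div_cancel_left _ (pow_pos two_pos e)]
      exact hm
    exact hNL (hLmax N (hNC.trans inf_le_left) hNinv hNp)
  have hCL' : ∀ g ∈ R, (∀ l ∈ L, g * l = l * g) → g ∈ L := fun g hg h => hCL g (hCmem.2 ⟨hg, h⟩)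
  -- the central involution
  have hLne : L ≠ ⊥ := by
    intro h
    obtain ⟨q, hq, hbq⟩ := C.bmove
    refine hbq ?_
    have := hCL' q (C.QR hq) (fun l hl => by rw [h, Subgroup.mem_bot] at hl; rw [hl, mul_one, one_mul])
    rw [h, Subgroup.mem_bot] at this
    rw [this, mul_one, one_mul]
  let Z0 : Subgroup S := Cc ⊓ L
  have hZ0inv : Inv b R Z0 :=
    ⟨fun g hg x hx => ⟨hCinv.1 g hg x hx.1, hLinv.1 g hg x hx.2⟩, fun x hx => ⟨hCinv.2 x hx.1, hLinv.2 x hx.2⟩⟩
  have hZ0c : ∀ x ∈ Z0, ∀ y ∈ Z0, x * y = y * x := fun x hx y hy => (hCmem.1 hx.1).2 y hy.2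
  obtain ⟨z, hz, hz2, hz1⟩ : ∃ z, z ∈ Z0 ∧ z ^ 2 = 1 ∧ z ≠ 1 := by
    haveI : Nontrivial L := (Subgroup.nontrivial_iff_ne_bot L).2 hLne
    haveI := hLp.center_nontrivial
    obtain ⟨c, hc⟩ := exists_ne (1 : Subgroup.center L)
    have hcL : ((c : L) : S) ∈ L := (c : L).2
    have hcc : ((c : L) : S) ∈ Cc := hCmem.2 ⟨hLR hcL, fun l hl =>
      congrArg Subtype.val (Subgroup.mem_center_iff.1 c.2 ⟨l, hl⟩).symm⟩
    obtain ⟨j, hj⟩ := hLp (c : L)
    have hj' : ((c : L) : S) ^ 2 ^ j = 1 := congrArg Subtype.val hj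
    have hc1 : ((c : L) : S) ≠ 1 := fun h => hc (Subtype.ext (Subtype.ext h))
    have hex : ∃ i, ((c : L) : S) ^ 2 ^ i = 1 := ⟨j, hj'⟩
    have h0 : Nat.find hex ≠ 0 := fun h => hc1 (by have := Nat.find_spec hex; rwa [h, pow_zero, pow_one] at this)
    obtain ⟨i, hi⟩ := Nat.exists_eq_succ_of_ne_zero h0
    refine ⟨((c : L) : S) ^ 2 ^ i, pow_mem (show ((c : L) : S) ∈ Z0 from ⟨hcc, hcL⟩) _, ?_, Nat.find_min hex (by omega)⟩
    rw [← pow_mul, ← pow_succ]
    have := Nat.find_spec hex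
    rwa [hi] at this
  obtain ⟨-, hzneg, hzb, hzR⟩ := C.central (inf_le_right.trans hLR) hZ0inv hZ0c Nat.prime_two hz hz2 hz1
  have hzz : z * z = 1 := by rw [← pow_two, hz2]
  have hinvo : ∀ X ≤ L, Inv b R X → (∀ x ∈ X, ∀ y ∈ X, x * y = y * x) → ∀ x ∈ X, x ^ 2 = 1 → x = 1 ∨ x = z := by
    intro X hXL hX hXc x hx hx2
    by_cases hx1 : x = 1
    · exact Or.inl hx1
    right
    obtain ⟨-, hxneg, -, -⟩ := C.central (hXL.trans hLR) hX hXc Nat.prime_two hx hx2 hx1
    have := C.faith (x * z) (mul_mem (hLR (hXL hx)) (hLR hz.2)) fun v hv => by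
      rw [rho_mul, hzneg v hv, map_neg, hxneg v hv, neg_neg]
    rw [eq_inv_of_mul_eq_one_left this]
    exact inv_eq_of_mul_eq_one_right hzz
  -- no element of order four
  have habel : ∀ X ≤ L, Inv b R X → (∀ x ∈ X, ∀ y ∈ X, x * y = y * x) → ∀ x ∈ X, x = 1 ∨ x = z := by
    intro X hXL hX hXc x hx
    refine hinvo X hXL hX hXc x hx ?_
    by_contra hx2
    have hex : ∃ j, x ^ 2 ^ j = 1 := by
      obtain ⟨j, hj⟩ := hLp ⟨x, hXL hx⟩
      exact ⟨j, congrArg Subtype.val hj⟩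
    have h2 : 2 ≤ Nat.find hex := by
      by_contra h
      refine hx2 ?_
      have hs := Nat.find_spec hex
      have := congrArg (fun y => y) hs
      rcases (show Nat.find hex = 0 ∨ Nat.find hex = 1 by omega) with h | h <;> rw [h] at hs
      · rw [pow_zero, pow_one] at hs; rw [hs, one_pow]
      · rwa [pow_one] at hs
    obtain ⟨k, hk⟩ : ∃ k, Nat.find hex = k + 2 := ⟨Nat.find hex - 2, by omega⟩
    set i := x ^ 2 ^ k with hi
    have hiX : i ∈ X := pow_mem hx _
    have hi2 : i ^ 2 = z := by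
      refine ((hinvo X hXL hX hXc _ (pow_mem hiX 2) ?_).resolve_left ?_)
      · rw [hi, ← pow_mul, ← pow_mul, show 2 ^ k * (2 * 2) = 2 ^ (k + 2) by ring, ← hk]
        exact Nat.find_spec hex
      · rw [hi, ← pow_mul, ← pow_succ]
        exact Nat.find_min hex (by omega)
    have htwo : ∀ y ∈ X, y ^ 2 = z → y = i ∨ y = z * i := by
      intro y hy hy2
      have h := hinvo X hXL hX hXc (y * i⁻¹) (mul_mem hy (inv_mem hiX)) (by
        rw [(show Commute y i⁻¹ from hXc y hy _ (inv_mem hiX)).mul_pow, inv_pow, hy2, hi2, mul_inv_cancel])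
      rcases h with h | h
      · exact Or.inl (mul_inv_eq_one.1 h)
      · exact Or.inr (mul_inv_eq_iff_eq_mul.1 h)
    have hconjz : ∀ g : S, g * z = z * g → g * i * g⁻¹ ∈ X → g * i * g⁻¹ = i ∨ g * i * g⁻¹ = z * i := by
      intro g hg hgi
      refine htwo _ hgi ?_
      rw [conj_pow, hi2, hg, mul_inv_cancel_right]
    have hib : b * i * b⁻¹ = i := by
      rcases hconjz b hzb (hX.2 i hiX) with h | h
      · exact h
      exfalso
      have e : ∀ y, b * (z * y) * b⁻¹ = z * (b * y * b⁻¹) := fun y => by rw [← mul_assoc b, hzb]; group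
      have h3 : b * (b * (b * i * b⁻¹) * b⁻¹) * b⁻¹ = i := by rw [conj_three, C.hb3, one_mul, inv_one, mul_one]
      rw [h, e, h, ← mul_assoc z z i, hzz, one_mul, h] at h3
      exact hz1 (mul_right_cancel (h3.trans (one_mul i).symm))
    have hiR : ∀ g ∈ R, g * i = i * g := by
      intro g hg
      have hbz : b * (z * i) * b⁻¹ = z * i := by
        rw [← mul_assoc b, hzb, show z * b * i * b⁻¹ = z * (b * i * b⁻¹) by group, hib]
      have := C.gen (Subgroup.centralizer {i}) (fun g hg => Subgroup.mem_centralizer_singleton_iff.2 ?_) hg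
      · exact Subgroup.mem_centralizer_singleton_iff.1 this
      · have hg' := hconjz g⁻¹ (hzR _ (inv_mem hg)) (hX.1 _ (inv_mem hg) i hiX)
        rw [inv_inv] at hg'
        have hbfix : b * (g⁻¹ * i * g) * b⁻¹ = g⁻¹ * i * g := by
          rcases hg' with h | h <;> rw [h] <;> assumption
        have hbi : b⁻¹ * i * b = i := by
          conv_rhs => rw [← show b⁻¹ * (b * i * b⁻¹) * b = i by group]
          rw [hib]
        refine mul_inv_eq_iff_eq_mul.1 ?_
        calc g * b * g⁻¹ * b⁻¹ * i * (g * b * g⁻¹ * b⁻¹)⁻¹ = g * (b * (g⁻¹ * (b⁻¹ * i * b) * g) * b⁻¹) * g⁻¹ := by group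
          _ = i := by rw [hbi, hbfix]; group
    -- a space over the field of nine elements
    have hiR' : i ∈ R := hLR (hXL hiX)
    obtain ⟨u, hu, hli⟩ := C.toCtx.exists_block (U := F) C.invb (fun q hq => C.invR q (C.QR hq)) (by
      obtain ⟨q, hq, hbq⟩ := C.bmove
      by_contra h
      simp only [not_exists, not_and, ne_eq, not_not] at h
      exact hbq (by rw [C.faith q (C.QR hq) (h q hq), mul_one, one_mul]))
    have hbi' : ∀ v, ρ b (ρ i v) = ρ i (ρ b v) := fun v => by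
      rw [← rho_mul, ← rho_mul, mul_inv_eq_iff_eq_mul.1 hib]
    have hneg : ∀ v ∈ F, ρ i (ρ i v) = -v := fun v hv => by rw [← rho_mul, ← pow_two, hi2, hzneg v hv]
    set d1 := ρ b u - u with hd1
    set d2 := ρ b d1 - d1 with hd2
    have hd1F : d1 ∈ F := F.sub_mem (C.invb u hu) hu
    have hd2ne : d2 ≠ 0 := by
      intro h
      have := Fintype.linearIndependent_iff.1 hli ![1, 1, 1] (by
        simp only [Fin.sum_univ_three, Matrix.cons_val_zero, Matrix.cons_val_one, Matrix.cons_val_two,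
          Matrix.tail_cons, Matrix.head_cons, one_smul]
        calc u + ρ b u + ρ b (ρ b u) = d2 + (ρ b u + ρ b u + ρ b u) := by rw [hd2, hd1, map_sub]; abel
          _ = 0 := by rw [h, three_zero, add_zero]) 0
      exact absurd this (by decide)
    refine C.toCtx |> fun C' => ?_
    have hindep : LinearIndependent (ZMod 3) ![d2, ρ i d2] := by
      rw [LinearIndependent.pair_iff]
      intro s t h
      have h2 := congrArg (ρ i) h
      rw [map_add, map_smul, map_smul, map_zero, hneg _ (F.sub_mem (C.invb d1 hd1F) hd1F)] at h2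
      have h3 : (s * s + t * t) • d2 = 0 := by
        calc (s * s + t * t) • d2 = s • (s • d2 + t • ρ i d2) - t • (s • ρ i d2 + t • -d2) := by
              simp only [smul_add, smul_neg, smul_smul, add_smul, mul_comm t s]; abel
          _ = 0 := by rw [h, h2, smul_zero, smul_zero, sub_zero]
      have : ∀ s t : ZMod 3, s * s + t * t = 0 → s = 0 ∧ t = 0 := by decide
      exact this s t ((smul_eq_zero.1 h3).resolve_right hd2ne)
    have hd1out : ¬ ∃ s t : ZMod 3, d1 = s • d2 + t • ρ i d2 := by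
      rintro ⟨s, t, h⟩
      -- the cube of `b - 1` vanishes
      have h0 : ρ b d2 - d2 = 0 := by
        have hb3 : ρ b (ρ b (ρ b u)) = u := by
          rw [← rho_mul, ← rho_mul, show b * b * b = 1 by rw [← C.hb3, pow_succ, pow_two], rho_one]
        calc ρ b d2 - d2 = (ρ b (ρ b (ρ b u)) - u) - (ρ b (ρ b u) + ρ b (ρ b u) + ρ b (ρ b u))
            + (ρ b u + ρ b u + ρ b u) := by rw [hd2, hd1]; simp only [map_sub]; abel
          _ = 0 := by rw [hb3, three_zero, three_zero, sub_self, sub_zero, add_zero]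
      refine hd2ne ?_
      rw [hd2, h, map_add, map_smul, map_smul, hbi', sub_eq_zero.1 h0, sub_self]
    have hli3 : LinearIndependent (ZMod 3) ![d1, d2, ρ i d2] := by
      rw [Fintype.linearIndependent_iff]
      intro g hg
      simp only [Fin.sum_univ_three, Matrix.cons_val_zero, Matrix.cons_val_one, Matrix.cons_val_two,
        Matrix.tail_cons, Matrix.head_cons] at hg
      have hg0 : g 0 = 0 := by
        by_contra h
        refine hd1out ⟨-((g 0)⁻¹ * g 1), -((g 0)⁻¹ * g 2), ?_⟩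
        have e : g 0 • d1 = -(g 1 • d2 + g 2 • ρ i d2) := eq_neg_of_add_eq_zero_left (by rw [← hg]; abel)
        calc d1 = (g 0)⁻¹ • g 0 • d1 := by rw [smul_smul, inv_mul_cancel₀ h, one_smul]
          _ = _ := by rw [e, smul_neg, smul_add, smul_smul, smul_smul, neg_smul, neg_smul, neg_add]
      rw [hg0, zero_smul, zero_add] at hg
      obtain ⟨h1, h2⟩ := LinearIndependent.pair_iff.1 hindep _ _ hg
      intro j
      fin_cases j <;> assumption
    have hmem : ∀ j, ![d1, d2, ρ i d2] j ∈ F.map (ρ b - 1) := by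
      intro j
      fin_cases j
      · exact ⟨u, hu, rfl⟩
      · exact ⟨d1, hd1F, rfl⟩
      · refine ⟨ρ i d1, C.invR i hiR' d1 hd1F, ?_⟩
        show ρ b (ρ i d1) - ρ i d1 = ρ i d2
        rw [hbi', ← map_sub (ρ i)]
    have hli' : LinearIndependent (ZMod 3) (fun j => (⟨_, hmem j⟩ : F.map (ρ b - 1))) :=
      LinearIndependent.of_comp (F.map (ρ b - 1)).subtype hli3
    have := hli'.fintype_card_le_finrank
    rw [Fintype.card_fin] at this
    have := C'.rank
    omega
  -- commutators lie in the centre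
  have hcommz : ∀ x ∈ L, ∀ y ∈ L, ⁅x, y⁆ = 1 ∨ ⁅x, y⁆ = z := by
    by_contra hnot
    simp only [not_forall] at hnot
    obtain ⟨x0, hx0, y0, hy0, hxy⟩ := hnot
    have hZmem : ∀ w, w ∈ Subgroup.zpowers z ↔ w = 1 ∨ w = z := by
      intro w
      constructor
      · intro h
        obtain ⟨n, rfl⟩ := mem_powers_iff_mem_zpowers.2 h
        simp only
        rcases Nat.even_or_odd' n with ⟨m, rfl | rfl⟩
        · left; rw [pow_mul, hz2, one_pow]
        · right; rw [pow_succ, pow_mul, hz2, one_pow, one_mul]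
      · rintro (rfl | rfl)
        · exact one_mem _
        · exact Subgroup.mem_zpowers _
    have hLL : ⁅L, L⁆ ≤ L := Subgroup.commutator_le.2 fun g hg h hh =>
      mul_mem (mul_mem (mul_mem hg hh) (inv_mem hg)) (inv_mem hh)
    have hLLinv : Inv b R ⁅L, L⁆ :=
      ⟨fun g hg => conj_mem_commutator (hLinv.1 g hg) (hLinv.1 g hg), conj_mem_commutator hLinv.2 hLinv.2⟩
    obtain ⟨N, ⟨hNle, hNinv, hNZ⟩, hmin⟩ := Set.exists_min_image
      {N : Subgroup S | N ≤ ⁅L, L⁆ ∧ Inv b R N ∧ ¬ N ≤ Subgroup.zpowers z}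
      (fun N : Subgroup S => Nat.card N) (Set.toFinite _)
      ⟨_, le_rfl, hLLinv, fun h => hxy ((hZmem _).1 (h (Subgroup.commutator_mem_commutator hx0 hy0)))⟩
    have hNL : N ≤ L := hNle.trans hLL
    have hsub : ⁅N, L⁆ ≤ N := Subgroup.commutator_le.2 fun g hg h hh => by
      rw [show ⁅g, h⁆ = g * (h * g⁻¹ * h⁻¹) by rw [commutatorElement_def]; group]
      exact mul_mem hg (hNinv.1 h (hLR hh) _ (inv_mem hg))
    have hproper : ⁅N, L⁆ ≠ N := by
      intro heq
      haveI : Group.IsNilpotent L := hLp.isNilpotent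
      obtain ⟨n, hn⟩ := Subgroup.nilpotent_iff_lowerCentralSeries.1 ‹Group.IsNilpotent L›
      refine hNZ (le_trans ?_ bot_le)
      have key : ∀ j, N ≤ L.lowerCentralSeries j := by
        intro j
        induction j with
        | zero => exact hNL
        | succ j ih =>
          rw [Subgroup.lowerCentralSeries_succ]
          conv_lhs => rw [← heq]
          exact Subgroup.commutator_mono ih le_rfl
      have := key n
      have e := Subgroup.map_lowerCentralSeries (⊤ : Subgroup L) L.subtype n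
      rw [hn, Subgroup.map_bot, ← MonoidHom.range_eq_map, Subgroup.range_subtype] at e
      rwa [← e] at this
    have hNLZ : ⁅N, L⁆ ≤ Subgroup.zpowers z := by
      by_contra h
      exact hproper (Subgroup.eq_of_le_of_card_ge hsub (hmin _ ⟨hsub.trans hNle,
        ⟨fun g hg => conj_mem_commutator (hNinv.1 g hg) (hLinv.1 g hg), conj_mem_commutator hNinv.2 hLinv.2⟩, h⟩))
    have hNc : ∀ n ∈ N, ∀ w ∈ ⁅L, L⁆, n * w = w * n := by
      intro n hn w hw
      have hle : ⁅L, L⁆ ≤ Subgroup.centralizer {n} := Subgroup.commutator_le.2 fun l hl m hm => by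
        rw [Subgroup.mem_centralizer_singleton_iff]
        have hcz : ∀ l ∈ L, ∃ e, (e = 1 ∨ e = z) ∧ n * l * n⁻¹ = e * l := fun l hl => by
          refine ⟨⁅n, l⁆, (hZmem _).1 (hNLZ (Subgroup.commutator_mem_commutator hn hl)), ?_⟩
          rw [commutatorElement_def]; group
        obtain ⟨e, he, hel⟩ := hcz l hl
        obtain ⟨f, hf, hfm⟩ := hcz m hm
        have hec : ∀ w ∈ R, e * w = w * e := fun w hw => by
          rcases he with rfl | rfl
          · simp
          · exact (hzR w hw).symm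
        have hfc : ∀ w ∈ R, f * w = w * f := fun w hw => by
          rcases hf with rfl | rfl
          · simp
          · exact (hzR w hw).symm
        have : n * ⁅l, m⁆ * n⁻¹ = ⁅l, m⁆ := by
          calc n * ⁅l, m⁆ * n⁻¹ = (n * l * n⁻¹) * (n * m * n⁻¹) * (n * l * n⁻¹)⁻¹ * (n * m * n⁻¹)⁻¹ := by
                rw [commutatorElement_def]; group
            _ = e * (l * f) * m * l⁻¹ * e⁻¹ * m⁻¹ * f⁻¹ := by rw [hel, hfm]; group
            _ = e * (f * l) * m * l⁻¹ * e⁻¹ * m⁻¹ * f⁻¹ := by rw [hfc l (hLR hl)]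
            _ = e * (f * (l * m * l⁻¹)) * e⁻¹ * (m⁻¹ * f⁻¹) := by group
            _ = (f * (l * m * l⁻¹)) * e * e⁻¹ * (m⁻¹ * f⁻¹) := by
                rw [hec _ (mul_mem ?_ (hLR (mul_mem (mul_mem hl hm) (inv_mem hl))))]
                rcases hf with rfl | rfl
                · exact one_mem R
                · exact hLR hz.2
            _ = f * (l * m * l⁻¹ * m⁻¹) * f⁻¹ := by group
            _ = ⁅l, m⁆ := by
                rw [hfc _ (hLR (mul_mem (mul_mem (mul_mem hl hm) (inv_mem hl)) (inv_mem hm))), mul_inv_cancel_right]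
                rfl
        exact (mul_inv_eq_iff_eq_mul.1 this).symm
      exact (Subgroup.mem_centralizer_singleton_iff.1 (hle hw)).symm
    refine hNZ fun w hw => (hZmem w).2 ?_
    exact habel N hNL hNinv (fun x hx y hy => hNc x hx y (hNle hy)) w hw
  have hcent : ∀ x ∈ L, (∀ l ∈ L, x * l = l * x) → x = 1 ∨ x = z := fun x hx h =>
    habel Z0 inf_le_right hZ0inv hZ0c x ⟨hCmem.2 ⟨hLR hx, h⟩, hx⟩
  refine ⟨L, z, ⟨hLR, hLinv, hLp, hLmax, hCL', hz.2, hz1, hzneg, hzR, hzb, hz2, habel, hcommz, fun x hx => ?_, hcent⟩⟩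
  refine hcent _ (pow_mem hx 2) fun l hl => ?_
  rw [← commutatorElement_eq_one_iff_mul_comm]
  have hc : x * ⁅x, l⁆ = ⁅x, l⁆ * x := by
    rcases hcommz x hx l hl with h | h <;> rw [h]
    · simp
    · exact hzR x (hLR hx)
  rw [commutator_pow_central hc]
  rcases hcommz x hx l hl with h | h <;> rw [h]
  · exact one_pow 2
  · exact hz2

end Cfsg.Agent.Solv.ThreeBlock
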