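import Mathlib.RepresentationTheory.Basic
import Mathlib.LinearAlgebra.FiniteDimensional.Lemmas
import Mathlib.LinearAlgebra.Dimension.Constructions
import Mathlib.Algebra.Field.ZMod
import Mathlib.GroupTheory.Solvable
import Mathlib.GroupTheory.Index
import Mathlib.Data.ZMod.Basic
import Mathlib.Tactic.Group
import Mathlib.Tactic.Abel
import Mathlib.Tactic.FinCases

/-!
# An element of order three with one block of size three, acting on a group of order prime to three
-/

set_option autoImplicit false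

namespace Cfsg.Agent.Solv.ThreeBlock

variable {S : Type*} [Group S] [Finite S] {E : Type*} [AddCommGroup E] [Module (ZMod 3) E] [Finite E]

/-- A four-group moved by an element `b` of order dividing three. -/
structure Pre (b : S) (Q : Subgroup S) : Prop where
  hb3 : b ^ 3 = 1
  Qc : ∀ x ∈ Q, ∀ y ∈ Q, x * y = y * x
  Qsq : ∀ x ∈ Q, x ^ 2 = 1
  Qcard : Nat.card Q = 4
  bQ : ∀ x ∈ Q, b * x * b⁻¹ ∈ Q
  bmove : ∃ q ∈ Q, b * q ≠ q * b

/-- The setting: `R = [R, b]` of order prime to three acts faithfully on `F`, irreducibly with `b`,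
the commutators of `b` span a space of dimension at most two, and `R` contains a four-group moved by `b`. -/
structure Ctx (ρ : Representation (ZMod 3) S E) (b : S) (R Q : Subgroup S) (F : Submodule (ZMod 3) E) :
    Prop extends Pre b Q where
  bR : ∀ r ∈ R, b * r * b⁻¹ ∈ R
  gen : ∀ M : Subgroup S, (∀ r ∈ R, r * b * r⁻¹ * b⁻¹ ∈ M) → R ≤ M
  cop : (Nat.card R).Coprime 3
  solv : Group.IsSolvable R
  invR : ∀ r ∈ R, ∀ v ∈ F, ρ r v ∈ F
  invb : ∀ v ∈ F, ρ b v ∈ F
  faith : ∀ r ∈ R, (∀ v ∈ F, ρ r v = v) → r = 1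
  fix0 : ∀ v ∈ F, (∀ r ∈ R, ρ r v = v) → v = 0
  irr : ∀ N : Submodule (ZMod 3) E, N ≤ F → (∀ r ∈ R, ∀ v ∈ N, ρ r v ∈ N) → (∀ v ∈ N, ρ b v ∈ N) →
    N = ⊥ ∨ N = F
  rank : Module.finrank (ZMod 3) (F.map (ρ b - 1)) ≤ 2
  QR : Q ≤ R

omit [Finite S] [Finite E] in
theorem rho_mul (ρ : Representation (ZMod 3) S E) (g h : S) (v : E) : ρ (g * h) v = ρ g (ρ h v) := by
  rw [map_mul]; rfl

omit [Finite S] [Finite E] in
theorem rho_one (ρ : Representation (ZMod 3) S E) (v : E) : ρ 1 v = v := by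
  rw [map_one]; rfl

omit [Finite S] [Finite E] in
theorem rho_cancel (ρ : Representation (ZMod 3) S E) (g : S) (v : E) : ρ g⁻¹ (ρ g v) = v := by
  rw [← rho_mul, inv_mul_cancel, rho_one]

omit [Finite S] [Finite E] in
theorem rho_cancel' (ρ : Representation (ZMod 3) S E) (g : S) (v : E) : ρ g (ρ g⁻¹ v) = v := by
  rw [← rho_mul, mul_inv_cancel, rho_one]

omit [Finite S] [Finite E] in
theorem rho_inj (ρ : Representation (ZMod 3) S E) (g : S) {v w : E} (h : ρ g v = ρ g w) : v = w := by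
  rw [← rho_cancel ρ g v, h, rho_cancel]

omit [Finite S] [Finite E] in
theorem three_zero (v : E) : v + v + v = 0 := by
  rw [show v + v + v = (3 : ZMod 3) • v by
    rw [show (3 : ZMod 3) = 1 + 1 + 1 by decide, add_smul, add_smul, one_smul]]
  rw [show (3 : ZMod 3) = 0 by decide, zero_smul]

omit [Finite S] [Finite E] in
theorem eq_zero_of_add_self {v : E} (h : v + v = 0) : v = 0 := by
  have := three_zero v
  rwa [h, zero_add] at this

/-- The subgroup of the elements fixing every vector of a set. -/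
def fixing (ρ : Representation (ZMod 3) S E) (U : Set E) : Subgroup S where
  carrier := {s | ∀ v ∈ U, ρ s v = v}
  one_mem' v _ := rho_one ρ v
  mul_mem' {x y} hx hy v hv := by rw [rho_mul, hy v hv, hx v hv]
  inv_mem' {x} hx v hv := by
    conv_lhs => rw [← hx v hv]
    exact rho_cancel ρ x v

omit [Finite S] in
theorem conj_three (b x : S) : b * (b * (b * x * b⁻¹) * b⁻¹) * b⁻¹ = b ^ 3 * x * (b ^ 3)⁻¹ := by
  simp only [pow_succ, pow_zero, one_mul, mul_inv_rev, mul_assoc]

variable {ρ : Representation (ZMod 3) S E} {b : S} {R Q : Subgroup S} {F : Submodule (ZMod 3) E}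

section
variable (C : Ctx ρ b R Q F)
include C

omit [Finite E] in
/-- If `b` centralizes an invariant space then so does `R`. -/
theorem Ctx.triv {N : Submodule (ZMod 3) E} (hN : ∀ r ∈ R, ∀ v ∈ N, ρ r v ∈ N)
    (hb : ∀ v ∈ N, ρ b v = v) : ∀ r ∈ R, ∀ v ∈ N, ρ r v = v := by
  refine C.gen (fixing ρ N) fun r hr v hv => ?_
  have h1 : ρ b⁻¹ v = v := by
    conv_lhs => rw [← hb v hv]
    exact rho_cancel ρ b v
  rw [rho_mul, rho_mul, rho_mul, h1, hb _ (hN _ (inv_mem hr) v hv), rho_cancel']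

omit [Finite E] in
theorem Ctx.invb' : ∀ v ∈ F, ρ b⁻¹ v ∈ F := fun v hv => by
  have : b⁻¹ = b * b := inv_eq_of_mul_eq_one_right (by rw [← C.hb3, pow_succ, pow_two, mul_assoc])
  rw [this, rho_mul]
  exact C.invb _ (C.invb v hv)

end

variable (C : Pre b Q)
include C

/-- No nonidentity element of the four-group is fixed by `b`. -/
theorem Pre.Q_move {q : S} (hq : q ∈ Q) (hq1 : q ≠ 1) : b * q * b⁻¹ ≠ q := by
  classical
  intro hfix
  obtain ⟨x, hx, hbx⟩ := C.bmove
  have hxq : x ≠ q := fun h => hbx (by rw [h]; exact mul_inv_eq_iff_eq_mul.1 hfix)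
  have hx1 : x ≠ 1 := fun h => hbx (by rw [h, mul_one, one_mul])
  letI := Fintype.ofFinite ↥Q
  have hfour : ∀ y ∈ Q, y = 1 ∨ y = q ∨ y = x ∨ y = q * x := by
    intro y hy
    by_contra hne
    simp only [not_or] at hne
    have h5 : ({⟨1, one_mem Q⟩, ⟨q, hq⟩, ⟨x, hx⟩, ⟨q * x, mul_mem hq hx⟩, ⟨y, hy⟩} : Finset ↥Q).card = 5 := by
      have hqx1 : q * x ≠ 1 := fun h => hxq (by
        rw [← inv_eq_of_mul_eq_one_right h]
        exact inv_eq_of_mul_eq_one_right (by rw [← pow_two]; exact C.Qsq q hq))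
      have hqxq : q * x ≠ q := fun h => hx1 (mul_left_cancel (h.trans (mul_one q).symm))
      have hqxx : q * x ≠ x := fun h => hq1 (mul_right_cancel (h.trans (one_mul x).symm))
      rw [Finset.card_insert_of_notMem (by simp [Subtype.ext_iff, Ne.symm hq1, Ne.symm hx1, Ne.symm hqx1, Ne.symm hne.1]),
        Finset.card_insert_of_notMem (by simp [Subtype.ext_iff, Ne.symm hxq, Ne.symm hqxq, Ne.symm hne.2.1]),
        Finset.card_insert_of_notMem (by simp [Subtype.ext_iff, Ne.symm hqxx, Ne.symm hne.2.2.1]),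
        Finset.card_insert_of_notMem (by simp [Subtype.ext_iff, Ne.symm hne.2.2.2]), Finset.card_singleton]
    have := Finset.card_le_univ ({⟨1, one_mem Q⟩, ⟨q, hq⟩, ⟨x, hx⟩, ⟨q * x, mul_mem hq hx⟩, ⟨y, hy⟩} : Finset ↥Q)
    rw [h5, ← Nat.card_eq_fintype_card, C.Qcard] at this
    omega
  have hne : b * x * b⁻¹ ≠ x := fun h => hbx (mul_inv_eq_iff_eq_mul.1 h)
  have himg : b * x * b⁻¹ = q * x := by
    rcases hfour _ (C.bQ x hx) with h | h | h | h
    · exact absurd (conj_eq_one_iff.1 h) hx1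
    · rw [← hfix] at h
      exact absurd (mul_left_cancel (mul_right_cancel h)) hxq
    · exact absurd h hne
    · exact h
  have h3 : b * (b * (b * x * b⁻¹) * b⁻¹) * b⁻¹ = x := by
    rw [conj_three, C.hb3, one_mul, inv_one, mul_one]
  have e : ∀ y, b * (q * y) * b⁻¹ = q * (b * y * b⁻¹) := fun y => by
    conv_rhs => rw [← hfix]
    group
  rw [himg, e, himg, ← mul_assoc q q x, ← pow_two, C.Qsq q hq, one_mul, himg] at h3
  exact hq1 (mul_right_cancel (h3.trans (one_mul x).symm))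

/-- The image of an element of the four-group. -/
theorem Pre.Q_triple {q : S} (hq : q ∈ Q) (hq1 : q ≠ 1) :
    b * (b * q * b⁻¹) * b⁻¹ = q * (b * q * b⁻¹) := by
  set q' := b * q * b⁻¹ with hq'
  have h1 : q' ∈ Q := C.bQ q hq
  have h2 := C.bQ q' h1
  have hq'1 : q' ≠ 1 := fun h => hq1 (conj_eq_one_iff.1 h)
  -- the product of the three conjugates is fixed by `b`
  have hb3' : b * (b * q' * b⁻¹) * b⁻¹ = q := by
    rw [hq', conj_three, C.hb3, one_mul, inv_one, mul_one]
  have hP : q * q' * (b * q' * b⁻¹) = 1 := by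
    by_contra hne
    refine C.Q_move (mul_mem (mul_mem hq h1) h2) hne ?_
    have e : ∀ x y : S, b * (x * y) * b⁻¹ = (b * x * b⁻¹) * (b * y * b⁻¹) := fun x y => by group
    rw [e, e, hb3', ← hq', C.Qc (q' * (b * q' * b⁻¹)) (mul_mem h1 h2) q hq]
    exact (mul_assoc q q' _).symm
  rw [← inv_eq_of_mul_eq_one_right hP]
  exact inv_eq_of_mul_eq_one_right (by rw [← pow_two]; exact C.Qsq _ (mul_mem hq h1))

omit [Finite E] in
/-- A space invariant under `b` and the four-group, and moved by the latter, contains a block. -/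
theorem Pre.exists_block {U : Submodule (ZMod 3) E} (hUb : ∀ v ∈ U, ρ b v ∈ U)
    (hUQ : ∀ q ∈ Q, ∀ v ∈ U, ρ q v ∈ U) (hmv : ∃ q ∈ Q, ∃ v ∈ U, ρ q v ≠ v) :
    ∃ u ∈ U, LinearIndependent (ZMod 3) ![u, ρ b u, ρ b (ρ b u)] := by
  obtain ⟨q, hq, v, hv, hqv⟩ := hmv
  have hq1 : q ≠ 1 := fun h => hqv (by rw [h, rho_one])
  have hsq : ∀ x ∈ Q, ∀ w, ρ x (ρ x w) = w := fun x hx w => by
    rw [← rho_mul, ← pow_two, C.Qsq x hx, rho_one]
  set q' := b * q * b⁻¹ with hq'
  have hq'Q : q' ∈ Q := C.bQ q hq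
  set u0 := v - ρ q v with hu0
  have hu0U : u0 ∈ U := U.sub_mem hv (hUQ q hq v hv)
  have hu0q : ρ q u0 = -u0 := by rw [hu0, map_sub, hsq q hq, neg_sub]
  have hu00 : u0 ≠ 0 := fun h => hqv (sub_eq_zero.1 h).symm
  have hcom : ρ q (ρ q' u0) = -(ρ q' u0) := by
    rw [← rho_mul, C.Qc q hq q' hq'Q, rho_mul, hu0q, map_neg]
  -- a common eigenvector
  obtain ⟨u, hu, hu1, huq, huq'⟩ : ∃ u ∈ U, u ≠ 0 ∧ ρ q u = -u ∧ (ρ q' u = u ∨ ρ q' u = -u) := by
    by_cases h : u0 + ρ q' u0 = 0
    · exact ⟨u0, hu0U, hu00, hu0q, Or.inr (eq_neg_of_add_eq_zero_right h)⟩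
    · refine ⟨u0 + ρ q' u0, U.add_mem hu0U (hUQ q' hq'Q _ hu0U), h, ?_, Or.inl ?_⟩
      · rw [map_add, hu0q, hcom, neg_add]
      · rw [map_add, hsq q' hq'Q, add_comm]
  refine ⟨u, hu, ?_⟩
  have hconj : ∀ x : S, ∀ w, ρ (b * x * b⁻¹) (ρ b w) = ρ b (ρ x w) := fun x w => by
    rw [rho_mul, rho_cancel, rho_mul]
  have h3 := C.Q_triple hq hq1
  have hb3' : b * (b * q' * b⁻¹) * b⁻¹ = q := by
    rw [hq', conj_three, C.hb3, one_mul, inv_one, mul_one]
  set w1 := ρ b u with hw1
  set w2 := ρ b w1 with hw2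
  -- signs of the three elements on the three vectors
  obtain ⟨s, hs, hs1, hs'⟩ : ∃ s : ZMod 3, (s = 1 ∨ s = -1) ∧ ρ q' u = s • u ∧ ρ (q * q') u = -(s • u) := by
    rcases huq' with h | h
    · exact ⟨1, Or.inl rfl, by rw [h, one_smul], by rw [rho_mul, h, huq, one_smul]⟩
    · exact ⟨-1, Or.inr rfl, by rw [h, neg_one_smul], by rw [rho_mul, h, map_neg, huq, neg_one_smul]⟩
  have hqq : b * (q * q') * b⁻¹ = q := by
    rw [show b * (q * q') * b⁻¹ = (b * q * b⁻¹) * (b * q' * b⁻¹) by group, ← hq', h3]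
    rw [← hq', ← mul_assoc, C.Qc q' hq'Q q hq, mul_assoc, ← pow_two, C.Qsq q' hq'Q, mul_one]
  have a1 : ρ q' w1 = -w1 := by rw [hq', hw1, hconj, huq, map_neg]
  have b1 : ρ q w1 = -(s • w1) := by rw [← hqq, hw1, hconj, hs', map_neg, map_smul]
  have c1 : ρ (q * q') w1 = s • w1 := by rw [rho_mul, a1, map_neg, b1, neg_neg]
  have a2 : ρ q w2 = s • w2 := by rw [← hqq, hw2, hconj, c1, map_smul]
  have b2 : ρ q' w2 = -(s • w2) := by rw [hq', hw2, hconj, b1, map_neg, map_smul]
  have hne1 : w1 ≠ 0 := fun h => hu1 (rho_inj ρ b (h.trans (map_zero _).symm))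
  have hne2 : w2 ≠ 0 := fun h => hne1 (rho_inj ρ b (h.trans (map_zero _).symm))
  rw [Fintype.linearIndependent_iff]
  intro g hg
  simp only [Fin.sum_univ_three, Matrix.cons_val_zero, Matrix.cons_val_one, Matrix.cons_val_two,
    Matrix.tail_cons, Matrix.head_cons] at hg
  set x := g 0 • u with hx
  set y := g 1 • w1 with hy
  set z := g 2 • w2 with hz
  have hxq : ρ q x = -x := by rw [hx, map_smul, huq, smul_neg]
  have hxq' : ρ q' x = s • x := by rw [hx, map_smul, hs1, smul_comm]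
  have hyq : ρ q y = -(s • y) := by rw [hy, map_smul, b1, smul_neg, smul_comm]
  have hyq' : ρ q' y = -y := by rw [hy, map_smul, a1, smul_neg]
  have hzq : ρ q z = s • z := by rw [hz, map_smul, a2, smul_comm]
  have hzq' : ρ q' z = -(s • z) := by rw [hz, map_smul, b2, smul_neg, smul_comm]
  have e1 := congrArg (ρ q) hg
  have e2 := congrArg (ρ q') hg
  rw [map_add, map_add, map_zero, hxq, hyq, hzq] at e1
  rw [map_add, map_add, map_zero, hxq', hyq', hzq'] at e2
  obtain ⟨hx0, hy0, hz0⟩ : x = 0 ∧ y = 0 ∧ z = 0 := by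
    rcases hs with rfl | rfl
    · simp only [one_smul] at e1 e2
      -- the three vectors lie in three different eigenspaces
      have A : z + z = 0 := by
        calc z + z = (x + y + z) + (-x + -y + z) := by abel
          _ = 0 := by rw [hg, e1, add_zero]
      have B : x + x = 0 := by
        calc x + x = (x + y + z) + (x + -y + -z) := by abel
          _ = 0 := by rw [hg, e2, add_zero]
      have hz0 := eq_zero_of_add_self A
      have hx0 := eq_zero_of_add_self B
      rw [hx0, hz0, zero_add, add_zero] at hg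
      exact ⟨hx0, hg, hz0⟩
    · simp only [neg_one_smul, neg_neg] at e1 e2
      have A : y + y = 0 := by
        calc y + y = (x + y + z) + (-x + y + -z) := by abel
          _ = 0 := by rw [hg, e1, add_zero]
      have B : z + z = 0 := by
        calc z + z = (x + y + z) + (-x + -y + z) := by abel
          _ = 0 := by rw [hg, e2, add_zero]
      have hy0 := eq_zero_of_add_self A
      have hz0 := eq_zero_of_add_self B
      rw [hy0, hz0, add_zero, add_zero] at hg
      exact ⟨hg, hy0, hz0⟩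
  intro i
  fin_cases i
  · exact (smul_eq_zero.1 hx0).resolve_right hu1
  · exact (smul_eq_zero.1 hy0).resolve_right hne1
  · exact (smul_eq_zero.1 hz0).resolve_right hne2

end Cfsg.Agent.Solv.ThreeBlock
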